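import Mathlib
import Cfsg.Agent.Lib.M22T.Data
import Cfsg.Agent.Lib.M22T.Rec

/-!
# Involution centralizers `2.U6(2).2`: the conjugates of the central involution in the centralizer
-/

set_option autoImplicit false

namespace CfsgLib.Rec3B.AF

open Cfsg CfsgLib.Comput CfsgLib.ThreeTrans CfsgLib.FiTool CfsgLib.M22T Subgroup

variable {G : Type*} [Group G]

/-- the value of a functional -/
noncomputable def fn (φ v : ℕ) : ℕ := synM (fun j => Nat.land (Nat.shiftRight φ j) 1) 10 v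

theorem fn_zero (v : ℕ) : fn 0 v = 0 := by
  have := synM_lt (co := fun j => Nat.land (Nat.shiftRight 0 j) 1) (N := 10) (k := 0)
    (fun i _ => show (0 >>> i) &&& 1 < _ by simp) v
  unfold fn; omega

/-- the group generated by the base -/
abbrev AA (f : ℕ → G) : Subgroup G := closure (bset f 22)

theorem memA (f : ℕ → G) {i : ℕ} (hi : i < 22) : f i ∈ AA f := subset_closure ⟨i, hi, rfl⟩

theorem memV {f : ℕ → G} (v : ℕ) : bprod f 10 v ∈ AA f := bprod_mem fun i hi _ => memA f (by omega)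

theorem exists_fn {f : ℕ → G} {U : Subgroup G} (h : ∀ a ∈ AA f, ∀ b ∈ AA f, a ∉ U → b ∉ U → a * b ∈ U) :
    ∃ φ < 2 ^ 10, ∀ v, bprod f 10 v ∈ U ↔ fn φ v = 0 := by
  classical
  refine ⟨maskL ((List.range 10).filter fun j => f j ∉ U), maskL_lt fun i hi => List.mem_range.1 (List.mem_filter.1 hi).1,
    fun v => ?_⟩
  unfold fn
  generalize hδ : (fun j => Nat.land (Nat.shiftRight (maskL ((List.range 10).filter fun j => f j ∉ U)) j) 1) = δ
  have h1 : ∀ j < 10, δ j = if f j ∈ U then 0 else 1 := fun j hj => by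
    have e : δ j = (maskL ((List.range 10).filter fun j => f j ∉ U) >>> j) &&& 1 := by rw [← hδ]; rfl
    have e2 := (testBit_maskL ((List.range 10).filter fun j => f j ∉ U) j).trans List.mem_filter
    rw [Nat.testBit_eq_decide_div_mod_eq, decide_eq_true_eq, decide_eq_true_eq, List.mem_range] at e2
    rw [e, Nat.and_one_is_mod, Nat.shiftRight_eq_div_pow]
    split_ifs with h2
    · exact (Nat.mod_two_eq_zero_or_one _).resolve_right fun h3 => (e2.1 h3).2 h2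
    · exact e2.2 ⟨hj, h2⟩
  have key : ∀ k ≤ 10, bprod f k v ∈ AA f ∧ synM δ k v ≤ 1 ∧ (bprod f k v ∈ U ↔ synM δ k v = 0) := fun k hk => by
    induction k with
    | zero => exact ⟨one_mem _, Nat.zero_le _, iff_of_true (one_mem _) rfl⟩
    | succ k ih =>
      obtain ⟨h2, h3, h4⟩ := ih (by omega)
      have h5 := memA f (show k < 22 by omega)
      rw [bprod_succ, synM_succ, h1 k hk]
      split_ifs with h6 h7
      · exact ⟨mul_mem h2 h5, by simpa using h3, by simpa [mul_mem_cancel_right h7] using h4⟩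
      · refine ⟨mul_mem h2 h5, ?_, ?_⟩
        · rcases Nat.le_one_iff_eq_zero_or_eq_one.1 h3 with e | e <;> simp [e]
        · rcases Nat.le_one_iff_eq_zero_or_eq_one.1 h3 with e | e <;> rw [e] at h4 ⊢
          · exact iff_of_false (fun h8 => h7 ((mul_mem_cancel_left (h4.2 rfl)).1 h8)) (by simp)
          · exact iff_of_true (h _ h2 _ h5 (fun h8 => by simpa using h4.1 h8) h7) (by simp)
      · simpa using ⟨h2, h3, h4⟩
  exact (key 10 le_rfl).2.2

/-- the subgroup of index two in the centralizer of a conjugate -/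
def Lx (H : Subgroup G) (g : G) : Subgroup G := H.comap (MulAut.conj g⁻¹).toMonoidHom

theorem mem_Lx {H : Subgroup G} {g y : G} : y ∈ Lx H g ↔ g⁻¹ * y * g ∈ H := by simp [Lx, mem_comap]

/-- the possibilities for the set of the conjugates in the group of the base -/
noncomputable def pOm (co : ℕ → ℕ) (M : ℕ) : Bool :=
  bor (bnot (tb M 1)) <| bor (tb M 6) <| bor (tb M 7) <|
    bor (band (band (allL (tb M) [14, 26, 44, 54]) (allL (fun v => bnot (tb M v)) [20, 34, 56]))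
      (allI (fun v => bor (bnot (tb M v)) (bor (Nat.beq v 1) (tb M (Nat.xor 1 v)))) 0 (2 ^ 10))) <|
    bor (anyL (fun x => band (tb M x) (bnot (Nat.beq (tau (2 ^ 10) M x) (tau (2 ^ 10) M 1)))) [2, 3]) <| bor (Nat.beq M 2) <|
      bor (Nat.beq M (maskL ((List.range 22).map co)))
        (Nat.beq M (maskL (1 :: (List.range' 1 21).map fun i => Nat.xor 1 (co i))))

/-- the tests on the coordinates -/
structure Ck (co : ℕ → ℕ) (os : List (ℕ × ℕ)) : Prop where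
  nb : orbOK (stV co (tabP ft22a) 10) (2 ^ 10) os (fun S => Nat.ble (pop (2 ^ 10) S) 21)
    (pY co 22 10 1 fun M => Nat.beq M (maskL ((List.range' 1 21).map co))) = true
  sum : synM co 22 (maskL (List.range' 1 21)) ≤ 1
  om : orbOK (stV co (tabP ft22a) 10) (2 ^ 10) os (fun S => bnot (tb S 0)) (pOm co) = true
  w1 : ∀ x ∈ [2, 3], allI (fun φ => bor (Nat.beq φ 0) <| bor (bnot (Nat.beq (fn φ x) 0)) <| anyI (fun m => anyI (fun i =>
    bnot (Nat.beq (fn φ (Nat.xor (co i) (co (tabP ft22b m i)))) 0)) 22) 4) 0 (2 ^ 10) = true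
  dual : allI (fun φ => bor (Nat.beq φ 0) (force (cntA (fun i => bnot (Nat.beq (fn φ (co i)) 0)) 22 0) fun n =>
    band (Nat.ble 7 n) (Nat.ble n 21))) 0 (2 ^ 10) = true
  pair : (force (maskL ((List.range 22).map co)) fun M => allI (fun i => allI (fun j => allI (fun k => bor (Nat.beq i j) <|
    bor (Nat.beq i k) <| bor (Nat.beq j k) (bnot (tb M (Nat.xor (Nat.xor (co i) (co j)) (co k))))) 0 22) 0 22) 0 22) = true

/-- the data in the subgroup `H` of index two of the centralizer of `d` -/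
structure Fr (d : G) (H : Subgroup G) (E : Set G) (f : ℕ → G) (co : ℕ → ℕ) : Prop where
  le : ∀ x ∈ H, Commute x d
  idx : ∀ a b, Commute a d → Commute b d → a ∉ H → b ∉ H → a * b ∈ H
  lin : Lin 22 10 f co
  f0 : f 0 = d
  d1 : d ≠ 1
  fH : ∀ i < 22, f i ∈ H
  EH : ∀ x ∈ E, x ∈ H
  cjE : ∀ c ∈ H, ∀ x ∈ E, c * x * c⁻¹ ∈ E
  tr : ∀ x ∈ E, ∀ y ∈ E, Commute x y → ∃ c ∈ H, c * x * c⁻¹ = f 1 ∧ c * y * c⁻¹ ∈ AA f
  EA : ∀ x, x ∈ AA f ∧ x ∈ E ↔ ∃ i ∈ List.range' 1 21, f i = x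
  inj : ∀ i < 22, ∀ j < 22, f i = f j → i = j
  iv : ∀ t ∈ H, t * t = 1 ∨ t * t = d → ∃ c ∈ H, c * t * c⁻¹ ∈ AA f
  jf : ∀ P ≤ H, IsPGroup 2 P → d ∈ P → ∃ c ∈ H, ∀ B ≤ P, (∀ x ∈ B, x * x = 1) → d ∈ B → 2 ^ 10 ≤ Nat.card B →
    ∀ x ∈ B, c * x * c⁻¹ ∈ AA f
  a0 : Act (normalizer (AA f : Set G) ⊓ H) 22 f (tabP ft22a)
  a1 : Act (centralizer {d, f 1}) 22 f (tabP ft22b)
  q8 : ∀ x ∈ [6, 7], ∃ u u', u * u = bprod f 10 x ∧ u' * u' = bprod f 10 x ∧ u * u' * (u * u') = bprod f 10 x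
  r4 : ∀ x ∈ E, ∀ y ∈ E, ∀ z ∈ E, x ≠ y → x ≠ z → y ≠ z → Commute x y → Commute x z → Commute y z →
    x * y * z ≠ 1 ∧ x * y * z ≠ d

theorem comm_conj {g d y : G} : Commute (g⁻¹ * y * g) d ↔ Commute y (g * d * g⁻¹) := by
  rw [← commute_conj_iff g]; simp [mul_assoc]

theorem isConj_cj {d y : G} (n : G) : IsConj d (n * y * n⁻¹) ↔ IsConj d y :=
  ⟨fun h => h.trans (isConj_iff.2 ⟨n, rfl⟩).symm, fun h => h.trans (isConj_iff.2 ⟨n, rfl⟩)⟩

namespace Fr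

variable {d : G} {H : Subgroup G} {E : Set G} {f : ℕ → G} {co : ℕ → ℕ} (F : Fr d H E f co)
include F

theorem d2 : d * d = 1 := F.f0 ▸ F.lin.sq 0 (by norm_num)

theorem p1 : bprod f 10 1 = d := (bprod_two_pow (j := 0) (by norm_num)).trans F.f0

omit F in
theorem p2 : bprod f 10 2 = f 1 := bprod_two_pow (j := 1) (by norm_num)

theorem p3 : bprod f 10 3 = d * f 1 := by
  have := F.lin.xor 1 2
  rwa [F.p1, p2] at this

theorem dA : d ∈ AA f := F.f0 ▸ memA f (by norm_num)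

theorem AH : AA f ≤ H := (closure_le _).2 (by rintro _ ⟨i, hi, rfl⟩; exact F.fH i hi)

theorem dH : d ∈ H := F.AH F.dA

theorem nrm {c x : G} (hc : Commute c d) (hx : x ∈ H) : c * x * c⁻¹ ∈ H := by
  by_cases h : c ∈ H
  · exact mul_mem (mul_mem h hx) (inv_mem h)
  · exact F.idx _ _ (hc.mul_left (F.le x hx)) hc.inv_left (fun e => h ((mul_mem_cancel_right hx).1 e)) fun e => h (inv_mem_iff.1 e)

theorem idx' {g a b : G} (ha : Commute a (g * d * g⁻¹)) (hb : Commute b (g * d * g⁻¹)) (h1 : a ∉ Lx H g) (h2 : b ∉ Lx H g) :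
    a * b ∈ Lx H g := by
  rw [mem_Lx] at *
  simpa [mul_assoc] using F.idx _ _ (comm_conj.2 ha) (comm_conj.2 hb) h1 h2

theorem Lx_of {g g' y : G} (e : g * d * g⁻¹ = g' * d * g'⁻¹) (h : y ∈ Lx H g) : y ∈ Lx H g' := by
  rw [mem_Lx] at *
  have h1 : Commute (g'⁻¹ * g) d := by
    rw [Commute, SemiconjBy]
    calc g'⁻¹ * g * d = g'⁻¹ * (g * d * g⁻¹) * g := by group
      _ = _ := by rw [e]; group
  simpa [mul_assoc] using F.nrm h1 h

theorem pair_mem {g c a : G} (hc : Commute c (g * d * g⁻¹)) (ha : Commute a (g * d * g⁻¹)) :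
    a * (c * a * c⁻¹) ∈ Lx H g := by
  have e : ∀ {c a : G}, Commute c (g * d * g⁻¹) → a ∈ Lx H g → c * a * c⁻¹ ∈ Lx H g := fun {c a} hc h => by
    rw [mem_Lx] at *
    simpa [mul_assoc] using F.nrm (comm_conj.2 hc) h
  by_cases h : a ∈ Lx H g
  · exact mul_mem h (e hc h)
  · exact F.idx' ha ((hc.mul_left ha).mul_left hc.inv_left) h fun h1 => h (by simpa [mul_assoc] using e hc.inv_left h1)

theorem sq_conj {x : G} (h : IsConj d x) : x * x = 1 := by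
  obtain ⟨g, rfl⟩ := isConj_iff.1 h
  rw [conj_mul, F.d2]; simp

theorem not_q8 {x : ℕ} (hx : x ∈ [6, 7]) : ¬ IsConj d (bprod f 10 x) := fun h => by
  obtain ⟨g, hg⟩ := isConj_iff.1 h
  obtain ⟨u, u', h1, h2, h3⟩ := F.q8 x hx
  rw [← hg] at h1 h2 h3
  have key : ∀ u, u * u = g * d * g⁻¹ → u ∉ Lx H g := fun u e h => by
    have e' : g⁻¹ * u * g * (g⁻¹ * u * g) = d := by
      calc _ = g⁻¹ * (u * u) * g := by group
        _ = d := by rw [e]; group
    obtain ⟨c, -, hc⟩ := F.iv _ (mem_Lx.1 h) (Or.inr e')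
    exact F.d1 (e'.symm.trans (sq_of_conj (F.lin.V_sq hc)))
  exact key _ h3 (F.idx' (h1 ▸ (Commute.refl u).mul_right (Commute.refl u)) (h2 ▸ (Commute.refl u').mul_right (Commute.refl u'))
    (key u h1) (key u' h2))

variable {os : List (ℕ × ℕ)}

theorem w1 (K : Ck co os) {x : ℕ} (hx : x ∈ [2, 3]) {g : G} (hg : g * d * g⁻¹ = bprod f 10 x) : AA f ≤ Lx H g := by
  have hA : ∀ a ∈ AA f, Commute a (g * d * g⁻¹) := fun a ha => hg ▸ F.lin.V_comm ha (memV x)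
  obtain ⟨φ, h1, h2⟩ := exists_fn (f := f) (U := Lx H g) fun a ha b hb => F.idx' (hA a ha) (hA b hb)
  rcases bor_eq_true.1 (allI_zero (K.w1 x hx) φ h1) with h | h
  · intro a ha
    obtain ⟨v, -, rfl⟩ := F.lin.mem_V.1 ha
    rw [h2, Nat.eq_of_beq_eq_true h, fn_zero]
  rcases bor_eq_true.1 h with h | h
  · exact absurd ((h2 x).1 (hg ▸ mem_Lx.2 (by simpa [mul_assoc] using F.dH))) (ne_of_bnot_beq h)
  · obtain ⟨m, -, h⟩ := anyI_sound h
    obtain ⟨i, hi, h⟩ := anyI_sound h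
    obtain ⟨c, hc, h3⟩ := F.a1 m
    refine absurd ((h2 _).1 ?_) (ne_of_bnot_beq h)
    rw [show Nat.xor (co i) (co (tabP ft22b m i)) = co i ^^^ co (tabP ft22b m i) from rfl, F.lin.xor, ← F.lin.rel i hi,
      ← F.lin.rel _ (h3 i hi).1, ← (h3 i hi).2]
    refine F.pair_mem ?_ (hA _ (memA f hi))
    have h4 : Commute d c := hc _ (by simp)
    have h5 : Commute (f 1) c := hc _ (by simp)
    simp only [List.mem_cons, List.not_mem_nil, or_false] at hx
    rcases hx with rfl | rfl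
    · rw [hg, p2]; exact h5.symm
    · rw [hg, F.p3]; exact (h4.mul_left h5).symm

variable [Finite G]

theorem exists_norm {g : G} (h1 : g * d * g⁻¹ ∈ AA f) (h2 : AA f ≤ Lx H g) :
    ∃ c ∈ H, g * c ∈ normalizer (AA f : Set G) := by
  let B := (AA f).comap (MulAut.conj g).toMonoidHom
  have h3 : ∀ y ∈ B, y * y = 1 := fun y hy => sq_of_conj (F.lin.V_sq hy)
  obtain ⟨c, h4, h5⟩ := F.jf B (fun y hy => by simpa [mul_assoc] using mem_Lx.1 (h2 hy))
    (fun y => ⟨1, Subtype.ext (by simpa [pow_two] using h3 y y.2)⟩) h1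
  refine ⟨c⁻¹, inv_mem h4, ?_⟩
  rw [← inv_mem_iff, mul_inv_rev, inv_inv]
  refine mem_normalizer_fintype fun y hy => ?_
  simpa [mul_assoc] using h5 B le_rfl h3 h1 (by
    rw [← F.lin.card_V]
    exact (Nat.card_congr ((MulAut.conj g).toEquiv.subtypeEquiv fun _ => Iff.rfl)).ge) (g⁻¹ * y * g) (by simpa [B, mul_assoc] using hy)

theorem perm (K : Ck co os) {n : G} (h1 : n ∈ normalizer (AA f : Set G)) (hc : Commute n d) {i : ℕ}
    (hi : i ∈ List.range' 1 21) : ∃ j ∈ List.range' 1 21, f j = n * f i * n⁻¹ := by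
  obtain ⟨M, hM⟩ := exists_msk 10 f {y | y ∈ AA f ∧ n⁻¹ * y * n ∈ E}
  have hl : ∀ i ∈ List.range' 1 21, i ≠ 0 ∧ i < 22 := fun i hi => by rw [List.mem_range'_1] at hi; omega
  have h3 : ∀ y, y ∈ {y | y ∈ AA f ∧ n⁻¹ * y * n ∈ E} ↔ ∃ i ∈ List.range' 1 21, n * f i * n⁻¹ = y := fun y => by
    obtain ⟨y, rfl⟩ : ∃ y', y = n * y' * n⁻¹ := ⟨n⁻¹ * y * n, by group⟩
    simp only [mul_left_inj, mul_right_inj, ← F.EA, Set.mem_ofPred_eq, ← mem_normalizer_iff.1 h1 y]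
    simp [mul_assoc]
  obtain ⟨h4, h5⟩ := F.lin.msk_image (List.nodup_range' ..) (fun i hi => (h1 _).1 (memA f (hl i hi).2))
    (fun i hi j hj e => F.inj i (hl i hi).2 j (hl j hj).2 (by simpa using e)) h3 hM
  rw [List.length_range'] at h4
  have h0 := F.lin.orb F.a0 K.nb (Q := {y | y ∈ AA f ∧ n⁻¹ * y * n ∈ E}) (fun c hc' y hy => ⟨(hc'.1 _).1 hy.1, by
    simpa [mul_assoc] using F.cjE _ (F.nrm hc.inv_left hc'.2) _ hy.2⟩) hM fun T hT =>
      Nat.ble_eq_true_of_le (by rw [pop_eq (by norm_num), ← h4]; exact cnt_mono hT)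
  have h7 := Nat.eq_of_beq_eq_true (((bor_eq_true.1 ((bor_eq_true.1 h0).resolve_left fun h =>
    ne_of_bnot_beq h ((pop_eq (by norm_num) M).trans h4))).resolve_left fun h => ne_of_bnot_beq h (by
      have h6 : ((List.range' 1 21).map fun i => n * f i * n⁻¹).prod =
          n * bprod f 10 (synM co 22 (maskL (List.range' 1 21))) * n⁻¹ := by
        rw [← F.lin.syn, ← prod_eq_bprod F.lin.comm (List.nodup_range' ..) fun i hi => (hl i hi).2, ← prod_cjL, cjL, List.map_map]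
        rfl
      have hs := K.sum
      refine F.lin.eq (synM_lt (fun i hi => hi) _) (lt_of_le_of_lt (by simpa using hs) (show 1 < _ by norm_num)) ?_
      rw [h5, h6, one_mul]
      rcases Nat.le_one_iff_eq_zero_or_eq_one.1 hs with e | e <;> rw [e]
      · simp [bprod_zero]
      · rw [F.p1, hc.eq, mul_inv_cancel_right])))
  obtain ⟨v, hv, e⟩ := F.lin.mem_V.1 ((h1 _).1 (memA f (hl i hi).2))
  obtain ⟨j, hj, rfl⟩ := List.mem_map.1 ((testBit_maskL _ _).1 (h7 ▸ (hM v).2 ⟨hv, (h3 _).2 ⟨i, hi, e.symm⟩⟩))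
  exact ⟨j, hj, (F.lin.rel j (hl j hj).2).trans e⟩

theorem cjE' (K : Ck co os) {c x : G} (hc : Commute c d) (hx : x ∈ E) : c * x * c⁻¹ ∈ E := by
  obtain ⟨l, hl, hn⟩ := F.exists_norm (g := c) (by rw [hc.eq, mul_inv_cancel_right]; exact F.dA) fun a ha =>
    mem_Lx.2 (by simpa using F.nrm hc.inv_left (F.AH ha))
  obtain ⟨j, hj, e⟩ := F.perm K hn (hc.mul_left (F.le l hl)) (i := 1) (by decide)
  obtain ⟨k, hk, h1, -⟩ := F.tr x hx x hx (Commute.refl x)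
  have := F.cjE _ (F.nrm hc (inv_mem (mul_mem hl hk))) _ ((F.EA _).2 ⟨j, hj, rfl⟩).2
  rw [e, ← h1] at this
  simpa [mul_assoc] using this

theorem exists_norm' {g : G} (h1 : g * d * g⁻¹ ∈ AA f) (h2 : AA f ≤ Lx H g) :
    ∃ n ∈ normalizer (AA f : Set G), n * d * n⁻¹ = g * d * g⁻¹ := by
  obtain ⟨c, h3, h4⟩ := F.exists_norm h1 h2
  refine ⟨_, h4, ?_⟩
  calc g * c * d * (g * c)⁻¹ = g * (c * d * c⁻¹) * g⁻¹ := by group
    _ = _ := by rw [(F.le c h3).eq, mul_inv_cancel_right]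

theorem omega (K : Ck co os) (hn : ∃ g : G, g * d * g⁻¹ ∈ H ∧ g * d * g⁻¹ ≠ d) :
    ∃ ε, (ε = 1 ∨ ε = d) ∧ ∀ x ∈ AA f, IsConj d x ↔ x = d ∨ ε * x ∈ E := by
  obtain ⟨M, hM⟩ := exists_msk 10 f (conjugatesOf d)
  have h0 := F.lin.orb F.a0 K.om (fun c _ x hx => hx.trans (isConj_iff.2 ⟨c, rfl⟩)) hM fun T hT => bnot_eq_true.2 (by
    rw [tb_eq, ← Bool.not_eq_true]
    exact fun h => F.d1 (isConj_one_left.1 (bprod_zero f 10 ▸ ((hM 0).1 (hT 0 h)).2)))
  have ht : ∀ x < 2 ^ 10, tau (2 ^ 10) M x = {y | y ∈ AA f ∧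
      y ∈ {y | IsConj d y ∧ IsConj d (bprod f 10 x * y)}}.ncard := fun x hx => (F.lin.ncard_eq _ fun v hv => by
    rw [band_eq_true, tb_eq, tb_eq, hM, hM, show x.xor v = x ^^^ v from rfl, F.lin.xor]
    exact ⟨fun h => ⟨h.1.2, h.2.2⟩, fun h => ⟨⟨hv, h.1⟩, Nat.xor_lt_two_pow hx hv, h.2⟩⟩).symm
  have key : ∀ {l : List ℕ}, M = maskL l → ∀ x ∈ AA f, IsConj d x ↔ ∃ v ∈ l, bprod f 10 v = x := fun {l} e x hx => by
    obtain ⟨v, hv, rfl⟩ := F.lin.mem_V.1 hx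
    refine ⟨fun h => ⟨v, (testBit_maskL _ _).1 (e ▸ (hM v).2 ⟨hv, h⟩), rfl⟩, fun ⟨w, h, e'⟩ => ?_⟩
    exact e' ▸ ((hM w).1 (e ▸ (testBit_maskL _ _).2 h)).2
  have iv : ∀ x ∈ H, IsConj d x → x ≠ d → ∃ c ∈ H, ∃ v < 2 ^ 10, v ≠ 1 ∧ M.testBit v = true ∧ bprod f 10 v = c * x * c⁻¹ :=
    fun x hx h ne => by
      obtain ⟨c, h3, h4⟩ := F.iv x hx (Or.inl (F.sq_conj h))
      obtain ⟨v, hv, e⟩ := F.lin.mem_V.1 h4
      refine ⟨c, h3, v, hv, fun e' => ne ?_, (hM v).2 ⟨hv, e ▸ (isConj_cj c).2 h⟩, e⟩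
      rw [e', F.p1, eq_mul_inv_iff_mul_eq, ← (F.le c h3).eq, mul_right_inj] at e
      exact e.symm
  simp only [pOm, bor_eq_true, bnot_eq_true, band_eq_true, tb_eq] at h0
  rcases h0 with h0 | h0 | h0 | ⟨⟨h0, h1⟩, h2⟩ | h0 | h0 | h0 | h0
  · rw [(hM 1).2 ⟨by norm_num, F.p1.symm ▸ IsConj.refl d⟩] at h0
    exact absurd h0 (by simp)
  · exact absurd ((hM 6).1 h0).2 (F.not_q8 (by simp))
  · exact absurd ((hM 7).1 h0).2 (F.not_q8 (by simp))
  · exfalso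
    have h0 : ∀ v ∈ [14, 26, 44, 54], IsConj d (bprod f 10 v) := fun v hv => ((hM v).1 (tb_eq M v ▸ allL_sound h0 v hv)).2
    obtain ⟨g, hg⟩ := isConj_iff.1 (h0 14 (by simp))
    have h3 : ∀ v ∈ [14, 26, 44, 54], v ≠ 14 → 14 ^^^ v ∈ [20, 34, 56] → bprod f 10 v ∉ Lx H g := fun v hv ne hv' h => by
      have hv0 : v < 2 ^ 10 := (by decide : ∀ v ∈ [14, 26, 44, 54], v < 2 ^ 10) v hv
      obtain ⟨c, hc, w, hw, w1, h4, e⟩ := iv _ (mem_Lx.1 h) (by simpa using (isConj_cj g⁻¹).2 (h0 v hv)) fun e =>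
        ne (F.lin.eq hv0 (by norm_num) (by rw [← hg, ← e]; group))
      have h5 := allI_zero h2 w hw
      simp only [bor_eq_true, bnot_eq_true, tb_eq, h4, Nat.beq_eq, w1, false_or, Bool.true_eq_false] at h5
      have h6 := ((hM _).1 h5).2
      rw [show Nat.xor 1 w = 1 ^^^ w from rfl, F.lin.xor, F.p1, e] at h6
      have h7 := bnot_eq_true.1 (allL_sound h1 _ hv')
      rw [← Bool.not_eq_true, hM, F.lin.xor, ← hg] at h7
      refine h7 ⟨Nat.xor_lt_two_pow (by norm_num) hv0, h6.trans (isConj_iff.2 ⟨g * c⁻¹, ?_⟩)⟩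
      calc _ = g * (c⁻¹ * d * c) * g⁻¹ * bprod f 10 v := by group
        _ = _ := by rw [(F.le c hc).inv_left.eq, inv_mul_cancel_right]
    refine h3 54 (by simp) (by norm_num) (by decide) ?_
    rw [show 54 = 26 ^^^ 44 from rfl, F.lin.xor]
    exact F.idx' (hg ▸ F.lin.V_comm (memV _) (memV _)) (hg ▸ F.lin.V_comm (memV _) (memV _))
      (h3 26 (by simp) (by norm_num) (by decide)) (h3 44 (by simp) (by norm_num) (by decide))
  · obtain ⟨x, hx, h0⟩ := anyL_sound h0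
    rw [band_eq_true, hM] at h0
    obtain ⟨g, hg⟩ := isConj_iff.1 h0.1.2
    obtain ⟨n, h1, h2⟩ := F.exists_norm' (hg ▸ memV x) (F.w1 K hx hg)
    refine absurd ?_ (ne_of_bnot_beq h0.2)
    rw [ht x h0.1.1, ht 1 (by omega), F.p1, ← hg, ← h2, ← Set.ncard_image_of_injective _ (MulAut.conj n⁻¹).injective]
    congr 1
    ext y
    refine (Set.mem_image_equiv (f := (MulAut.conj n⁻¹).toEquiv)).trans ?_
    change n⁻¹⁻¹ * y * n⁻¹ ∈ _ ∧ IsConj d (n⁻¹⁻¹ * y * n⁻¹) ∧ IsConj d (_ * (n⁻¹⁻¹ * y * n⁻¹)) ↔ _ ∧ _ ∧ _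
    rw [inv_inv, ← (mem_normalizer_iff.1 h1 y), isConj_cj, show n * d * n⁻¹ * (n * y * n⁻¹) = n * (d * y) * n⁻¹ by group,
      isConj_cj]
  · obtain ⟨g, h1, h2⟩ := hn
    obtain ⟨c, -, v, -, h3, h4, -⟩ := iv _ h1 (isConj_iff.2 ⟨g, rfl⟩) h2
    rw [Nat.eq_of_beq_eq_true h0, show 2 = maskL [1] from rfl, testBit_maskL] at h4
    exact absurd (by simpa using h4) h3
  · refine ⟨1, Or.inl rfl, fun x hx => (key (Nat.eq_of_beq_eq_true h0) x hx).trans ?_⟩
    simp only [List.mem_map, List.mem_range, exists_exists_and_eq_and, one_mul]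
    refine ⟨fun ⟨i, hi, e⟩ => ?_, ?_⟩
    · rw [← F.lin.rel i hi] at e
      by_cases h : i = 0
      exacts [Or.inl (by rw [← e, h, F.f0]), Or.inr ((F.EA x).2 ⟨i, by rw [List.mem_range'_1]; omega, e⟩).2]
    · rintro (rfl | h)
      · exact ⟨0, by norm_num, (F.lin.rel 0 (by norm_num)).symm.trans F.f0⟩
      · obtain ⟨i, hi, e⟩ := (F.EA x).1 ⟨hx, h⟩
        rw [List.mem_range'_1] at hi
        exact ⟨i, by omega, (F.lin.rel i (by omega)).symm.trans e⟩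
  · refine ⟨d, Or.inr rfl, fun x hx => (key (Nat.eq_of_beq_eq_true h0) x hx).trans ?_⟩
    simp only [List.mem_cons, List.mem_map, exists_eq_or_imp, exists_exists_and_eq_and, F.p1]
    refine or_congr eq_comm (Iff.trans (exists_congr fun i => and_congr_right fun hi => ?_)
      ((F.EA (d * x)).symm.trans (and_iff_right (mul_mem F.dA hx))))
    rw [List.mem_range'_1] at hi
    rw [show Nat.xor 1 (co i) = 1 ^^^ co i from rfl, F.lin.xor, F.p1, ← F.lin.rel i (by omega), ← inv_mul_eq_iff_eq_mul,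
      inv_eq_of_mul_eq_one_right F.d2]

variable {ε : G} (hε : ε = 1 ∨ ε = d) (hA : ∀ x ∈ AA f, IsConj d x ↔ x = d ∨ ε * x ∈ E)
include hε

omit [Finite G] in
theorem eps : ε * ε = 1 ∧ ε ∈ AA f ∧ ∀ c, Commute c d → Commute c ε := by
  rcases hε with rfl | rfl
  exacts [⟨one_mul 1, one_mem _, fun c _ => Commute.one_right c⟩, ⟨F.d2, F.dA, fun _ h => h⟩]

omit [Finite G] in
theorem cj_eps {c x : G} (hc : Commute c d) : c * (ε * x) * c⁻¹ = ε * (c * x * c⁻¹) := by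
  rw [← mul_assoc c, ((F.eps hε).2.2 c hc).eq]; group

include hA

omit [Finite G] in
theorem goodH {x : G} (hx : x ∈ H) : IsConj d x ↔ x = d ∨ ε * x ∈ E := by
  obtain ⟨e2, eA, -⟩ := F.eps hε
  refine ⟨fun h => ?_, ?_⟩
  · obtain ⟨c, h1, h2⟩ := F.iv x hx (Or.inl (F.sq_conj h))
    refine ((hA _ h2).1 ((isConj_cj c).2 h)).imp (fun e => ?_) fun e => ?_
    · rwa [mul_inv_eq_iff_eq_mul, ← (F.le c h1).eq, mul_right_inj] at e
    · have := F.cjE _ (inv_mem h1) _ e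
      rw [F.cj_eps hε (F.le c h1).inv_left] at this
      simpa [mul_assoc] using this
  · rintro (rfl | h)
    · exact IsConj.refl _
    obtain ⟨c, h1, h2, h3⟩ := F.tr _ h _ h (Commute.refl _)
    rw [F.cj_eps hε (F.le c h1)] at h2 h3
    exact (isConj_cj c).1 ((hA _ ((mul_mem_cancel_left eA).1 h3)).2 (Or.inr (h2 ▸ ((F.EA _).2 ⟨1, by decide, rfl⟩).2)))

omit [Finite G] in
theorem tri0 (K : Ck co os) {y y' g : G} (hy : y ∈ H) (hy' : y' ∈ H) (h' : IsConj d y') (hc : Commute y y')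
    (hg : g * d * g⁻¹ = y) : y' ∈ Lx H g := by
  obtain ⟨e2, eA, e3⟩ := F.eps hε
  rcases (F.goodH hε hA hy).1 (isConj_iff.2 ⟨g, hg⟩) with e | h
  · exact F.Lx_of (g := 1) (by rw [hg, e]; simp) (mem_Lx.2 (by simpa using hy'))
  obtain ⟨c, h1, h2, h3⟩ : ∃ c ∈ H, c * (ε * y) * c⁻¹ = f 1 ∧ c * y' * c⁻¹ ∈ AA f := by
    rcases (F.goodH hε hA hy').1 h' with e | h''
    · obtain ⟨c, h1, h2, -⟩ := F.tr _ h _ h (Commute.refl _)
      exact ⟨c, h1, h2, by rw [e, (F.le c h1).eq, mul_inv_cancel_right]; exact F.dA⟩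
    · obtain ⟨c, h1, h2, h3⟩ := F.tr _ h _ h'' (((Commute.refl ε).mul_right (e3 _ (F.le _ hy')).symm).mul_left
        ((e3 _ (F.le _ hy)).mul_right hc))
      rw [F.cj_eps hε (F.le c h1)] at h3
      exact ⟨c, h1, h2, (mul_mem_cancel_left eA).1 h3⟩
  rw [F.cj_eps hε (F.le c h1), ← eq_inv_mul_iff_mul_eq, inv_eq_of_mul_eq_one_right e2, ← hg] at h2
  have h4 : AA f ≤ Lx H (c * g) := by
    rcases hε with rfl | rfl
    · exact F.w1 K (x := 2) (by simp) (by rw [p2, ← one_mul (f 1), ← h2]; group)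
    · exact F.w1 K (x := 3) (by simp) (by rw [F.p3, ← h2]; group)
  simpa [mem_Lx, mul_assoc] using h4 h3

omit [Finite G] in
theorem tri (K : Ck co os) {y y' g g' : G} (hy : y ∈ Lx H g) (hy' : y' ∈ Lx H g) (h' : IsConj d y') (hc : Commute y y')
    (hg : g' * d * g'⁻¹ = y) : y' ∈ Lx H g' := by
  have := F.tri0 hε hA K (g := g⁻¹ * g') (mem_Lx.1 hy) (mem_Lx.1 hy') (by simpa using (isConj_cj g⁻¹).2 h')
    (by simpa using (commute_conj_iff g⁻¹ _ _).2 hc) (by rw [← hg]; group)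
  simpa [mem_Lx, mul_assoc] using this

omit [Finite G] in
theorem no4 {g y z : G} (hy : y ∈ Lx H g) (hz : z ∈ Lx H g) (y1 : y ≠ 1) (z1 : z ≠ 1) (yz : y * z ≠ 1) (y2 : y * y = 1)
    (z2 : z * z = 1) (c : Commute y z) (h1 : IsConj d (y * (g * d * g⁻¹))) (h2 : IsConj d (z * (g * d * g⁻¹)))
    (h3 : IsConj d (y * z * (g * d * g⁻¹))) : False := by
  obtain ⟨e2, eA, e3⟩ := F.eps hε
  have key : ∀ u ∈ Lx H g, u ≠ 1 → IsConj d (u * (g * d * g⁻¹)) → ε * d * (g⁻¹ * u * g) ∈ E := fun u hu u1 h => by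
    have := ((F.goodH hε hA (mul_mem (mem_Lx.1 hu) F.dH)).1 (by simpa [mul_assoc] using (isConj_cj g⁻¹).2 h)).resolve_left
      fun e => u1 (by simpa using conj_eq_one_iff.1 (show g⁻¹ * u * g⁻¹⁻¹ = 1 by simpa using e))
    rwa [(F.le _ (mem_Lx.1 hu)).eq, ← mul_assoc] at this
  have k1 := key y hy y1 h1
  have k2 := key z hz z1 h2
  have k3 := key _ (mul_mem hy hz) yz h3
  have e : g⁻¹ * (y * z) * g = g⁻¹ * y * g * (g⁻¹ * z * g) := by group
  have y2' : g⁻¹ * y * g * (g⁻¹ * y * g) = 1 := by simp [mul_assoc, ← mul_assoc y, y2]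
  have z2' : g⁻¹ * z * g * (g⁻¹ * z * g) = 1 := by simp [mul_assoc, ← mul_assoc z, z2]
  have c' : Commute (g⁻¹ * y * g) (g⁻¹ * z * g) := by simpa using (commute_conj_iff g⁻¹ _ _).2 c
  have y1' : g⁻¹ * y * g ≠ 1 := fun e => y1 (by simpa using conj_eq_one_iff.1 (show g⁻¹ * y * g⁻¹⁻¹ = 1 by simpa using e))
  have z1' : g⁻¹ * z * g ≠ 1 := fun e => z1 (by simpa using conj_eq_one_iff.1 (show g⁻¹ * z * g⁻¹⁻¹ = 1 by simpa using e))
  have ne : g⁻¹ * y * g ≠ g⁻¹ * z * g := fun e => yz (by rw [show y = z by simpa using e, z2])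
  rw [e] at k3
  rw [mem_Lx] at hy hz
  generalize g⁻¹ * y * g = u at *
  generalize g⁻¹ * z * g = v at *
  have hδ : (ε * d = 1 ∨ ε * d = d) ∧ ε * d * (ε * d) = 1 := by
    rcases hε with rfl | rfl
    exacts [⟨Or.inr (one_mul d), by simpa using F.d2⟩, ⟨Or.inl F.d2, by simp [F.d2]⟩]
  have cu : Commute (ε * d) u := ((e3 _ (F.le u hy)).mul_right (F.le u hy)).symm
  have cv : Commute (ε * d) v := ((e3 _ (F.le v hz)).mul_right (F.le v hz)).symm
  generalize ε * d = δ at *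
  have cc : ∀ {a b : G}, Commute δ a → Commute δ b → Commute a b → Commute (δ * a) (δ * b) := fun ha hb h =>
    ((Commute.refl δ).mul_right hb).mul_left (ha.symm.mul_right h)
  have := F.r4 _ k1 _ k2 _ k3 (by simpa using ne) (by simpa using z1') (by simpa using y1') (cc cu cv c')
    (cc cu (cu.mul_right cv) ((Commute.refl u).mul_right c')) (cc cv (cu.mul_right cv) (c'.symm.mul_right (Commute.refl v)))
  have e : δ * u * (δ * v) * (δ * (u * v)) = δ := by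
    rw [cu.symm.mul_mul_mul_comm, hδ.2, one_mul, ← mul_assoc, ← (cu.mul_right cv).eq, mul_assoc, ← pow_two,
      sq_of_commute y2' z2' c', mul_one]
  rw [e] at this
  exact hδ.1.elim this.1 this.2

omit hε hA in
theorem reduce {t : G} (ht : t * t = 1) (hc : Commute t d) : ∃ c, Commute c d ∧ c⁻¹ * t * c ∈ normalizer (AA f : Set G) := by
  have tC : t ∈ centralizer {d} := mem_centralizer_singleton_iff.2 hc
  obtain ⟨T, hT⟩ := (PLocal.elemAb_isPGroup (PLocal.elemAb_zpowers (p := 2) (x := (⟨t, tC⟩ : centralizer {d}))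
    (Subtype.ext (by simpa [pow_two] using ht)))).exists_le_sylow
  obtain ⟨c, h1⟩ := exists_conj_mem_sylow T (P := (AA f).subgroupOf _) fun y =>
    ⟨1, Subtype.ext (Subtype.ext (by simpa [pow_two] using F.lin.V_sq y.2))⟩
  have cd : Commute (c : G) d := mem_centralizer_singleton_iff.1 c.2
  have h2 : ∀ a ∈ AA f, (c : G) * a * (c : G)⁻¹ ∈ (T : Subgroup (centralizer {d})).map (centralizer {d}).subtype := fun a ha =>
    ⟨_, h1 ⟨a, mem_centralizer_singleton_iff.2 (F.le a (F.AH ha))⟩ ha, rfl⟩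
  obtain ⟨l, -, h3⟩ := F.jf ((T : Subgroup (centralizer {d})).map (centralizer {d}).subtype ⊓ H) inf_le_right
    ((T.isPGroup'.map _).to_inf_left) (mem_inf.2 ⟨by simpa only [cd.eq, mul_inv_cancel_right] using h2 d F.dA, F.dH⟩)
  have key : ∀ u : G, Commute u d → (∀ a ∈ AA f, u * a * u⁻¹ ∈ (T : Subgroup (centralizer {d})).map (centralizer {d}).subtype) →
      l * u ∈ normalizer (AA f : Set G) := fun u hu h => mem_normalizer_fintype fun a ha => by
    have := h3 ((AA f).map (MulAut.conj u).toMonoidHom) (by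
      rintro _ ⟨a, ha, rfl⟩; exact ⟨h a ha, F.nrm hu (F.AH ha)⟩) (by
      rintro _ ⟨a, ha, rfl⟩; rw [← map_mul, F.lin.V_sq ha, map_one]) ⟨d, F.dA, by simp [hu.eq]⟩
      (by rw [card_map_of_injective (MulAut.conj u).injective, F.lin.card_V]) _ ⟨a, ha, rfl⟩
    simpa [mul_assoc] using this
  refine ⟨c, cd, ?_⟩
  have h4 : t ∈ (T : Subgroup (centralizer {d})).map (centralizer {d}).subtype := ⟨_, hT (mem_zpowers _), rfl⟩
  simpa [mul_assoc] using mul_mem (inv_mem (key c cd h2)) (key (t * c) (hc.mul_left cd) fun a ha => by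
    simpa [mul_assoc] using mul_mem (mul_mem h4 (h2 a ha)) (inv_mem h4))

theorem mem_of_norm (K : Ck co os) {g : G} (hc : Commute (g * d * g⁻¹) d) (hn : g * d * g⁻¹ ∈ normalizer (AA f : Set G)) :
    g * d * g⁻¹ ∈ H := by
  classical
  by_contra h
  have tL : g * d * g⁻¹ ∈ Lx H g := mem_Lx.2 (by simpa [mul_assoc] using F.dH)
  have tD : IsConj d (g * d * g⁻¹) := isConj_iff.2 ⟨g, rfl⟩
  have idx := fun a b => F.idx' (g := g) (a := a) (b := b)
  have no4 := fun y z => F.no4 hε hA (g := g) (y := y) (z := z)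
  generalize g * d * g⁻¹ = t at *
  have t2 := F.sq_conj tD
  have wt : ∀ U : Subgroup G, (∀ a ∈ AA f, ∀ b ∈ AA f, a ∉ U → b ∉ U → a * b ∈ U) → (∃ i < 22, f i ∉ U) →
      7 ≤ ((Finset.range 22).filter fun i => f i ∉ U).card ∧ ((Finset.range 22).filter fun i => f i ∉ U).card ≤ 21 := by
    intro U hU ⟨i, hi, h1⟩
    obtain ⟨φ, h2, h3⟩ := exists_fn hU
    have h4 := (bor_eq_true.1 (allI_zero K.dual φ h2)).resolve_left fun e => h1 (by
      rw [F.lin.rel i hi, h3, Nat.eq_of_beq_eq_true e, fn_zero])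
    rw [force_eq, band_eq_true, cntA_eq, zero_add, Finset.filter_congr (q := fun i => f i ∉ U) fun i hi => by
      rw [F.lin.rel i (Finset.mem_range.1 hi), h3, bnot_eq_true, ← Bool.not_eq_true, Nat.beq_eq]] at h4
    exact ⟨Nat.le_of_ble_eq_true h4.1, Nat.le_of_ble_eq_true h4.2⟩
  by_cases h0 : ∀ i < 22, Commute (f i) t
  · have hA' : ∀ a ∈ AA f, Commute a t := fun a ha => (commute_of_mem_closure (by rintro _ ⟨i, hi, rfl⟩; exact h0 i hi) ha)
    have h1 : ∀ b ∈ AA f, IsConj d b → b ∉ Lx H g := fun b hb h1 h2 => by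
      obtain ⟨g', hg'⟩ := isConj_iff.1 h1
      exact h (by simpa [mem_Lx] using F.tri hε hA K (g' := 1) (F.tri0 hε hA K (F.AH hb) F.dH (IsConj.refl d)
        (F.lin.V_comm hb F.dA) hg') (F.tri hε hA K h2 tL tD (hA' b hb) hg') tD hc.symm (by simp))
    have h2 := h1 d F.dA (IsConj.refl d)
    obtain ⟨e2, eA, -⟩ := F.eps hε
    have h3 : ∀ i < 22, i ≠ 0 → ε * f i ∉ Lx H g := fun i hi i0 => h1 _ (mul_mem eA (memA f hi)) ((hA _ (mul_mem eA (memA f hi))).2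
      (Or.inr (by rw [← mul_assoc, e2, one_mul]; exact ((F.EA _).2 ⟨i, by rw [List.mem_range'_1]; omega, rfl⟩).2)))
    have h4 := wt _ (fun a ha b hb => idx a b (hA' a ha) (hA' b hb)) ⟨0, by norm_num, F.f0 ▸ h2⟩
    rcases hε with rfl | rfl
    · rw [Finset.filter_true_of_mem fun i hi => by
        by_cases i0 : i = 0
        exacts [i0 ▸ F.f0 ▸ h2, by simpa using h3 i (Finset.mem_range.1 hi) i0]] at h4
      simp at h4
    · refine absurd (h4.1.trans (Finset.card_le_card (t := {0}) fun i hi => ?_)) (by simp)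
      obtain ⟨h5, h6⟩ := Finset.mem_filter.1 hi
      by_contra i0
      have h7 := memA f (Finset.mem_range.1 h5)
      exact h3 i (Finset.mem_range.1 h5) (by simpa using i0) (idx _ _ (hA' _ eA) (hA' _ h7) h2 h6)
  push Not at h0
  obtain ⟨i0, hi0, h0⟩ := h0
  have tA : ∀ a ∈ AA f, t * a * t⁻¹ ∈ AA f := fun a ha => (hn a).1 ha
  let ψ : G → G := fun a => a * (t * a * t⁻¹)
  have ψA : ∀ a ∈ AA f, ψ a ∈ AA f := fun a ha => mul_mem ha (tA a ha)
  have ψm : ∀ a ∈ AA f, ∀ b ∈ AA f, ψ (a * b) = ψ a * ψ b := fun a ha b hb => by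
    simp only [ψ]
    rw [← conj_mul, (F.lin.V_comm hb (tA a ha)).mul_mul_mul_comm]
  have ψD : ∀ a ∈ AA f, IsConj d (ψ a * t) ∧ Commute (ψ a) t := fun a ha => by
    have e : ψ a * t = a * t * a⁻¹ := by simp only [ψ]; rw [inv_eq_of_mul_eq_one_right (F.lin.V_sq ha)]; group
    refine ⟨e ▸ (isConj_cj a).2 tD, ?_⟩
    rw [Commute, SemiconjBy, e]
    simp only [ψ]
    rw [(F.lin.V_comm ha (tA a ha)).eq, inv_eq_of_mul_eq_one_right (F.lin.V_sq ha), inv_eq_of_mul_eq_one_right t2,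
      ← mul_assoc, ← mul_assoc, ← mul_assoc, t2, one_mul]
  choose! cv c1 c2 using fun a (ha : a ∈ AA f) => F.lin.mem_V.1 ha
  have cm : ∀ a ∈ AA f, ∀ b ∈ AA f, cv (a * b) = cv a ^^^ cv b := fun a ha b hb =>
    F.lin.eq (c1 _ (mul_mem ha hb)) (Nat.xor_lt_two_pow (c1 a ha) (c1 b hb)) (by rw [F.lin.xor, c2 a ha, c2 b hb, c2 _ (mul_mem ha hb)])
  have c0 : cv 1 = 0 := F.lin.inj _ (c1 1 (one_mem _)) (c2 1 (one_mem _))
  obtain ⟨j, hj⟩ := Nat.exists_testBit_of_ne_zero (x := cv (ψ (f i0))) fun e => h0 (by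
    have := c2 _ (ψA _ (memA f hi0))
    rw [e, bprod_zero, eq_comm, mul_eq_one_iff_inv_eq, inv_eq_of_mul_eq_one_right (F.lin.sq i0 hi0), eq_mul_inv_iff_mul_eq] at this
    exact this)
  let U : Subgroup G :=
    { carrier := {a | a ∈ AA f ∧ (cv (ψ a)).testBit j = false}
      one_mem' := ⟨one_mem _, by simp [ψ, c0]⟩
      mul_mem' := fun {a b} ha hb => ⟨mul_mem ha.1 hb.1, by
        rw [ψm a ha.1 b hb.1, cm _ (ψA a ha.1) _ (ψA b hb.1), Nat.testBit_xor, ha.2, hb.2]; rfl⟩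
      inv_mem' := fun {a} ha => by rwa [inv_eq_of_mul_eq_one_right (F.lin.V_sq ha.1)] }
  have h1 := (wt U (fun a ha b hb h1 h2 => ⟨mul_mem ha hb, by
    rw [ψm a ha b hb, cm _ (ψA a ha) _ (ψA b hb), Nat.testBit_xor, Bool.eq_true_of_not_eq_false fun e => h1 ⟨ha, e⟩,
      Bool.eq_true_of_not_eq_false fun e => h2 ⟨hb, e⟩]; rfl⟩) ⟨i0, hi0, fun h => by simpa [hj] using h.2⟩).1
  have h2 : ∀ i < 22, ∃ k < 22, ψ (f i) = f i * f k := fun i hi => by
    by_cases e : i = 0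
    · exact ⟨0, by norm_num, by simp only [ψ]; rw [e, F.f0, hc.eq, mul_inv_cancel_right]⟩
    · obtain ⟨k, hk, e'⟩ := F.perm K hn hc (i := i) (by rw [List.mem_range'_1]; omega)
      exact ⟨k, by rw [List.mem_range'_1] at hk; omega, by rw [e']⟩
  set S := (Finset.range 22).filter fun i => f i ∉ U
  have h3 : ∀ i ∈ S, i < 22 ∧ ψ (f i) ≠ 1 := fun i hi =>
    have h := Finset.mem_filter.1 hi
    ⟨Finset.mem_range.1 h.1, fun e => h.2 ⟨memA f (Finset.mem_range.1 h.1), by simp [e, c0]⟩⟩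
  have h4 : S.card ≤ 2 * (S.image fun i => ψ (f i)).card := Finset.card_le_mul_card_image S 2 fun y hy => by
    obtain ⟨i, hi, rfl⟩ := Finset.mem_image.1 hy
    obtain ⟨k, hk, e⟩ := h2 i (h3 i hi).1
    refine (Finset.card_le_card (t := {i, k}) fun l hl => ?_).trans Finset.card_le_two
    obtain ⟨h4, h5⟩ := Finset.mem_filter.1 hl
    obtain ⟨m, hm, e'⟩ := h2 l (h3 l h4).1
    have h6 := K.pair
    rw [force_eq] at h6
    have h7 := allI_zero (allI_zero (allI_zero h6 i (h3 i hi).1) k hk) l (h3 l h4).1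
    simp only [bor_eq_true, Nat.beq_eq, bnot_eq_true, tb_eq, ← Bool.not_eq_true, testBit_maskL] at h7
    rcases h7 with rfl | rfl | rfl | h7
    · exact absurd (e.trans (F.lin.sq i hk)) (h3 i hi).2
    · simp
    · simp
    · refine absurd (List.mem_map.2 ⟨m, List.mem_range.2 hm, F.lin.eq (F.lin.colt m hm) (Nat.xor_lt_two_pow (Nat.xor_lt_two_pow
        (F.lin.colt i (h3 i hi).1) (F.lin.colt k hk)) (F.lin.colt l (h3 l h4).1)) ?_⟩) h7
      change _ = bprod f 10 (co i ^^^ co k ^^^ co l)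
      rw [F.lin.xor, F.lin.xor, ← F.lin.rel i (h3 i hi).1, ← F.lin.rel k hk, ← F.lin.rel l (h3 l h4).1, ← F.lin.rel m hm, ← e,
        ← h5, e', F.lin.comm l (h3 l h4).1 m hm, mul_assoc, F.lin.sq l (h3 l h4).1, mul_one]
  have fin : ∀ a ∈ AA f, ∀ b ∈ AA f, ψ a ∈ Lx H g → ψ b ∈ Lx H g → ψ a ≠ 1 → ψ b ≠ 1 → ψ a ≠ ψ b → False :=
    fun a ha b hb h5 h6 h7 h8 h9 => no4 _ _ h5 h6 h7 h8 (fun e => h9 (by
      rw [eq_inv_of_mul_eq_one_left e, inv_eq_of_mul_eq_one_right (F.lin.V_sq (ψA b hb))])) (F.lin.V_sq (ψA a ha))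
      (F.lin.V_sq (ψA b hb)) (F.lin.V_comm (ψA a ha) (ψA b hb)) (ψD a ha).1 (ψD b hb).1 (ψm a ha b hb ▸ (ψD _ (mul_mem ha hb)).1)
  have h5 := (S.image fun i => ψ (f i)).card_filter_add_card_filter_not (· ∈ Lx H g)
  have h6 : ∀ {p : G → Prop} [DecidablePred p] {y}, y ∈ (S.image fun i => ψ (f i)).filter p →
      ∃ a ∈ AA f, ψ a = y ∧ ψ a ≠ 1 ∧ p (ψ a) := fun hy => by
    obtain ⟨h6, h7⟩ := Finset.mem_filter.1 hy
    obtain ⟨i, hi, rfl⟩ := Finset.mem_image.1 h6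
    exact ⟨_, memA f (h3 i hi).1, rfl, (h3 i hi).2, h7⟩
  by_cases h7 : 1 < ((S.image fun i => ψ (f i)).filter (· ∈ Lx H g)).card
  · obtain ⟨y, hy, z, hz, ne⟩ := Finset.one_lt_card.1 h7
    obtain ⟨a, ha, rfl, a1, a2⟩ := h6 hy
    obtain ⟨b, hb, rfl, b1, b2⟩ := h6 hz
    exact fin a ha b hb a2 b2 a1 b1 ne
  · obtain ⟨x, hx, y, hy, z, hz, n1, n2, n3⟩ := Finset.two_lt_card.1
      (show 2 < ((S.image fun i => ψ (f i)).filter fun x => ¬ x ∈ Lx H g).card by omega)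
    obtain ⟨a, ha, rfl, -, a2⟩ := h6 hx
    obtain ⟨b, hb, rfl, -, b2⟩ := h6 hy
    obtain ⟨c, hc, rfl, -, c2⟩ := h6 hz
    have ne : ∀ b ∈ AA f, ψ a ≠ ψ b → ψ a * ψ b ≠ 1 := fun b hb n e => n (by
      rw [eq_inv_of_mul_eq_one_left e, inv_eq_of_mul_eq_one_right (F.lin.V_sq (ψA b hb))])
    refine fin _ (mul_mem ha hb) _ (mul_mem ha hc) ?_ ?_ ?_ ?_ ?_ <;> simp only [ψm a ha b hb, ψm a ha c hc]
    exacts [idx _ _ (ψD a ha).2 (ψD b hb).2 a2 b2, idx _ _ (ψD a ha).2 (ψD c hc).2 a2 c2, ne b hb n1, ne c hc n2,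
      by simpa using n3]

omit hε hA in
theorem good (K : Ck co os) (hn : ∃ g : G, g * d * g⁻¹ ∈ H ∧ g * d * g⁻¹ ≠ d) :
    ∃ ε, (ε = 1 ∨ ε = d) ∧ ∀ x, Commute x d → (IsConj d x ↔ x = d ∨ ε * x ∈ E) := by
  obtain ⟨ε, hε, hA⟩ := F.omega K hn
  refine ⟨ε, hε, fun x hx => ⟨fun h => (F.goodH hε hA ?_).1 h, fun h => (F.goodH hε hA ?_).2 h⟩⟩
  · obtain ⟨c, h1, h2⟩ := F.reduce (F.sq_conj h) hx
    obtain ⟨g, rfl⟩ := isConj_iff.1 h
    have e : c⁻¹ * (g * d * g⁻¹) * c = c⁻¹ * g * d * (c⁻¹ * g)⁻¹ := by group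
    have := F.nrm h1 (F.mem_of_norm hε hA K (g := c⁻¹ * g) (e ▸ (h1.inv_left.mul_left hx).mul_left h1) (e ▸ h2))
    simpa [mul_assoc] using this
  · rcases h with rfl | h
    exacts [F.dH, (mul_mem_cancel_left (F.AH (F.eps hε).2.1)).1 (F.EH _ h)]

end Fr

end CfsgLib.Rec3B.AF
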