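import Mathlib
import Cfsg.Agent.Lib.Rec3B.AutFiA

/-! Involution centralizers `2.U6(2).2`: the tests (generated data) -/

set_option autoImplicit false
set_option maxRecDepth 100000
set_option Elab.async false

namespace CfsgLib.Rec3B.AF

open CfsgLib.Comput CfsgLib.Fischer CfsgLib.FiTool CfsgLib.M22T

theorem ck0 : Ck (coE (nth 0 cs22) (0 <<< 10)) o0a :=
  ⟨by decide +kernel, sum0, by decide +kernel, by decide +kernel, by decide +kernel, by decide +kernel⟩

theorem ck1 : Ck (coE (nth 0 cs22) (2774 <<< 10)) o1a :=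
  ⟨by decide +kernel, sum1, by decide +kernel, by decide +kernel, by decide +kernel, by decide +kernel⟩

theorem ck2 : Ck (coE (nth 0 cs22) (4015 <<< 10)) o2a :=
  ⟨by decide +kernel, sum2, by decide +kernel, by decide +kernel, by decide +kernel, by decide +kernel⟩

/-- the action of a word on the vectors -/
noncomputable def av (co : ℕ → ℕ) (w v : ℕ) : ℕ := synM (fun j => co (act (tabP tu22) w j)) 10 v

/-- the test for a quaternion group -/
noncomputable def q8OK (co : ℕ → ℕ) (x w w' v v' : ℕ) : Bool :=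
  band (band (Nat.beq (act (tabP tu22) w 0) 0) (Nat.beq (act (tabP tu22) w' 0) 0))
    (band (allL (eqP (stepW ps22 us22) gp22) [([w, w], []), ([w', w'], []), ([w, w', w, w'], [])])
      (band (band (Nat.beq (Nat.xor v (av co w v)) x) (Nat.beq (Nat.xor v' (av co w' v')) x))
        (Nat.beq (Nat.xor (Nat.xor v (av co w v')) (av co w (av co w' (Nat.xor v (av co w v'))))) x)))

theorem q8_22 : ∀ e ∈ [0, 2774, 4015], ∀ x ∈ [6, 7], ∃ w w' v v', q8OK (coE (nth 0 cs22) (e <<< 10)) x w w' v v' = true := by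
  simp only [List.forall_mem_cons, List.not_mem_nil, false_imp_iff, implies_true, and_true]
  exact ⟨⟨⟨0x4010305030104, 0x20401030503010402, 192, 264, by decide +kernel⟩,
    ⟨0x30503, 0x103050301, 72, 96, by decide +kernel⟩⟩,
    ⟨⟨0x40201030503010204, 0x204020103050301020402, 232, 384, by decide +kernel⟩,
    ⟨0x30503, 0x103050301, 72, 96, by decide +kernel⟩⟩,
    ⟨⟨0x30503, 0x103050301, 72, 96, by decide +kernel⟩,
    ⟨0x4010305030104, 0x20401030503010402, 192, 264, by decide +kernel⟩⟩⟩

/-- the images of a point under the products of two points of the base -/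
noncomputable def omT : ℕ := nat_lit 0x500a3aeb81f8cb739aadbddd0cbebd2ed097fca96bc8b7da71d38cdbd97cf6d440a3050ab482473388bad5d30b9ebb9d01d0a807ad0b72b90a7ad43cdacf9d98d22aebab405013a82684a82cab5aedcb5c6bca64239fbc1bc11b54caad4fc24c25c8581f82413a05075f6ec72f7f37b9b86b8dbc5b84d7fcdece8d82a1896d951954a168cb73382675f050bf527387da79c1992c73440dce5c92d76b9c8ca8e9aca8ce91473988b84a6ecbf505025ca70870c1473a92e453cdcd72c63bcb90b8a488fa8c896aadad582c72f27325c050c80cafcbeab0ade921b2aadbaa2a1eafbb0bb0ab08afdbddd30ab57f387da70c80050b3e52e67298fb7130a64a5285c752c52d52b529527d0cb9eaed7b9a79870cafb3e0504eb9c767fb7c30e4ee6485ee4f24f34f14ef4ecbebbb9cb5b86c19c14cbe52e4eb05068a620b2e85e79f7d25eb4fe4ff4fd4fb4f8d2ed01c6bb8d92c73aab06729c768a050c007c06f61b868834c545546544543531d09d0aca6bc573492eade98f67f620c000507e76ca6a41a53274f453d54053f53e7fc807423b8440d453921b71b7cb2e7c07e7050c26bd8ba4d6f7ff81582884880aa96ad09fbd7fce5cdcb2a30a30e85e6f66cac260505a85e381931630c3112ef315bc8b72c1bcdec92d72adb64a4ee79f1b86a4bd85a8050ba834a1c01b91bc1bf190b7db90c11ce8d76c63aa25286487d26881a5ba45e3ba805032818e1a41a819c1a7a71a7ab54d82b9cbcba1e5c75ee5eb34c327d6f81934a3280500e10e60e80e70d5d38d43caaa188ca90bafb52c4f24fe5454f47ff3161c018e0e105007907807606dcdbcdad4f96d8e98a4b0b52d4f34ff54653d81530c1b91a40e607905007d07c072d97cf9c24951aca88fb0a52b4f14fd5445408283111bc1a80e807807d05007b071cf6d98c259548cea8cb085294ef4fb54353f8482ef1bf19c0e707607c07b050070d44d22c85a16914896afd5274ec4f853153e80a3151901a70d506d072071070050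

/-- an entry of the table -/
noncomputable def omE (i j : ℕ) : ℕ := Nat.land (Nat.shiftRight omT (Nat.mul 12 (Nat.add (Nat.mul 22 i) j))) 4095

theorem om_pt : ptsOK ps22 (nth 0 gp22) 9 [0x90408060504030203040506080409] [80] = true := by decide +kernel

theorem om_ne : allI (fun i => bnot (Nat.beq (act ps22 (nth 0 ws22 i) 80) 80)) 0 22 = true := by decide +kernel

theorem om_tab : allI (fun j => force (act ps22 (nth 0 ws22 j) 80) fun y =>
    allI (fun i => Nat.beq (act ps22 (nth 0 ws22 i) y) (omE i j)) 0 22) 0 22 = true := by decide +kernel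

theorem om_uniq : allI (fun k => force (maskL ((List.range 22).map (omE k))) fun M => allI (fun i => allI (fun j =>
    FiTool.bor (Nat.beq i j) <| FiTool.bor (Nat.beq k i) <| FiTool.bor (Nat.beq k j) (bnot (tb M (omE i j)))) 0 22) 0 22) 0 22 = true := by
  decide +kernel

theorem om_cov : subM (patW W22 fx22 80 ws22 (cmL W22 fx22 [0x90408060504030203040506080409] (fullM 3510)))
    (maskL ((List.range 484).map fun n => omE (n / 22) (n % 22))) = true := by decide +kernel

end CfsgLib.Rec3B.AF
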