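import Mathlib
import Cfsg.Agent.Lib.M22T.I22
import Cfsg.Agent.Lib.Rec3B.AutFiD

/-!
# Involution centralizers `2.U6(2).2`: involutions normalising the class, and the normal Fischer subgroup
-/

set_option autoImplicit false
set_option maxRecDepth 100000

namespace CfsgLib.Rec3B.AF

open Cfsg Cfsg.Spor CfsgLib.Comput CfsgLib.Fischer CfsgLib.ThreeTrans CfsgLib.FiTool CfsgLib.M22T Subgroup

section
variable {G : Type*} [Group G] {D : Set G} {N k : ℕ} {b : ℕ → G} {co : ℕ → ℕ}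

/-- an involution of the class -/
structure Iv (D : Set G) (σ : G → G) : Prop where
  mem : ∀ p ∈ D, σ p ∈ D
  inv : ∀ p ∈ D, σ (σ p) = p
  cj : ∀ p ∈ D, ∀ q ∈ D, σ (p * q * p) = σ p * σ q * σ p

theorem comm_iff (hD : IsThreeTranspositionSet D) {p q : G} (hp : p ∈ D) : Commute p q ↔ p * q * p = q :=
  ⟨fun h => by rw [h.eq, mul_assoc, sq hD hp, mul_one], fun h => by
    change p * q = q * p
    conv_rhs => rw [← h, mul_assoc, sq hD hp, mul_one]⟩

theorem Iv.comm (hD : IsThreeTranspositionSet D) {σ : G → G} (I : Iv D σ) {p q : G} (hp : p ∈ D) (hq : q ∈ D)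
    (h : Commute p q) : Commute (σ p) (σ q) := by
  rw [comm_iff hD (I.mem p hp), ← I.cj p hp q hq, (comm_iff hD hp).1 h]

theorem Iv.conj (hc : ∀ g : G, ∀ d ∈ D, g * d * g⁻¹ ∈ D) {σ : G → G} (I : Iv D σ) (c : G) :
    Iv D fun x => c * σ (c⁻¹ * x * c⁻¹⁻¹) * c⁻¹ := by
  refine ⟨fun p hp => hc _ _ (I.mem _ (hc _ _ hp)), fun p hp => ?_, fun p hp q hq => ?_⟩
  · have e : c⁻¹ * (c * σ (c⁻¹ * p * c⁻¹⁻¹) * c⁻¹) * c⁻¹⁻¹ = σ (c⁻¹ * p * c⁻¹⁻¹) := by group
    rw [e, I.inv _ (hc _ _ hp)]; group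
  · have e : c⁻¹ * (p * q * p) * c⁻¹⁻¹ = c⁻¹ * p * c⁻¹⁻¹ * (c⁻¹ * q * c⁻¹⁻¹) * (c⁻¹ * p * c⁻¹⁻¹) := by group
    rw [e, I.cj _ (hc _ _ hp) _ (hc _ _ hq)]
    generalize σ (c⁻¹ * p * c⁻¹⁻¹) = x
    generalize σ (c⁻¹ * q * c⁻¹⁻¹) = y
    group

/-- a point far from the base -/
structure Far (D : Set G) (N : ℕ) (b : ℕ → G) (r : G) : Prop where
  mem : r ∈ D
  ne : ∀ i < N, ¬ Commute (b i) r
  cov : ∀ x ∈ D, Commute r x → (∀ i < N, ¬ Commute (b i) x) → ∃ i < N, ∃ j < N, x = b i * (b j * r * b j) * b i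
  uniq : ∀ i < N, ∀ j < N, ∀ l < N, ∀ m < N, i ≠ j → b l * (b m * r * b m) * b l = b i * (b j * r * b j) * b i → l = i ∨ l = j

theorem fix_of_inv (B : BM D N k b co) {r : G} (R : Far D N b r) {σ : G → G} (I : Iv D σ)
    (hc : ∀ p ∈ D, Commute p (σ p)) (h : ∀ i < N, ∃ l < N, b l = σ (b i)) : ∃ p ∈ D, σ p = p := by
  by_contra! hn
  have hD := B.grp.1
  have cm : ∀ i < N, ∀ x ∈ D, b i * x * b i ∈ D := fun i hi x hx => by
    simpa [inv_eq hD (B.mem i hi)] using B.conj_mem (b i) x hx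
  obtain ⟨i, hi, j, hj, e⟩ := R.cov _ (I.mem r R.mem) (hc r R.mem) fun i hi h1 => by
    obtain ⟨l, hl, e⟩ := h i hi
    exact R.ne l hl (by simpa [e, I.inv r R.mem] using I.comm hD (B.mem i hi) (I.mem r R.mem) h1)
  have ss : ∀ i < N, ∀ x, b i * (b i * x * b i) * b i = x := fun i hi x => by
    rw [← mul_assoc, ← mul_assoc, B.sq hi, one_mul, mul_assoc, B.sq hi, mul_one]
  have hij : i ≠ j := by rintro rfl; exact hn r R.mem (e.trans (ss i hi r))
  obtain ⟨m, hm, em⟩ := h i hi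
  obtain ⟨l, hl, el⟩ := h j hj
  have e1 : r = b m * (b l * σ r * b l) * b m := by
    conv_lhs => rw [← I.inv r R.mem, e, I.cj _ (B.mem i hi) _ (cm j hj r R.mem), I.cj _ (B.mem j hj) r R.mem, ← em, ← el]
  have e2 : b l * (b m * r * b m) * b l = b i * (b j * r * b j) * b i := by
    rw [← e]
    conv_lhs => rw [e1, ss m hm, ss l hl]
  obtain rfl : l = i := (R.uniq i hi j hj l hl m hm hij e2).resolve_right (by
    rintro rfl
    exact hn _ (B.mem l hl) el.symm)
  refine hn _ (cm l hl r R.mem) ?_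
  rw [I.cj _ (B.mem l hl) r R.mem, show σ (b l) = b j by rw [el, I.inv _ (B.mem j hj)], e]
  have c := (B.comm l hl j hj).eq
  calc b j * (b l * (b j * r * b j) * b l) * b j = b j * b l * b j * r * (b j * b l * b j) := by group
    _ = _ := by rw [(comm_iff hD (B.mem j hj)).1 (B.comm j hj l hl)]

theorem fix_of_base [Finite G] (B : BM D N k b co) {r : G} (R : Far D N b r) {σ : G → G} (I : Iv D σ) :
    ∃ p ∈ D, σ p = p := by
  by_contra! hn
  have hD := B.grp.1
  have hc : ∀ p ∈ D, Commute p (σ p) := fun p hp => by_contra fun h => hn (p * σ p * p)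
    (by simpa [inv_eq hD hp] using B.conj_mem p _ (I.mem p hp))
    (by rw [I.cj p hp _ (I.mem p hp), I.inv p hp, braid hD hp (I.mem p hp) h])
  obtain ⟨S, ⟨h1, h2, h3⟩, hS⟩ := Set.exists_max_image
    {S : Set G | S ⊆ D ∧ (∀ a ∈ S, ∀ c ∈ S, Commute a c) ∧ ∀ a ∈ S, σ a ∈ S} Set.ncard (Set.toFinite _) ⟨∅, by simp⟩
  have mx : ∀ x ∈ D, (∀ a ∈ S, Commute a x) → x ∈ S := fun x hx h => by
    have h' : ∀ a ∈ S, Commute a (σ x) := fun a ha => by
      simpa [I.inv a (h1 ha)] using I.comm hD (h1 (h3 a ha)) hx (h _ (h3 a ha))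
    have := Set.eq_of_subset_of_ncard_le ((Set.subset_insert _ _).trans (Set.subset_insert _ _))
      (hS (insert x (insert (σ x) S)) ⟨?_, ?_, ?_⟩)
    · rw [this]; exact Or.inl rfl
    · rintro _ (rfl | rfl | ha)
      exacts [hx, I.mem x hx, h1 ha]
    · rintro a (rfl | rfl | ha) c (rfl | rfl | hc')
      exacts [Commute.refl _, hc _ hx, (h c hc').symm, (hc _ hx).symm, Commute.refl _, (h' c hc').symm, h a ha, h' a ha,
        h2 a ha c hc']
    · rintro _ (rfl | rfl | ha)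
      exacts [Or.inr (Or.inl rfl), Or.inl (I.inv x hx), Or.inr (Or.inr (h3 _ ha))]
  obtain ⟨c, -, h4⟩ := B.exists_conj (C := ⊤) (fun _ _ => mem_top _) h1 (by simp) h2
  obtain ⟨p, hp, e⟩ := fix_of_inv B R (I.conj B.conj_mem c) (fun p hp => by
    have := (commute_conj_iff c _ _).2 (hc _ (B.conj_mem c⁻¹ p hp))
    simpa [mul_assoc] using this) fun i hi => h4 _ (h3 _ (mx _ (B.conj_mem c⁻¹ _ (B.mem i hi)) fun a ha => by
      obtain ⟨l, hl, e⟩ := h4 a ha
      have := (commute_conj_left_iff' c _ _).1 (e ▸ B.comm l hl i hi)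
      simpa using this))
  refine hn _ (B.conj_mem c⁻¹ p hp) ?_
  conv_rhs => rw [← e]
  group

end

theorem far22 : Far (conjugatesOf (g22 0)) 22 (b22 pt22) (pt22 80) := by
  have M := m22_fi
  have hb : ∀ i < 22, ev g22 (nth 0 ws22 i) = b22 pt22 i := fun i hi => (M.pts.nth_spec (j := i) hi).2
  have cj : ∀ i < 22, ∀ a < 3510, b22 pt22 i * pt22 a * b22 pt22 i = pt22 (act ps22 (nth 0 ws22 i) a) := fun i hi a ha => by
    rw [← M.fm.conj_eq _ ha, hb i hi, inv_eq M.grp.1 (M.bm.mem i hi)]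
  have lt : ∀ w, ∀ a < 3510, act ps22 w a < 3510 := fun w a ha => M.fm.pm.act_lt w ha
  have tb' : ∀ i < 22, ∀ j < 22, act ps22 (nth 0 ws22 i) (act ps22 (nth 0 ws22 j) 80) = omE i j := fun i hi j hj => by
    have := allI_sound om_tab j (Nat.zero_le _) (by simpa using hj)
    rw [force_eq] at this
    exact Nat.eq_of_beq_eq_true (allI_sound this i (Nat.zero_le _) (by simpa using hi))
  have om : ∀ i < 22, ∀ j < 22, b22 pt22 i * (b22 pt22 j * pt22 80 * b22 pt22 j) * b22 pt22 i = pt22 (omE i j) ∧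
      omE i j < 3510 := fun i hi j hj =>
    ⟨by rw [cj j hj _ (by norm_num), cj i hi _ (lt _ _ (by norm_num)), tb' i hi j hj],
      tb' i hi j hj ▸ lt _ _ (lt _ _ (by norm_num))⟩
  have ne : ∀ i < 22, ¬ Commute (b22 pt22 i) (pt22 80) := fun i hi h =>
    ne_of_bnot_beq (allI_sound om_ne i (Nat.zero_le _) (by simpa using hi))
      ((M.fm.commute_iff' _ (by norm_num)).1 ((hb i hi).symm ▸ h))
  refine ⟨M.fm.tm.pt_mem (by norm_num), ne, fun x hx h1 h2 => ?_, fun i hi j hj l hl m hm hij e => ?_⟩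
  · have := semG_mono (n := 3510) (pt := pt22) om_cov (a := x) (by
      rw [M.fm.semG_patW M.fx M.pts (by norm_num), M.fm.semG_cmL M.fx (M.fm.pts om_pt), semG_fullM M.fm.tm]
      refine ⟨⟨hx, by simpa using h1⟩, fun a ha => ?_⟩
      obtain ⟨i, hi, rfl⟩ := exists_nth_of_mem 0 ha
      exact iff_of_false (h2 i hi) (ne i hi))
    rw [semG_maskL] at this
    obtain ⟨_, h3, -, rfl⟩ := this
    obtain ⟨n, hn, rfl⟩ := List.mem_map.1 h3
    have := List.mem_range.1 hn
    exact ⟨n / 22, by omega, n % 22, by omega, (om _ (by omega) _ (by omega)).1.symm⟩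
  · rw [(om l hl m hm).1, (om i hi j hj).1] at e
    have e' := M.fm.tm.inj _ (om l hl m hm).2 _ (om i hi j hj).2 e
    have := allI_sound om_uniq l (Nat.zero_le _) (by simpa using hl)
    rw [force_eq] at this
    have := allI_sound (allI_sound this i (Nat.zero_le _) (by simpa using hi)) j (Nat.zero_le _) (by simpa using hj)
    simp only [FiTool.bor_eq_true, bnot_eq_true, tb_eq] at this
    rcases this with h | h | h | h
    exacts [absurd (Nat.eq_of_beq_eq_true h) hij, Or.inl (Nat.eq_of_beq_eq_true h), Or.inr (Nat.eq_of_beq_eq_true h), by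
      rw [(testBit_maskL _ _).2 (List.mem_map.2 ⟨m, List.mem_range.2 hm, e'⟩)] at h
      exact absurd h (by simp)]

section
variable {G₀ G : Type*} [Group G₀] [Group G] {D₀ : Set G₀} {D : Set G} {j : G₀ →* G}

/-- a copy of a Fischer group which is closed under commuting and is normalised by the centralizers of its points -/
structure Sub' (D₀ : Set G₀) (D : Set G) (j : G₀ →* G) : Prop where
  prim : Prim D₀
  inj : Function.Injective j
  conj : ∀ g : G, ∀ d ∈ D, g * d * g⁻¹ ∈ D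
  one : ∀ x ∈ D, ∀ y ∈ D, ∃ g : G, g * x * g⁻¹ = y
  mem : ∀ p ∈ D₀, j p ∈ D
  cl : ∀ p ∈ D₀, ∀ x ∈ D, Commute (j p) x → ∃ q ∈ D₀, j q = x
  cent : ∀ p ∈ D₀, ∀ x, Commute (j p) x → x ∈ normalizer (j '' D₀)
  fix : ∀ t ∈ normalizer (j '' D₀), t * t = 1 → ∃ p ∈ D₀, Commute t (j p)
  odd : ∀ p ∈ D₀, ∀ q ∈ perp D₀ p, ∃ l : List G₀, (∀ a ∈ l, a ∈ perp (perp D₀ p) q) ∧ Odd l.length ∧ l.prod = 1

namespace Sub'

variable [Finite G₀]

theorem commute_iff (S : Sub' D₀ D j) {x y : G₀} : Commute (j x) (j y) ↔ Commute x y :=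
  ⟨fun h => S.inj (by rw [map_mul, map_mul, h.eq]), fun h => h.map j⟩

theorem pull (S : Sub' D₀ D j) {x : G} (hx : x ∈ D) : ∃ g : G, ∃ p ∈ D₀, x = g * j p * g⁻¹ ∧
    ∀ y ∈ D, Commute x y → ∃ q ∈ D₀, y = g * j q * g⁻¹ := by
  obtain ⟨p, hp, -⟩ := S.prim.two
  obtain ⟨g, rfl⟩ := S.one _ (S.mem p hp) x hx
  refine ⟨g, p, hp, rfl, fun y hy h => ?_⟩
  obtain ⟨q, hq, e⟩ := S.cl p hp _ (S.conj g⁻¹ y hy) (by simpa using (commute_conj_left_iff' _ _ _).1 h)
  exact ⟨q, hq, by rw [e]; group⟩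

theorem sq (S : Sub' D₀ D j) {x : G} (hx : x ∈ D) : x * x = 1 := by
  obtain ⟨g, p, hp, rfl, -⟩ := S.pull hx
  calc _ = g * j (p * p) * g⁻¹ := by rw [map_mul]; group
    _ = 1 := by rw [ThreeTrans.sq S.prim.set hp]; simp

theorem mem_of_norm (S : Sub' D₀ D j) {x : G} (hx : x ∈ D) (h : x ∈ normalizer (j '' D₀)) : ∃ q ∈ D₀, j q = x := by
  obtain ⟨p, hp, h⟩ := S.fix x h (S.sq hx)
  exact S.cl p hp _ hx h.symm

theorem jN (S : Sub' D₀ D j) (x : G₀) : j x ∈ normalizer (j '' D₀) := mem_normalizer_fintype <| by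
  rintro _ ⟨p, hp, rfl⟩
  exact ⟨_, S.prim.grp.2.1 x p hp, by simp⟩

theorem prod_ne_one (S : Sub' D₀ D j) {l : List G} (h : CL D l) (h0 : 0 < l.length) (h4 : l.length ≤ 4) :
    l.prod ≠ 1 := by
  obtain ⟨x, hx⟩ := List.exists_mem_of_length_pos h0
  obtain ⟨g, -, -, -, hg⟩ := S.pull (h.2.1 x hx)
  choose! q hq using fun y (hy : y ∈ l) => hg y (h.2.1 y hy) (h.2.2 x hx y hy)
  have h1 : CL D₀ (l.map q) := by
    refine ⟨h.1.map_on fun a ha b hb e => by rw [(hq a ha).2, (hq b hb).2, e], fun a ha => ?_, fun a ha b hb => ?_⟩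
    · obtain ⟨a, ha', rfl⟩ := List.mem_map.1 ha
      exact (hq a ha').1
    · obtain ⟨a, ha', rfl⟩ := List.mem_map.1 ha
      obtain ⟨b, hb', rfl⟩ := List.mem_map.1 hb
      have := h.2.2 a ha' b hb'
      rwa [(hq a ha').2, (hq b hb').2, commute_conj_iff, S.commute_iff] at this
  intro e
  refine h1.prod_ne_one S.prim (by simpa using h0) (by simpa using h4) (S.inj ?_)
  have h2 : cjL g ((l.map q).map j) = l := by
    conv_rhs => rw [← List.map_id l]
    rw [cjL, List.map_map, List.map_map]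
    exact List.map_congr_left fun a ha => (hq a ha).2.symm
  rw [← h2, prod_cjL] at e
  rw [map_list_prod, map_one]
  simpa using e

theorem two (S : Sub' D₀ D j) {x y : G} (hx : x ∈ D) (hy : y ∈ perp D x) : x * y ∉ D := by
  intro h
  have ne1 : ∀ z ∈ D, z ≠ 1 := fun z hz => by
    simpa using S.prod_ne_one (l := [z]) ⟨by simp, by simpa, by simp⟩ (by simp) (by simp)
  refine S.prod_ne_one (CL.triple hx hy.1 h hy.2.1.symm (fun e => ne1 y hy.1 (by simpa using e))
    (fun e => ne1 x hx (by simpa using e)) hy.2.2 ((Commute.refl x).mul_right hy.2.2)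
    (hy.2.2.symm.mul_right (Commute.refl y))) (by simp) (by simp) ?_
  simp only [List.prod_cons, List.prod_nil, mul_one]
  rw [← mul_assoc, ← pow_two, sq_of_commute (S.sq hx) (S.sq hy.1) hy.2.2]

theorem three (S : Sub' D₀ D j) {x y v : G} (hx : x ∈ D) (hy : y ∈ perp D x) (hv : v ∈ D) (h1 : Commute v x)
    (h2 : Commute v y) (h : v * (x * y) ∈ D) : v = x ∨ v = y := by
  by_contra hcon
  obtain ⟨n1, n2⟩ := not_or.1 hcon
  have c0 : Commute v (v * (x * y)) := (Commute.refl v).mul_right (h1.mul_right h2)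
  have c1 : Commute x (v * (x * y)) := h1.symm.mul_right ((Commute.refl x).mul_right hy.2.2)
  have c2 : Commute y (v * (x * y)) := h2.symm.mul_right (hy.2.2.symm.mul_right (Commute.refl y))
  have e : ∀ a ∈ D, ∀ c ∈ D, a * c = 1 → a = c := fun a ha c _ e => by
    rw [eq_inv_of_mul_eq_one_left e, inv_eq_of_mul_eq_one_right (S.sq ‹_›)]
  refine S.prod_ne_one (l := [v * (x * y), v, x, y]) ⟨?_, by simp [h, hv, hx, hy.1], ?_⟩ (by simp) (by simp) ?_
  · simp only [List.nodup_cons, List.mem_cons, List.not_mem_nil, or_false, not_or, List.nodup_nil, and_true,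
      not_false_eq_true]
    refine ⟨⟨fun e1 => hy.2.1 (e x hx y hy.1 (by simpa using e1)).symm, fun e1 => n2 (e v hv y hy.1 ?_),
      fun e1 => n1 (e v hv x hx ?_)⟩, ⟨n1, n2⟩, hy.2.1.symm⟩
    · rw [hy.2.2.eq, ← mul_assoc] at e1
      simpa using e1
    · rw [← mul_assoc] at e1
      simpa using e1
  · simp only [List.forall_mem_cons, List.not_mem_nil, false_imp_iff, implies_true, and_true]
    exact ⟨⟨Commute.refl _, c0.symm, c1.symm, c2.symm⟩, ⟨c0, Commute.refl _, h1, h2⟩,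
      ⟨c1, h1.symm, Commute.refl _, hy.2.2⟩, c2, h2.symm, hy.2.2.symm, Commute.refl _⟩
  · simp only [List.prod_cons, List.prod_nil, mul_one]
    exact S.sq h

theorem mem_perp (S : Sub' D₀ D j) {p q : G₀} (h : q ∈ perp D₀ p) : j q ∈ perp D (j p) :=
  ⟨S.mem q h.1, fun e => h.2.1 (S.inj e), h.2.2.map j⟩

theorem mem_norm_of_conj (S : Sub' D₀ D j) {p q : G₀} (hp : p ∈ D₀) (hq : q ∈ D₀) {g : G} (h : g * j p * g⁻¹ = j q) :
    g ∈ normalizer (j '' D₀) := by
  obtain ⟨x, rfl⟩ := exists_conj_of_class S.prim.cls hp hq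
  have h1 : Commute (j p) ((j x)⁻¹ * g) := by
    rw [map_mul, map_mul, map_inv] at h
    change _ = _
    calc j p * ((j x)⁻¹ * g) = (j x)⁻¹ * (j x * j p * (j x)⁻¹) * g := by group
      _ = _ := by rw [← h]; group
  exact (mul_mem_cancel_left (inv_mem (S.jN x))).1 (S.cent p hp _ h1)

variable [Finite G]

theorem cent_two₀ (S : Sub' D₀ D j) {p q : G₀} (hp : p ∈ D₀) (hq : q ∈ perp D₀ p) {l : List G₀}
    (hl : ∀ a ∈ l, a ∈ perp (perp D₀ p) q) (ho : Odd l.length) (h1 : l.prod = 1) {x : G}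
    (hx : Commute x (j p * j q)) : x ∈ normalizer (j '' D₀) := by
  have hd := S.mem p hp
  have he := S.mem_perp hq
  set w := j p * j q with hw
  have hu := S.conj x _ hd
  have cw : ∀ g, Commute g w → ∀ y, y * w ∈ D → g * y * g⁻¹ * w ∈ D := fun g hg y hy => by
    have := S.conj g _ hy
    rwa [mul_assoc, mul_assoc, ← hg.inv_left.eq, ← mul_assoc, ← mul_assoc] at this
  have huw := cw x hx _ (by rw [← mul_assoc, S.sq hd, one_mul]; exact he.1)
  have dw : Commute (j p) w := (Commute.refl _).mul_right he.2.2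
  have uw : Commute (x * j p * x⁻¹) w := (hx.mul_left dw).mul_left hx.inv_left
  generalize hu' : x * j p * x⁻¹ = u at hu huw uw
  have w1 : w ≠ 1 := fun e => he.2.1 (by
    rw [eq_inv_of_mul_eq_one_right e, inv_eq_of_mul_eq_one_right (S.sq hd)])
  have key : Commute u (j p) := by
    refine commute_of_odd (S.sq hd) (l := l.map j) (fun f hf => ?_) (by simpa using ho)
      (by rw [← map_list_prod, h1, map_one])
    obtain ⟨a, ha, rfl⟩ := List.mem_map.1 hf
    have a1 := S.mem_perp (hl a ha).1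
    have a2 := S.mem_perp (show a ∈ perp D₀ q from ⟨(hl a ha).1.1, (hl a ha).2⟩)
    have fw : Commute (j a) w := a1.2.2.symm.mul_right a2.2.2.symm
    have nf : j a * w ∉ D := fun h => (S.three hd he a1.1 a1.2.2.symm a2.2.2.symm h).elim a1.2.1 a2.2.1
    refine ⟨a1.2.2.symm, ?_⟩
    rcases dihedral (S.sq hu) (S.sq a1.1) with ⟨g, hg, e⟩ | ⟨z, -, z1, -, zu, zf, g, hg, ⟨e, e'⟩ | e⟩
    · exact absurd (e ▸ cw g (commute_pair uw fw hg) u huw) nf
    · exfalso
      have gw := commute_pair uw fw hg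
      have uuw : u * (u * w) = w := by rw [← mul_assoc, S.sq hu, one_mul]
      have c1 : Commute (g * u * g⁻¹) u := e ▸ (Commute.refl u).mul_left zu
      rcases S.three hu ⟨huw, fun e => w1 (by simpa using e), (Commute.refl u).mul_right uw⟩ (S.conj g u hu) c1
        (c1.mul_right ((gw.mul_left uw).mul_left gw.inv_left)) (by rw [uuw]; exact cw g gw u huw) with h | h
      · exact z1 (by simpa [e] using h)
      · rw [e, mul_right_inj] at h
        exact nf (h ▸ e' ▸ S.conj g _ a1.1)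
    · have gw := commute_pair uw fw hg
      have ha := (hl a ha).1.1
      obtain ⟨r, hr, er⟩ := S.cl a ha _ (S.conj g u hu) (e ▸ (Commute.refl _).mul_right zf.symm)
      have c1 : Commute (j r) w := er ▸ (gw.mul_left uw).mul_left gw.inv_left
      rw [hw, ← map_mul, S.commute_iff] at c1
      have c2 := commute_of_commute_mul S.prim.set hp hq.1 hr hq.2.1.symm c1 hq.2.2
      have ez : z = j a * j r := by rw [er, e, ← mul_assoc, S.sq a1.1, one_mul]
      rcases S.three hd he (S.mem r hr) (c2.1.map j) (c2.2.map j) (er ▸ cw g gw u huw) with h | h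
      · rw [← h, ← ez]; exact zu.symm
      · have e2 : j a * j p = z * w := by
          rw [ez, h, hw, he.2.2.eq, mul_assoc, ← mul_assoc (j q), S.sq he.1, one_mul]
        rw [e2]; exact zu.symm.mul_right uw
  obtain ⟨r, hr, er⟩ := S.cl p hp u hu key.symm
  exact S.mem_norm_of_conj hp hr (hu'.trans er.symm)

theorem cent_two (S : Sub' D₀ D j) {p q : G₀} (hp : p ∈ D₀) (hq : q ∈ perp D₀ p) {x : G}
    (hx : Commute x (j p * j q)) : x ∈ normalizer (j '' D₀) := by
  obtain ⟨l, h1, h2, h3⟩ := S.odd p hp q hq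
  exact S.cent_two₀ hp hq h1 h2 h3 hx

theorem bad (S : Sub' D₀ D j) {u : G} (hu : u ∈ D) (hn : u ∉ normalizer (j '' D₀)) :
    Bad D₀ ((centralizer {u}).comap j) := by
  have hm : ∀ x, x ∈ (centralizer {u}).comap j ↔ Commute u (j x) := fun x => by
    rw [mem_comap, mem_centralizer_singleton_iff]; exact ⟨fun h => h.symm, fun h => h.symm⟩
  refine ⟨fun p hp h => hn (S.cent p hp u ((hm p).1 h).symm), fun p hp q hq h => hn (S.cent_two hp hq ?_),
    fun p hp q hq => ?_⟩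
  · rw [← map_mul]; exact (hm _).1 h
  have hd := S.mem p hp
  have he := S.mem_perp hq
  have hy : j p * j q * (j p * j q) = 1 := by rw [← pow_two, sq_of_commute (S.sq hd) (S.sq he.1) he.2.2]
  rcases dihedral (S.sq hu) hy with ⟨g, -, e⟩ | ⟨z, hz, z1, z2, zu, zy, g, -, ⟨e, -⟩ | e⟩
  · exact absurd (e ▸ S.conj g u hu) (S.two hd he)
  · exfalso
    obtain ⟨s, hs, hsz⟩ := S.fix z (S.cent_two hp hq zy) z2
    obtain ⟨h, p', hp', e1, h1⟩ := S.pull hu
    obtain ⟨q', hq', e2⟩ := h1 _ (e ▸ S.conj g u hu) ((Commute.refl u).mul_right zu.symm)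
    have e3 : z = h * (j p' * j q') * h⁻¹ := by
      calc z = u * (u * z) := by rw [← mul_assoc, S.sq hu, one_mul]
        _ = _ := by rw [e2, e1]; group
    have h2 : q' ∈ perp D₀ p' := by
      refine ⟨hq', fun e4 => z1 ?_, S.commute_iff.1 ((commute_conj_iff h _ _).1 ?_)⟩
      · rw [e3, e4, S.sq (S.mem p' hp')]; simp
      · rw [← e1, ← e2]; exact (Commute.refl u).mul_right zu.symm
    obtain ⟨s', h3, e4⟩ := S.mem_of_norm (x := h⁻¹ * j s * h) (by simpa using S.conj h⁻¹ _ (S.mem s hs)) (by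
      refine S.cent_two hp' h2 ((commute_conj_iff h _ _).1 ?_)
      rw [← e3]
      simpa [mul_assoc] using hsz.symm)
    have h4 := S.mem_norm_of_conj h3 hs (g := h) (by rw [e4]; group)
    exact hn (e1 ▸ mul_mem (mul_mem h4 (S.jN p')) (inv_mem h4))
  · rw [← map_mul] at hy zy e hz
    obtain ⟨c, hc, e1⟩ := S.mem_of_norm (e ▸ S.conj g u hu) (mul_mem (S.jN _) (S.cent_two hp hq (map_mul j p q ▸ zy)))
    refine ⟨c, hc, S.commute_iff.1 (e1 ▸ (Commute.refl _).mul_left zy), (hm _).2 ?_, fun r hr h => S.commute_iff.1 ?_⟩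
    · rw [map_mul, e1, ← mul_assoc, hy, one_mul]; exact zu.symm
    · exact e1 ▸ (h.map j).mul_right (commute_pair ((hm r).1 hr) (h.symm.map j) hz).symm

theorem image_eq (S : Sub' D₀ D j) {N k : ℕ} {b : ℕ → G₀} {co : ℕ → ℕ} (B : BM D₀ N k b co)
    (hcov : covOK co N k 3 = true) (hN : ¬ (N + 1) ∣ 2 ^ k) : j '' D₀ = D :=
  Set.Subset.antisymm (by rintro _ ⟨p, hp, rfl⟩; exact S.mem p hp) fun _ hu =>
    S.mem_of_norm hu (by_contra fun hn => not_bad B hcov hN _ (S.bad hu hn))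

end Sub'

theorem fix_norm [Finite G₀] {N k : ℕ} {b : ℕ → G₀} {co : ℕ → ℕ} (B : BM D₀ N k b co) {r : G₀} (R : Far D₀ N b r)
    (hj : Function.Injective j) : ∀ t ∈ normalizer (j '' D₀), t * t = 1 → ∃ p ∈ D₀, Commute t (j p) := fun t ht h2 => by
  choose! σ h3 h4 using fun p (hp : p ∈ D₀) => (ht (j p)).1 ⟨p, hp, rfl⟩
  obtain ⟨p, hp, e⟩ := fix_of_base B R (σ := σ) ⟨h3, fun p hp => hj (by
    rw [h4 _ (h3 p hp), h4 p hp, ← mul_assoc, ← mul_assoc, h2, one_mul, mul_assoc, ← mul_inv_rev, h2, inv_one, mul_one]),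
    fun p hp q hq => hj (by
      rw [h4 _ (by simpa [inv_eq B.grp.1 hp] using B.conj_mem p q hq), map_mul, map_mul, map_mul, map_mul, h4 p hp, h4 q hq]
      group)⟩
  exact ⟨p, hp, mul_inv_eq_iff_eq_mul.1 ((h4 p hp).symm.trans (congrArg j e))⟩

end

end CfsgLib.Rec3B.AF
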