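import Mathlib
import Cfsg.Agent.Lib.Rec3B.AutFiB

/-!
# Involution centralizers `2.U6(2).2`: the frame and the Fischer subgroup
-/

set_option autoImplicit false
set_option maxRecDepth 100000

namespace CfsgLib.Rec3B.AF

open Cfsg Cfsg.Spor CfsgLib.Comput CfsgLib.Fischer CfsgLib.ThreeTrans CfsgLib.FiTool CfsgLib.FiType CfsgLib.M22T Subgroup

universe u

variable {G : Type u} {K : Type*} [Group G] [Group K]

theorem map_bprod (ι : K →* G) (B : ℕ → K) (k c : ℕ) : bprod (fun i => ι (B i)) k c = ι (bprod B k c) := by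
  induction k with
  | zero => exact (map_one ι).symm
  | succ k ih => rw [bprod_succ, bprod_succ, map_mul, ih]; split_ifs <;> simp

theorem AA_map (ι : K →* G) (B : ℕ → K) : AA (fun i => ι (B i)) = (AA B).map ι := by
  rw [MonoidHom.map_closure]
  exact congrArg Subgroup.closure (Set.ext fun x => ⟨fun ⟨i, hi, e⟩ => ⟨_, ⟨i, hi, rfl⟩, e⟩, fun ⟨_, ⟨i, hi, e'⟩, e⟩ => ⟨i, hi, (congrArg ι e').trans e⟩⟩)

variable {d : K} {Λ : Subgroup (K × Fi22)} {s : Fi22 → K} {co : ℕ → ℕ}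

theorem lift_word (C : Ctx (conjugatesOf (g22 0)) 22 10 (b22 pt22) (nth 0 cs22) co d Λ s) {w : ℕ}
    (h0 : act (tabP tu22) w 0 = 0) : ∃ c, (c, ev (lw g22 us22) w) ∈ Λ ∧
      ∀ v, c * bprod (lb d s (b22 pt22)) 10 v * c⁻¹ = bprod (lb d s (b22 pt22)) 10 (av co w v) := by
  have P := m22_fi.pb
  have h1 := fun i hi => smul_cpt_iff.1 (P.ev_smul w (i := i) hi)
  have h2 : Commute (ev (lw g22 us22) w) (b22 pt22 0) := mul_inv_eq_iff_eq_mul.1 (by rw [h1 0 (by omega), h0])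
  obtain ⟨c, hc⟩ := C.R.exr _ h2
  refine ⟨c, hc, C.B.conj fun i hi => ⟨P.act_lt w hi, ?_⟩⟩
  by_cases e : i = 0
  · rw [e, h0]; exact mul_inv_eq_iff_eq_mul.2 (C.R.left _ _ hc)
  · have h3 := C.M.conj_perp h2 (C.M.b_mem e hi)
    rw [h1 i hi] at h3
    rw [lb, lb, if_neg e, if_neg fun e => h3.2.1 (by rw [e]), C.S.conj _ _ hc _ (C.M.b_mem e hi), h1 i hi]

theorem exists_q8 (C : Ctx (conjugatesOf (g22 0)) 22 10 (b22 pt22) (nth 0 cs22) co d Λ s) {x w w' v v' : ℕ}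
    (h : q8OK co x w w' v v' = true) : ∃ u u', u * u = bprod (lb d s (b22 pt22)) 10 x ∧
      u' * u' = bprod (lb d s (b22 pt22)) 10 x ∧ u * u' * (u * u') = bprod (lb d s (b22 pt22)) 10 x := by
  simp only [q8OK, band_eq_true] at h
  obtain ⟨⟨h1, h2⟩, h3, ⟨h4, h5⟩, h6⟩ := h
  obtain ⟨c, hc, e⟩ := lift_word C (Nat.eq_of_beq_eq_true h1)
  obtain ⟨c', hc', e'⟩ := lift_word C (Nat.eq_of_beq_eq_true h2)
  have h7 := m22_fi.fm.allHold m22_fi.base us22 h3
  have sq : ∀ {a : K} {y : Fi22}, (a, y) ∈ Λ → y * y = 1 → a * a = 1 := fun h e =>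
    C.M.sq_eq_one C.R ((C.R.kerl _).1 (e ▸ Cor.mul h h))
  have key : ∀ {a : K} {V V' : ℕ}, a * a = 1 → a * bprod (lb d s (b22 pt22)) 10 V * a⁻¹ = bprod (lb d s (b22 pt22)) 10 V' →
      (Nat.xor V V').beq x = true →
      bprod (lb d s (b22 pt22)) 10 V * a * (bprod (lb d s (b22 pt22)) 10 V * a) = bprod (lb d s (b22 pt22)) 10 x := by
    intro a V V' h e h'
    rw [← Nat.eq_of_beq_eq_true h', show Nat.xor V V' = V ^^^ V' from rfl, C.B.xor, ← e, inv_eq_of_mul_eq_one_right h]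
    group
  refine ⟨_, _, key (sq hc (by simpa [Eqn.Holds, evL] using h7 ([w, w], []) (by simp))) (e v) h4,
    key (sq hc' (by simpa [Eqn.Holds, evL] using h7 ([w', w'], []) (by simp))) (e' v') h5, ?_⟩
  have e1 : bprod (lb d s (b22 pt22)) 10 v * c * (bprod (lb d s (b22 pt22)) 10 v' * c') =
      bprod (lb d s (b22 pt22)) 10 (Nat.xor v (av co w v')) * (c * c') := by
    rw [show Nat.xor v (av co w v') = v ^^^ av co w v' from rfl, C.B.xor, ← e]; group
  rw [e1]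
  refine key (sq (Cor.mul hc hc') (by simpa [Eqn.Holds, evL, mul_assoc] using h7 ([w, w', w, w'], []) (by simp))) ?_ h6
  rw [← e, ← e']; group

theorem comm_of_sec (R : Cor d (b22 pt22 0) Λ) (S : Sec Λ (perp (conjugatesOf (g22 0)) (b22 pt22 0)) s) {y y' : Fi22}
    (hy : y ∈ perp (conjugatesOf (g22 0)) (b22 pt22 0)) (hy' : y' ∈ perp (conjugatesOf (g22 0)) (b22 pt22 0))
    (h : Commute (s y) (s y')) : Commute y y' := by
  have h2 := mod22.kiso R S
  rw [comm_iff m22_fi.grp.1 hy.1, ← h2.inj ((tt22.perp' _).conj y hy y' hy') hy', h2.conj y hy y' hy', h.eq, mul_assoc,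
    mod22.lift_sq R hy (S.mem y hy), mul_one]

theorem fr_of_ctx [Finite K] (C : Ctx (conjugatesOf (g22 0)) 22 10 (b22 pt22) (nth 0 cs22) co d Λ s) {ι : K →* G}
    (hι : Function.Injective ι) (hd : ∀ x, Commute x d)
    (idx : ∀ a b, Commute a (ι d) → Commute b (ι d) → a ∉ ι.range → b ∉ ι.range → a * b ∈ ι.range)
    (q8 : ∀ x ∈ [6, 7], ∃ w w' v v', q8OK co x w w' v v' = true) :
    Fr (ι d) ι.range (ι '' (s '' perp (conjugatesOf (g22 0)) (b22 pt22 0))) (fun i => ι (lb d s (b22 pt22) i)) co := by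
  have M := C.M
  have cm : ∀ {x y : K}, Commute (ι x) (ι y) → Commute x y := fun h => hι (by rw [map_mul, map_mul, h.eq])
  have ha := fix_tabP (T := ft22a) rfl fix22a
  refine ⟨by rintro _ ⟨x, rfl⟩; exact (hd x).map ι, idx, ⟨C.B.kN, fun i hi => by rw [← map_mul, C.B.sq i hi, map_one],
    fun i hi j hj => (C.B.comm i hi j hj).map ι, C.B.colt, fun i hi => by rw [map_bprod, ← C.B.rel i hi],
    fun c hc e => C.B.inj c hc (hι (by rw [← map_bprod, e, map_one]))⟩, rfl, fun e => C.R.d1 (hι (e.trans ι.map_one.symm)),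
    fun i _ => ⟨_, rfl⟩, by rintro _ ⟨x, -, rfl⟩; exact ⟨x, rfl⟩, ?_, ?_, fun x => ?_,
    fun i hi j hj e => C.inj hi hj (hι e), ?_, fun P h1 h2 h3 => ?_, fun m => ?_, fun m => ?_, fun x hx => ?_, ?_⟩
  · rintro _ ⟨c, rfl⟩ _ ⟨x, hx, rfl⟩
    exact ⟨_, M.conjE C.R C.S (hd c) hx, by simp⟩
  · rintro _ ⟨_, ⟨y, hy, rfl⟩, rfl⟩ _ ⟨_, ⟨y', hy', rfl⟩, rfl⟩ h
    by_cases e : y = y'
    · obtain ⟨c, -, hc⟩ := M.exists_conj1 C.R C.S ⟨y, hy, rfl⟩
      have : ι c * ι (s y) * (ι c)⁻¹ = ι (lb d s (b22 pt22) 1) := by rw [← hc]; simp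
      exact ⟨_, ⟨c, rfl⟩, this, e ▸ this ▸ memA (fun i => ι (lb d s (b22 pt22) i)) (i := 1) (by norm_num)⟩
    · obtain ⟨c', h1, h2, h3⟩ := M.tr2 hy hy' e (comm_of_sec C.R C.S hy hy' (cm h))
      obtain ⟨c, hc⟩ := C.R.exr c' h1
      have q : ∀ z ∈ perp (conjugatesOf (g22 0)) (b22 pt22 0), ι c * ι (s z) * (ι c)⁻¹ = ι (s (c' * z * c'⁻¹)) := fun z hz => by
        rw [← C.S.conj _ _ hc z hz]; simp
      exact ⟨_, ⟨c, rfl⟩, by rw [q y hy, h2]; rfl, by
        rw [q y' hy', h3]; exact memA (fun i => ι (lb d s (b22 pt22) i)) (i := 2) (by norm_num)⟩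
  · rw [AA_map]
    constructor
    · rintro ⟨h, x, hx, rfl⟩
      obtain ⟨i, hi, e⟩ := C.mem_EA.1 ⟨(mem_map_iff_mem hι).1 h, hx⟩
      exact ⟨i, hi, congrArg ι e⟩
    · rintro ⟨i, hi, rfl⟩
      have := C.mem_EA.2 ⟨i, hi, rfl⟩
      exact ⟨⟨_, this.1, rfl⟩, _, this.2, rfl⟩
  · rintro _ ⟨t, rfl⟩ h
    obtain ⟨c, -, hc⟩ := M.exists_conj C.R C.S (hd t) (h.imp (fun e => hι (by simpa using e)) fun e => hι (by simpa using e))
    exact ⟨_, ⟨c, rfl⟩, AA_map ι _ ▸ ⟨_, hc, by simp⟩⟩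
  · obtain ⟨c, -, hc⟩ := M.exists_conj_two C.R C.S (P := P.comap ι) (h2.comap_of_injective ι hι) h3 fun x _ => hd x
    refine ⟨_, ⟨c, rfl⟩, fun B h4 h5 h6 h7 x hx => ?_⟩
    obtain ⟨x, rfl⟩ := h1 (h4 hx)
    refine AA_map ι _ ▸ ⟨_, hc (B.comap ι) (comap_mono h4) (fun y hy => hι (by simpa using h5 _ hy)) h6 ?_ x hx, by simp⟩
    rwa [← card_map_of_injective hι, map_comap_eq_self (h4.trans h1)]
  · obtain ⟨c, h1, h2⟩ := C.act (m22_fi.pb.tab' tab22a) (j := 0) (by norm_num) (fun m => ⟨ha m, ha m⟩) m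
    exact ⟨ι c, ⟨AA_map ι _ ▸ le_normalizer_map ι ⟨c, h1.1, rfl⟩, c, rfl⟩, fun i hi => ⟨(h2 i hi).1, by rw [← (h2 i hi).2]; simp⟩⟩
  · obtain ⟨c, h1, h2⟩ := C.act (m22_fi.pb.tab' tab22b) (j := 1) (by norm_num) (fun m =>
      ⟨fix_tabP (T := ft22b) rfl (fun m hm => (fix22b m hm).1) m, fix_tabP (T := ft22b) rfl (fun m hm => (fix22b m hm).2) m⟩) m
    refine ⟨ι c, ?_, fun i hi => ⟨(h2 i hi).1, by rw [← (h2 i hi).2]; simp⟩⟩
    rintro _ (rfl | rfl)
    exacts [((hd c).map ι).symm, (show Commute _ _ from h1.2 _ (Or.inr rfl)).map ι]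
  · obtain ⟨w, w', v, v', h⟩ := q8 x hx
    obtain ⟨u, u', h1, h2, h3⟩ := exists_q8 C h
    exact ⟨ι u, ι u', by rw [map_bprod, ← h1, map_mul], by rw [map_bprod, ← h2, map_mul], by
      rw [map_bprod, ← h3, map_mul, map_mul]⟩
  · rintro _ ⟨_, ⟨x, hx, rfl⟩, rfl⟩ _ ⟨_, ⟨y, hy, rfl⟩, rfl⟩ _ ⟨_, ⟨z, hz, rfl⟩, rfl⟩ n1 n2 n3 c1 c2 c3
    have n1 : x ≠ y := by rintro rfl; exact n1 rfl
    have n2 : x ≠ z := by rintro rfl; exact n2 rfl
    have n3 : y ≠ z := by rintro rfl; exact n3 rfl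
    have c1 := comm_of_sec C.R C.S hx hy (cm c1)
    have c2 := comm_of_sec C.R C.S hx hz (cm c2)
    have c3 := comm_of_sec C.R C.S hy hz (cm c3)
    have h1 := Cor.mul (Cor.mul (C.S.mem x hx) (C.S.mem y hy)) (C.S.mem z hz)
    have h2 : ¬ (x * y * z = 1 ∨ x * y * z = b22 pt22 0) := by
      rintro (e | e)
      · exact CL.prod_ne_one prim22 (CL.triple hx.1 hy.1 hz.1 n1 n2 n3 c1 c2 c3) (by simp) (by simp)
          (by simpa [mul_assoc] using e)
      · refine CL.prod_ne_one prim22 (l := [b22 pt22 0, x, y, z]) ⟨?_, by simp [M.z_mem, hx.1, hy.1, hz.1], ?_⟩ (by simp)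
          (by simp) ?_
        · simp [n1, n2, n3, hx.2.1.symm, hy.2.1.symm, hz.2.1.symm]
        · simp only [List.forall_mem_cons, List.not_mem_nil, false_imp_iff, implies_true, and_true]
          exact ⟨⟨Commute.refl _, hx.2.2, hy.2.2, hz.2.2⟩, ⟨hx.2.2.symm, Commute.refl _, c1, c2⟩,
            ⟨hy.2.2.symm, c1.symm, Commute.refl _, c3⟩, hz.2.2.symm, c2.symm, c3.symm, Commute.refl _⟩
        · simp only [List.prod_cons, List.prod_nil, mul_one]
          rw [← mul_assoc x, e, sq M.bm.grp.1 M.z_mem]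
    rw [← map_mul, ← map_mul]
    exact ⟨fun e => h2 ((C.R.kerr _).1 (hι (e.trans ι.map_one.symm) ▸ h1)),
      fun e => h2 (by simpa using C.R.eqr C.R.dl (hι e ▸ h1))⟩

theorem recog [Finite G] {d : G} {E : Set G} {s : Fi22 → G} (hd2 : orderOf d = 2) (h1 : perp (conjugatesOf d) d = E)
    (h2 : KIso (perp (conjugatesOf (g22 0)) (b22 pt22 0)) E s)
    (hz : ∀ z, Commute z d → (∀ y ∈ E, Commute z y) → z = 1 ∨ z = d) :
    ∃ j : Fi22 →* G, Function.Injective j ∧ j '' conjugatesOf (g22 0) = conjugatesOf d := by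
  have M := mod22
  have hc : ∀ g : G, ∀ x ∈ conjugatesOf d, g * x * g⁻¹ ∈ conjugatesOf d := fun g x hx => hx.trans (isConj_iff.2 ⟨g, rfl⟩)
  have ho : ∀ x ∈ conjugatesOf d, orderOf x = 2 := fun x hx => by
    obtain ⟨g, rfl⟩ := isConj_iff.1 hx
    exact ((MulAut.conj g).orderOf_eq d).trans hd2
  have h3 : IsThreeTranspositionSet E := by
    have q : ∀ x ∈ E, x * x = 1 := fun x hx => by rw [← pow_two, ← ho x (h1 ▸ hx).1, pow_orderOf_eq_one]
    refine ⟨fun x hx => ho x (h1 ▸ hx).1, fun x hx y hy => ?_⟩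
    obtain ⟨x, hx', rfl⟩ := h2.surj hx
    obtain ⟨y, hy', rfl⟩ := h2.surj hy
    by_cases c : Commute x y
    · refine Or.inl (sq_of_commute (q _ hx) (q _ hy) ?_)
      have := h2.conj x hx' y hy'
      rw [(comm_iff M.bm.grp.1 hx'.1).1 c] at this
      change _ = _
      conv_rhs => rw [this, mul_assoc, q _ hx, mul_one]
    · exact Or.inr (cube_of_braid (q _ hx) (q _ hy)
        (by rw [← h2.conj x hx' y hy', braid M.bm.grp.1 hx'.1 hy'.1 c, h2.conj y hy' x hx']))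
  have Lc : LocS (conjugatesOf d) 693 180 51 45 := ⟨hc, ho, fun x hx => by
    obtain ⟨g, rfl⟩ := isConj_iff.1 hx
    rw [← cj_perp hc, h1]
    exact (srg22.map h2 h3).map (KIso.of_hom (MulAut.conj g).toMonoidHom (MulAut.conj g).injective.injOn)
      (set_map_equiv (MulAut.conj g) h3), ineq22, by norm_num, by norm_num, by norm_num⟩
  have hd : d ∈ conjugatesOf d := mem_conjugatesOf_self
  have h4 : ∀ y ∈ E, y ∈ comp (conjugatesOf d) d := fun y hy =>
    have h4 := h1.ge hy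
    Lc.mem_comp hd (LocS.self_mem hd) h4.1 h4.2.2
  classical
  obtain ⟨e, he⟩ := t22 (G := closure (comp (conjugatesOf d) d)) (x := ⟨d, subset_closure (LocS.self_mem hd)⟩)
    (β := fun y => if h : s y ∈ closure (comp (conjugatesOf d) d) then ⟨s y, h⟩ else 1) (Lc.prim hd) (by
      rw [eq_bot_iff]
      intro x hx
      rw [mem_center_closure] at hx
      refine Subtype.ext ((hz x (hx d (LocS.self_mem hd)) fun y hy => hx y (h4 y hy)).resolve_right fun e => ?_)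
      obtain ⟨c, h6, h7⟩ := Lc.exists_not_commute hd
      exact h7 (e ▸ hx c h6)) (LocS.self_mem hd) (by
      rw [← b22_0]
      have q : ∀ y ∈ perp (conjugatesOf (g22 0)) (b22 pt22 0), ((if h : s y ∈ closure (comp (conjugatesOf d) d) then ⟨s y, h⟩
          else 1 : closure (comp (conjugatesOf d) d)) : G) = s y := fun y hy => by
        rw [dif_pos (show s y ∈ closure (comp (conjugatesOf d) d) from subset_closure (h4 _ (h2.mem hy)))]
      have q' : ∀ x : closure (comp (conjugatesOf d) d), x ∈ perp ((↑) ⁻¹' comp (conjugatesOf d) d)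
          ⟨d, subset_closure (LocS.self_mem hd)⟩ ↔ (x : G) ∈ E := fun x => by
        rw [← h1, ← Lc.perp_comp hd (LocS.self_mem hd)]
        exact and_congr Iff.rfl (and_congr Subtype.ext_iff.not (by simp [Commute, SemiconjBy, Subtype.ext_iff]))
      rw [b22_0] at *
      refine ⟨⟨fun y hy => (q' _).2 ((q y hy).symm ▸ h2.mem hy), fun y hy y' hy' e => (h2.inj hy hy').1 ?_, fun x hx => ?_⟩,
        fun x hx y hy => Subtype.ext ?_⟩
      · rw [← q y hy, ← q y' hy']; exact congrArg _ e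
      · obtain ⟨y, hy, e⟩ := h2.surj ((q' x).1 hx)
        exact ⟨y, hy, Subtype.ext ((q y hy).trans e)⟩
      · rw [coe_mul, coe_mul, q x hx, q y hy, q _ ((tt22.perp' _).conj x hx y hy), h2.conj x hx y hy])
  let j : Fi22 →* G := (closure (comp (conjugatesOf d) d)).subtype.comp e.symm.toMonoidHom
  have hi : Function.Injective j := Subtype.val_injective.comp e.symm.injective
  have hj : j '' conjugatesOf (g22 0) = comp (conjugatesOf d) d := by
    rw [← he]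
    ext x
    constructor
    · rintro ⟨_, ⟨x, hx, rfl⟩, rfl⟩
      simpa [j] using hx
    · exact fun hx => ⟨_, ⟨⟨x, subset_closure hx⟩, hx, rfl⟩, by simp [j]⟩
  obtain ⟨X, x0, x1, x2, x3⟩ := M.odd
  have T : Sub' (conjugatesOf (g22 0)) (conjugatesOf d) j := ⟨M.bm.prim, hi, hc,
    fun x hx y hy => isConj_iff.1 (hx.symm.trans hy), fun p hp => (hj.le ⟨p, hp, rfl⟩).1,
    fun p hp x hx h => hj.ge (Lc.mem_comp hd (hj.le ⟨p, hp, rfl⟩) hx h),
    fun p hp x h => by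
      have hw := hj.le ⟨p, hp, rfl⟩
      rw [hj]
      refine mem_normalizer_fintype fun y hy => ⟨hc x y hy.1, Lc.trans hd hw.1 (hc x y hy.1) hw.2 ?_⟩
      obtain ⟨c, h5, h6, h7⟩ := Lc.near hd hw hy
      refine ⟨_, hc x c h5, ?_, (commute_conj_iff x _ _).2 h7⟩
      have := (commute_conj_iff x _ _).2 h6
      rwa [← h.eq, mul_inv_cancel_right] at this,
    fix_norm M.bm far22 hi, odd_of_mask M.bm (by norm_num) M.t2 x0 x1 x2 x3⟩
  exact ⟨j, hi, T.image_eq M.bm b22_cov (by norm_num)⟩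

end CfsgLib.Rec3B.AF
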