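import Cfsg.Agent.Lib.M22T.I22
import Cfsg.Agent.S2079
import Cfsg.Agent.Lib.Rec3B.AutFiC

/-! Groups with an involution centraliser `2.U₆(2).2` (plans/REC3B.md, AUTFI). -/

set_option autoImplicit false

namespace CfsgLib.Rec3B

open Subgroup Cfsg

section
open Cfsg.Spor CfsgLib.Fischer CfsgLib.ThreeTrans CfsgLib.FiTool CfsgLib.FiType CfsgLib.M22T

theorem AF.concl {G : Type*} [Group G] [Finite G] {N : Subgroup G} [N.Normal] (e : N ≃* Fi22)
    (hc : centralizer (N : Set G) = ⊥) (h : N ≠ ⊤) : Nonempty (G ≃* MulAut Fi22) := by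
  have h1 : Function.Injective (MulAut.conjNormal (H := N)) := (injective_iff_map_eq_one _).2
    fun g a => mem_bot.1 (hc ▸ fun x hx => (mul_inv_eq_iff_eq_mul.1
      (congrArg (fun α : MulAut N => (α ⟨x, hx⟩ : G)) a)).symm)
  have h2 : Function.Injective (MulAut.conj (G := N)) := (injective_iff_map_eq_one _).2
    fun g a => Subtype.ext (mem_bot.1 (hc ▸ fun x hx => (mul_inv_eq_iff_eq_mul.1
      (congrArg (fun α : MulAut N => (α ⟨x, hx⟩ : G)) a)).symm))
  refine ⟨(MulEquiv.ofBijective _ (h1.bijective_of_nat_card_le ?_)).trans (MulAut.congr e)⟩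
  rw [← N.card_mul_index, card_eq_card_quotient_mul_card_subgroup (Inn N), (MultC.card_out_congr e).trans Agent.S2079.result,
    ← Nat.card_congr (MonoidHom.ofInjective h2).toEquiv, mul_comm]
  have h3 : N.index ≠ 1 := mt index_eq_one.1 h
  have h4 : N.index ≠ 0 := index_ne_zero_of_finite
  exact Nat.mul_le_mul_left _ (by omega)

theorem AF.main {G K : Type*} [Group G] [Finite G] [Group K] [Finite K] {d : K} {Λ : Subgroup (K × Fi22)}
    (R : Cor d (b22 pt22 0) Λ) (hp : Group.IsPerfect K) {ι : K →* G} (hι : Function.Injective ι) (hd : ∀ x, Commute x d)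
    (idx : ∀ a b, Commute a (ι d) → Commute b (ι d) → a ∉ ι.range → b ∉ ι.range → a * b ∈ ι.range)
    (ne : ∃ a, Commute a (ι d) ∧ a ∉ ι.range) (hC : ∀ c, Commute c (ι d) → (∀ x, Commute c (ι x)) → c = 1 ∨ c = ι d)
    (hn : ∃ g : G, g * ι d * g⁻¹ ∈ ι.range ∧ g * ι d * g⁻¹ ≠ ι d) : Nonempty (G ≃* MulAut Fi22) := by
  have ct : centralizer {d} = ⊤ := eq_top_iff.2 fun x _ => mem_centralizer_singleton_iff.2 (hd x)
  have hp' : Group.IsPerfect (centralizer {d}) := ct ▸ Group.IsPerfect.top_iff.2 hp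
  have M := mod22
  obtain ⟨s, S, h⟩ : ∃ s, Sec Λ (perp (conjugatesOf (g22 0)) (b22 pt22 0)) s ∧ ∀ x, Commute x (ι d) →
      (IsConj (ι d) x ↔ x = ι d ∨ x ∈ ι '' (s '' perp (conjugatesOf (g22 0)) (b22 pt22 0))) := by
    obtain ⟨s, e, he, C⟩ := M.exists_ctx R (m22_fi.pb.tab' tab22a) (fix_tabP (T := ft22a) rfl fix22a) (by decide) b22_hept.1
      (by rw [b22_hept.2]; decide) sol22
    have key : ∀ {os}, e ∈ [0, 2774, 4015] → AF.Ck (coE (Comput.nth 0 cs22) (e <<< 10)) os →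
        ∃ s, Sec Λ (perp (conjugatesOf (g22 0)) (b22 pt22 0)) s ∧ ∀ x, Commute x (ι d) →
          (IsConj (ι d) x ↔ x = ι d ∨ x ∈ ι '' (s '' perp (conjugatesOf (g22 0)) (b22 pt22 0))) := fun h1 h2 => by
      obtain ⟨ε, rfl | rfl, h3⟩ := (AF.fr_of_ctx C hι hd idx (AF.q8_22 e h1)).good h2 hn
      · exact ⟨s, C.S, by simpa using h3⟩
      · refine ⟨_, C.S.flip R, fun x hx => (h3 x hx).trans (or_congr_right ⟨?_, ?_⟩)⟩
        · rintro ⟨_, ⟨y, hy, rfl⟩, e⟩
          exact ⟨_, ⟨y, hy, rfl⟩, by rw [map_mul, e, ← mul_assoc, ← map_mul, R.d2, map_one, one_mul]⟩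
        · rintro ⟨_, ⟨y, hy, rfl⟩, rfl⟩
          exact ⟨_, ⟨y, hy, rfl⟩, by rw [← map_mul, ← mul_assoc, R.d2, one_mul]⟩
    simp only [List.mem_cons, List.not_mem_nil, or_false] at he
    rcases he with rfl | rfl | rfl | rfl
    exacts [key (by simp) AF.ck0, (Spl.false22 ⟨C.M, R, C.S, C.B, fun i h hi => even22 i hi h⟩ hp').elim,
      key (by simp) AF.ck1, key (by simp) AF.ck2]
  have h1 : perp (conjugatesOf (ι d)) (ι d) = ι '' (s '' perp (conjugatesOf (g22 0)) (b22 pt22 0)) := by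
    ext x
    refine ⟨fun hx => ((h x hx.2.2.symm).1 hx.1).resolve_left hx.2.1, fun hx => ?_⟩
    obtain ⟨_, ⟨y, hy, rfl⟩, rfl⟩ := id hx
    refine ⟨(h _ ((hd _).map ι)).2 (Or.inr hx), fun e => ?_, ((hd _).map ι).symm⟩
    rcases R.eqr R.dz (hι e ▸ S.mem y hy) with e | e
    exacts [hy.2.1 e, ne_one M.bm.grp.1 hy.1 (e.trans (sq M.bm.grp.1 M.z_mem))]
  have h5 : centralizer {d} ≤ closure (s '' perp (conjugatesOf (g22 0)) (b22 pt22 0)) := R.cent_le hp' fun y hy => by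
    refine Cor.mem_push.1 ((closure_le _).2 (fun y hy => ?_) (m22_fi.cent _ M.z_mem ▸ mem_centralizer_singleton_iff.2 hy))
    exact Cor.mem_push.2 ⟨_, subset_closure ⟨y, hy, rfl⟩, S.mem y hy⟩
  have hz : ∀ z, Commute z (ι d) → (∀ y ∈ ι '' (s '' perp (conjugatesOf (g22 0)) (b22 pt22 0)), Commute z y) →
      z = 1 ∨ z = ι d := fun z h2 h3 => hC z h2 fun x => by
    have := mem_map_of_mem ι (h5 (ct ▸ mem_top x))
    rw [MonoidHom.map_closure] at this
    exact (commute_of_mem_closure (fun y hy => (h3 y hy).symm) this).symm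
  obtain ⟨j, hj, e⟩ := AF.recog (by
    rw [orderOf_injective ι hι]
    exact orderOf_eq_prime (by rw [pow_two, R.d2]) R.d1) h1
    ((M.kiso R S).trans (KIso.of_hom ι hι.injOn) (tt22.perp' _)) hz
  have hr : j.range = closure (conjugatesOf (ι d)) := by
    rw [← e, ← MonoidHom.map_closure, m22_fi.grp.2.2, MonoidHom.range_eq_map]
  have : j.range.Normal := hr ▸ ⟨fun x hx g => (normalizer_le_normalizer_closure _ (mem_normalizer_fintype
    fun y hy => IsConj.trans hy (isConj_iff.2 ⟨g, rfl⟩)) x).1 hx⟩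
  obtain ⟨p, hp, ep⟩ := e.ge (mem_conjugatesOf_self (a := ι d))
  refine AF.concl (MonoidHom.ofInjective hj).symm (eq_bot_iff.2 fun z hz' => ?_) fun ht => ?_
  · have q : ∀ x, Commute z (j x) := fun x => (hz' _ ⟨x, rfl⟩).symm
    refine (hz z (ep ▸ q p) fun y hy => ?_).resolve_right fun e' => ?_
    · obtain ⟨x, -, rfl⟩ := e.ge (h1.ge hy).1
      exact q x
    · obtain ⟨c, -, h6⟩ := prim22.exists_not_commute hp
      exact h6 (hj (by simpa [e', ← ep] using (q c).symm.eq))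
  · obtain ⟨a, h2, h3⟩ := ne
    obtain ⟨x, rfl⟩ := ht.ge (mem_top a)
    have h4 : x ∈ closure (perp (conjugatesOf (g22 0)) p) :=
      m22_fi.cent p hp ▸ mem_centralizer_singleton_iff.2 (hj (by simpa [← ep] using h2.eq))
    refine h3 ((closure_le (ι.range.comap j)).2 (fun y hy => ?_) h4)
    obtain ⟨z, -, ez⟩ := h1.le (show j y ∈ _ from ⟨e.le ⟨y, hy.1, rfl⟩, fun e => hy.2.1 (hj (e.trans ep.symm)), ep ▸ hy.2.2.map j⟩)
    exact ⟨z, ez⟩

end

theorem autFi22 {G : Type*} [Group G] [Finite G] {d : G} (hd : orderOf d = 2) {L : Subgroup (centralizer ({d} : Set G))}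
    (hL : L.index = 2) (hp : Group.IsPerfect L) {K : Type} [Field K] [Fintype K] (hK : Fintype.card K = 4)
    (f : L →* PSU 6 K 2) (hf : Function.Surjective f) (hk : ∀ x, f x = 1 ↔ (x : G) = 1 ∨ (x : G) = d)
    (dL : ∃ x : L, (x : G) = d)
    (hC : ∀ c : centralizer ({d} : Set G), (∀ x ∈ L, c * x = x * c) → (c : G) = 1 ∨ (c : G) = d)
    (hn : ∃ (g : G) (x : L), g * d * g⁻¹ = x ∧ g * d * g⁻¹ ≠ d) : Nonempty (G ≃* MulAut Spor.Fi22) := by
  obtain ⟨d₀, e⟩ := dL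
  let ι : L →* G := (centralizer {d}).subtype.comp L.subtype
  have hι : Function.Injective ι := Subtype.val_injective.comp Subtype.val_injective
  have e' : ι d₀ = d := e
  have hd' : ∀ x : L, Commute x d₀ := fun x => hι (by
    rw [map_mul, map_mul, e']; exact mem_centralizer_singleton_iff.1 x.1.2)
  have hm : ∀ a (h : a ∈ centralizer {d}), a ∈ ι.range ↔ (⟨a, h⟩ : centralizer {d}) ∈ L := fun a h =>
    ⟨fun ⟨x, hx⟩ => (Subtype.ext hx : x.1 = ⟨a, h⟩) ▸ x.2, fun h => ⟨⟨_, h⟩, rfl⟩⟩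
  obtain ⟨β, -, φ, h1, h2, -⟩ := M22T.hom22 (F := K) hK
  obtain ⟨Λ, R⟩ := M22T.exists_cor (d := d₀) (hι (by rw [map_mul, e', map_one, ← pow_two, ← hd, pow_orderOf_eq_one]))
    (by rintro rfl; rw [← e', map_one] at hd; simp at hd) (ThreeTrans.ne_one FiTool.m22_fi.grp.1 M22T.mod22.z_mem)
    (f.comp (centralizer {d₀}).subtype) φ
    (hf.comp fun x => ⟨⟨x, mem_centralizer_singleton_iff.2 (hd' x)⟩, rfl⟩) h1 (fun a => (hk a).trans
      (or_congr ⟨fun h => hι (h.trans ι.map_one.symm), fun h => (congrArg ι h).trans ι.map_one⟩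
        ⟨fun h => hι (h.trans e'.symm), fun h => (congrArg ι h).trans e'⟩)) h2
  obtain ⟨g, x, h3, h4⟩ := hn
  refine AF.main R hp hι hd' (fun a b ha hb h5 h6 => ?_) ?_ (fun c h5 h6 => ?_) ⟨g, ⟨x, e'.symm ▸ h3.symm⟩, e'.symm ▸ h4⟩
  · rw [e'] at ha hb
    rw [hm _ (mem_centralizer_singleton_iff.2 ha)] at h5
    rw [hm _ (mem_centralizer_singleton_iff.2 hb)] at h6
    rw [hm _ (mem_centralizer_singleton_iff.2 (ha.mul_left hb))]
    exact (mul_mem_iff_of_index_two hL (a := ⟨a, _⟩) (b := ⟨b, _⟩)).2 (iff_of_false h5 h6)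
  · obtain ⟨a, ha⟩ : ∃ a, a ∉ L := by
      by_contra! h
      rw [(eq_top_iff' L).2 h, index_top] at hL
      exact absurd hL (by norm_num)
    exact ⟨a, e'.symm ▸ mem_centralizer_singleton_iff.1 a.2, fun h => ha ((hm _ a.2).1 h)⟩
  · rw [e'] at h5 ⊢
    exact hC ⟨c, mem_centralizer_singleton_iff.2 h5⟩ fun x hx => Subtype.ext (h6 ⟨x, hx⟩)

end CfsgLib.Rec3B
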