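import Cfsg.Agent.Lib.Rec3B.Es
import Cfsg.Agent.Lib.PLocal.Constrained

/-! The group `2^{1+4} . A₅` acts faithfully (plans/REC3B.md, COA1). -/

set_option autoImplicit false
set_option maxRecDepth 100000
set_option maxHeartbeats 400000
set_option linter.unusedSectionVars false
set_option linter.unusedVariables false

namespace CfsgLib.Rec3B

open Subgroup Cfsg CfsgLib.Tech CfsgLib.PComp CfsgLib.W2 CfsgLib.Rec3 W4
open CfsgLib.U43 (SL)
open CfsgLib.Sect Es

variable {G : Type*} [Group G] [Finite G]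
variable {B : Type*} [Group B] {Q : Subgroup G} {z : G} {f : G →* B} {j : B} {g : B →* alternatingGroup (Fin 5)}

theorem a5_card : Nat.card (alternatingGroup (Fin 5)) = 60 := by
  rw [nat_card_alternatingGroup]; simp; rfl

/-- two commuting involutions of `A₅` -/
def a5s : alternatingGroup (Fin 5) :=
  ⟨Equiv.swap 0 1 * Equiv.swap 2 3, Equiv.Perm.mem_alternatingGroup.2 (by decide)⟩
/-- two commuting involutions of `A₅` -/
def a5t : alternatingGroup (Fin 5) :=
  ⟨Equiv.swap 0 2 * Equiv.swap 1 3, Equiv.Perm.mem_alternatingGroup.2 (by decide)⟩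
/-- a three-cycle -/
def a5c : alternatingGroup (Fin 5) :=
  ⟨Equiv.swap 0 1 * Equiv.swap 1 2, Equiv.Perm.mem_alternatingGroup.2 (by decide)⟩

theorem a5_facts : a5s * a5s = 1 ∧ a5t * a5t = 1 ∧ a5s * a5t = a5t * a5s ∧ a5c ^ 3 = 1 ∧ a5c ≠ 1 ∧
    ∀ u ∈ [a5t, a5s, a5t * a5s], u * a5c ≠ a5c * u := by decide

/-- the elements acting trivially on `Q / ⟨z⟩` -/
def DD (Q : Subgroup G) (z : G) : Subgroup G := Cx z ⊓ ⨅ q ∈ Q, cmz z q

/-- `k` inverts `Q / ⟨z⟩` -/
def Ng (Q : Subgroup G) (z k : G) : Prop := ∀ q ∈ Q, k * q * k⁻¹ * q ∈ zpowers z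

namespace CH

variable (h : CH Q z f j g)
include h

theorem zz (k : G) : k ∈ Cx z := mem_Cx.2 (h.zc' k)

theorem zj {w : G} (hw : w ∈ zpowers z) (k : G) : k * w * k⁻¹ = w := zcj hw (h.zz k)

theorem nQ : Q.Normal := h.fk ▸ inferInstance

theorem fQ {k : G} : f k = 1 ↔ k ∈ Q := h.fk ▸ MonoidHom.mem_ker.symm

theorem mem_D {k : G} : k ∈ DD Q z ↔ ∀ q ∈ Q, k * q * k⁻¹ * q⁻¹ ∈ zpowers z := by
  simp only [DD, mem_inf, mem_iInf]
  exact ⟨fun k q hq => (k.2 q hq).2, fun e => ⟨h.zz k, fun q hq => ⟨h.zz k, e q hq⟩⟩⟩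

theorem Q_le : Q ≤ DD Q z := fun p hp => h.mem_D.2 (h.cmt p hp)

theorem nD : (DD Q z).Normal := ⟨fun k hk y => h.mem_D.2 fun q hq => by
  have := h.mem_D.1 hk _ (h.nQ.conj_mem' q hq y)
  rw [← h.zj this y] at this
  convert this using 1
  group⟩

theorem mem_K {k : G} : f k ∈ (DD Q z).map f ↔ k ∈ DD Q z :=
  ⟨fun e => by simpa [h.fk, sup_eq_left.2 h.Q_le] using (comap_map_eq f (DD Q z)).le e,
    mem_map_of_mem f⟩

theorem nK : ((DD Q z).map f).Normal := h.nD.map f h.fs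

theorem cubeC {k : G} (hk : k ∈ DD Q z) : k ^ 3 ∈ centralizer (Q : Set G) := fun q hq => by
  have hw := h.mem_D.1 hk q hq
  obtain ⟨w, e⟩ : ∃ w, w = k * q * k⁻¹ * q⁻¹ := ⟨_, rfl⟩
  rw [← e] at hw
  have e1 : k * q * k⁻¹ = w * q := by rw [e]; group
  have e2 := h.zj hw k
  calc q * k ^ 3 = w ^ 3 * q * k ^ 3 := by rw [zcube h.z3 hw, one_mul]
    _ = k * w * k⁻¹ * (k * w * k⁻¹) * (k * q * k⁻¹) * k ^ 3 := by rw [e2, e1, pow_three w]; group
    _ = k * (k * w * k⁻¹ * (k * q * k⁻¹)) * k⁻¹ * k ^ 3 := by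
      conv_rhs => rw [e2, e1]
      group
    _ = k * k * (k * q * k⁻¹) * k⁻¹ * k⁻¹ * k ^ 3 := by
      conv_rhs => rw [e1]
      group
    _ = _ := by rw [pow_three]; group

theorem C_le {k : G} (hk : Q ≤ Cx k) : k ∈ DD Q z := h.mem_D.2 fun q hq => by
  rw [← mem_Cx.1 (hk hq)]; simp

theorem ng_mul {a d : G} (ha : Ng Q z a) (hd : d ∈ DD Q z) : Ng Q z (a * d) := fun q hq => by
  have h1 := h.mem_D.1 hd q hq
  rw [← h.zj h1 a] at h1
  convert mul_mem h1 (ha q hq) using 1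
  group

theorem ng_ng {a b : G} (ha : Ng Q z a) (hb : Ng Q z b) : a * b ∈ DD Q z := h.mem_D.2 fun q hq => by
  have h1 := hb q hq
  have h2 := inv_mem (ha q hq)
  rw [← h.zj h1 a] at h1
  rw [← h.zj h2 q] at h2
  convert mul_mem h1 h2 using 1
  group

theorem ng_cen {a : G} (ha : Ng Q z a) (y : G) : a * y * a⁻¹ * y⁻¹ ∈ DD Q z := by
  have h1 : Ng Q z (y * a⁻¹ * y⁻¹) := fun q hq => by
    have := ha _ (h.nQ.conj_mem' _ (h.nQ.conj_mem' q hq y) a)
    rw [← h.zj this (y * (y⁻¹ * q * y)⁻¹)] at this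
    convert this using 1
    group
  simpa [mul_assoc] using h.ng_ng ha h1

theorem ng_not {a : G} (ha : Ng Q z a) : a ∉ DD Q z := fun hd => by
  have : Q ≤ zpowers z := fun q hq => by
    have h1 := mul_mem (inv_mem (h.mem_D.1 hd q hq)) (ha q hq)
    convert mul_mem (h.toEQ.cube hq) (inv_mem h1) using 1
    rw [pow_three]
    group
  have := card_le_of_le this
  rw [h.card, cardZ h.z1 h.z3] at this
  omega

theorem finB : Finite B := Finite.of_surjective f h.fs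

theorem cardB : Nat.card B = 1920 := by
  have := g.ker.card_mul_index
  rw [h.cardR, index_ker, MonoidHom.range_eq_top.2 h.gs, card_top, a5_card] at this
  omega

theorem cardH : Nat.card G = 466560 := by
  have := f.ker.card_mul_index
  rw [index_ker, MonoidHom.range_eq_top.2 h.fs, card_top, h.cardB, h.fk, h.card] at this
  omega

theorem twoR : IsPGroup 2 g.ker := IsPGroup.of_card (n := 5) h.cardR

theorem jc (b : B) : b * j = j * b := by
  have h1 := (inferInstance : g.ker.Normal).conj_mem j h.jR b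
  rw [← mul_inv_eq_iff_eq_mul]
  refine ((h.cenR _ h1).1 fun w hw => ?_).resolve_left fun e => h.j1 (by simpa using e)
  have := (h.cenR j h.jR).2 (Or.inr rfl) _ ((inferInstance : g.ker.Normal).conj_mem' w hw b)
  calc _ = b * (b⁻¹ * w * b * j) * b⁻¹ := by group
    _ = _ := by rw [this]; group

theorem K_le : (DD Q z).map f ≤ g.ker := by
  have := h.finB
  rw [← Subgroup.map_eq_bot_iff]
  refine ((h.nK.map g h.gs).eq_bot_or_eq_top).resolve_right fun e => ?_
  obtain ⟨_, ⟨k, hk, rfl⟩, e⟩ := e.ge (mem_top a5c)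
  obtain ⟨p, hp, hp'⟩ := h.toEQ.inner (h.zz k) (h.mem_D.1 hk)
  have h1 : p⁻¹ * k ∈ centralizer (Q : Set G) := fun q hq => by
    calc _ = p⁻¹ * (p * q * p⁻¹) * k := by group
      _ = _ := by rw [← hp' q hq]; group
  have h2 : g (f (p⁻¹ * k)) = a5c := by rw [map_mul, map_inv, h.fQ.2 hp, ← e]; simp
  generalize p⁻¹ * k = x at h1 h2
  have h3 : (x ^ 640) ^ 3 ∈ Q := h.fQ.1 (by
    rw [← pow_mul, map_pow, ← pow_card_eq_one' (x := f x), h.cardB])
  have h4 := h.nt (x ^ 640) (by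
    rw [show 9 = 3 * 3 from rfl, pow_mul]
    exact zcube h.z3 (h.cen _ h3 (pow_mem (pow_mem h1 640) 3)))
    fun q hq => (pow_mem h1 640 q hq).symm
  have h5 := congrArg g (h.fQ.2 h4)
  rw [map_pow, map_pow, h2, map_one, show 640 = 3 * 213 + 1 from rfl, pow_succ, pow_mul,
    a5_facts.2.2.2.1, one_pow, one_mul] at h5
  exact a5_facts.2.2.2.2.1 h5

theorem not_R {u : B} (u5 : u ^ 5 = 1) (u1 : u ≠ 1) : u ∉ g.ker := fun hu => u1 (by
  have : u ^ 4 = 1 := by
    rw [show 4 = 2 + 2 from rfl, pow_add, sq]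
    rcases h.sqR u hu with e | e <;> simp [e, h.jj]
  rwa [pow_succ, this, one_mul] at u5)

theorem scal {k : G} (e : Q ≤ Cx k ∨ neg Q z k = Q) : k ∈ DD Q z ∨ Ng Q z k :=
  e.imp h.C_le fun e q hq => (h.toEQ.ez.mem_neg.1 (e.ge hq)).2

/-- an involution which commutes with an element of order five is a scalar -/
theorem five {u : B} (u5 : u ^ 5 = 1) (u1 : u ≠ 1) {t : G} (tt : t * t ∈ DD Q z)
    (ut : u * f t * u⁻¹ * (f t)⁻¹ ∈ (DD Q z).map f) : t ∈ DD Q z ∨ Ng Q z t := by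
  obtain ⟨v, rfl, v5⟩ : ∃ v, f v = u ∧ v ^ 5 = 1 := by
    obtain ⟨v, rfl⟩ := h.fs u
    refine ⟨v ^ 36, ?_, ?_⟩
    · rw [map_pow, show 36 = 5 * 7 + 1 from rfl, pow_succ, pow_mul, u5, one_pow, one_mul]
    · have := zcube h.z3 (h.toEQ.cube (h.fQ.1 ((map_pow f v 5).trans u5)))
      rw [← pow_mul, ← pow_mul] at this
      rw [← pow_mul, show 36 * 5 = 5 * (3 * 3) * 4 from rfl, pow_mul, this, one_pow]
  have nN : ∀ k, k ∈ normalizer (Q : Set G) := fun k => by
    have := h.nQ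
    rw [normalizer_eq_top]; trivial
  have := h.nD
  rw [← map_inv, ← map_inv, ← map_mul, ← map_mul, ← map_mul, h.mem_K] at ut
  obtain ⟨s, hs⟩ : ∃ s, s = t * (t * t) := ⟨_, rfl⟩
  have ss : s * s ∈ centralizer (Q : Set G) := by
    convert h.cubeC tt using 1
    rw [hs, pow_three]; group
  have vs : s * v * s⁻¹ * v⁻¹ ∈ DD Q z := by
    convert mul_mem (mul_mem (this.conj_mem _ tt t) (inv_mem ut))
      (this.conj_mem _ (inv_mem tt) (v * t)) using 1
    rw [hs]; group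
  suffices s ∈ DD Q z ∨ Ng Q z s from this.imp
    (fun k => by simpa [hs, mul_assoc] using mul_mem k (inv_mem tt))
    fun k => by simpa [hs, mul_assoc] using h.ng_mul k (inv_mem tt)
  have e := h.toEQ
  rcases e.cards (nN s) (h.zz s) ss with k | k | ⟨c1, c2⟩
  · exact h.scal (Or.inl k)
  · exact h.scal (Or.inr k)
  exfalso
  have nq := fun k {q} (hq : q ∈ Q) => h.nQ.conj_mem q hq k
  have sw : ∀ q ∈ Q, s * (v * q * v⁻¹) * s⁻¹ * (v * (s * q * s⁻¹) * v⁻¹)⁻¹ ∈ zpowers z :=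
    fun q hq => by
      convert h.mem_D.1 vs _ (nq v (nq s hq)) using 1
      group
  have h1 := five27 c1 ⟨h.zQ, Cx_comm.1 (h.zz s)⟩ h.z1 h.z3 (mem_normalizer_of_forall fun p hp =>
    ⟨nq v hp.1, e.fix_mod (nN s) (h.zz s) ss (nq v hp.1) (by
      have := sw p hp.1
      rwa [← mem_Cx.1 hp.2, mul_inv_cancel_right] at this)⟩) (h.zz v) v5
  have h2 := five27 c2 (e.ez.z_neg (h.zz s)) h.z1 h.z3 (mem_normalizer_of_forall fun p hp => by
    obtain ⟨h1, h2⟩ := e.ez.mem_neg.1 hp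
    rw [← h.zj h2 v] at h2
    refine e.ez.mem_neg.2 ⟨nq v h1, ?_⟩
    convert mul_mem (sw p h1) h2 using 1
    group) (h.zz v) v5
  refine h.not_R u5 u1 (h.K_le (mem_map_of_mem f (h.C_le fun q hq => ?_)))
  obtain ⟨p, hp, n, hn, rfl⟩ := e.split (nN s) (h.zz s) ss hq
  exact mul_mem (h1 hp) (h2 hn)

/-- a four-group contains a scalar -/
theorem four' {T : Subgroup B} (hT : IsPGroup 2 T) {s t : B} (hs : s ∈ T) (ht : t ∈ T)
    (ss : s * s ∈ (DD Q z).map f) (tt : t * t ∈ (DD Q z).map f)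
    (st : s * t * s⁻¹ * t⁻¹ ∈ (DD Q z).map f) :
    ∃ k, (f k = t ∨ f k = s ∨ f k = t * s) ∧ (k ∈ DD Q z ∨ Ng Q z k) := by
  obtain ⟨P, hP, rfl⟩ := PLocal.Constr.exists_isPGroup_map_eq h.fs hT
  obtain ⟨s, hs, rfl⟩ := hs
  obtain ⟨t, ht, rfl⟩ := ht
  have c : ∀ k ∈ P, f k ∈ (DD Q z).map f → k ∈ centralizer (Q : Set G) := fun k hk e => by
    obtain ⟨n, hn⟩ := isPGroup_iff_mem.1 hP k hk
    exact mem_of_coprime_pow (Nat.Coprime.pow_right n (by norm_num : Nat.Coprime 3 2))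
      (h.cubeC (h.mem_K.1 e)) (hn ▸ one_mem _)
  have nN : ∀ k, k ∈ normalizer (Q : Set G) := fun k => by
    have := h.nQ
    rw [normalizer_eq_top]; trivial
  obtain ⟨u, hu, e⟩ := h.toEQ.four (nN t) (h.zz t) (c _ (mul_mem ht ht) (by rwa [map_mul])) (nN s)
    (h.zz s) (c _ (mul_mem hs hs) (by rwa [map_mul]))
    (c _ (mul_mem (mul_mem (mul_mem hs ht) (inv_mem hs)) (inv_mem ht)) (by simpa using st))
  refine ⟨u, ?_, h.scal e⟩
  rcases hu with rfl | rfl | rfl <;> simp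

theorem ng_cenK {k : G} (hk : Ng Q z k) (b : B) : f k * b * (f k)⁻¹ * b⁻¹ ∈ (DD Q z).map f := by
  obtain ⟨y, rfl⟩ := h.fs b
  simpa using mem_map_of_mem f (h.ng_cen hk y)

theorem noA5 {L : Subgroup B} (hL : L.map g = ⊤) (hK : L ⊓ g.ker ≤ (DD Q z).map f) : False := by
  obtain ⟨s, hs, es⟩ := mem_map.1 (hL.ge (mem_top a5s))
  obtain ⟨t, ht, et⟩ := mem_map.1 (hL.ge (mem_top a5t))
  obtain ⟨f1, f2, f3, -, -, f4⟩ := a5_facts
  have h2 : IsPGroup 2 (zpowers a5s ⊔ zpowers a5t : Subgroup _) := isPGroup_iff_mem.2 fun x hx => by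
    obtain ⟨a, ha, b, hb, rfl⟩ := (mem_sup_of_comm fun a ha b hb => by
      rcases (mem_zpowers_two f1).1 ha with rfl | rfl <;>
        rcases (mem_zpowers_two f2).1 hb with rfl | rfl <;> simp [f3]).1 hx
    refine ⟨1, ?_⟩
    rcases (mem_zpowers_two f1).1 ha with rfl | rfl <;>
      rcases (mem_zpowers_two f2).1 hb with rfl | rfl <;> decide
  obtain ⟨k, hk, e⟩ := h.four' (h2.comap_of_ker_isPGroup g h.twoR) (s := s) (t := t)
    (by rw [mem_comap, es]; exact mem_sup_left (mem_zpowers _))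
    (by rw [mem_comap, et]; exact mem_sup_right (mem_zpowers _))
    (hK <| mem_inf.2 ⟨mul_mem hs hs, by rw [MonoidHom.mem_ker, map_mul, es, f1]⟩)
    (hK <| mem_inf.2 ⟨mul_mem ht ht, by rw [MonoidHom.mem_ker, map_mul, et, f2]⟩)
    (hK <| mem_inf.2 ⟨mul_mem (mul_mem (mul_mem hs ht) (inv_mem hs)) (inv_mem ht), by
      simp [MonoidHom.mem_ker, es, et, f3]⟩)
  obtain ⟨c, hc⟩ := h.gs a5c
  refine f4 (g (f k)) (by rcases hk with e | e | e <;> simp [e, es, et]) ?_
  rcases e with e | e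
  · simp [MonoidHom.mem_ker.1 (h.K_le (mem_map_of_mem f e))]
  · have := h.K_le (h.ng_cenK e c)
    rwa [MonoidHom.mem_ker, map_mul, map_mul, map_mul, map_inv, map_inv, hc, mul_inv_eq_one,
      mul_inv_eq_iff_eq_mul] at this

theorem j_mem {M : Subgroup B} (hM : M.Normal) {y : B} (hy : y ∈ M) (hR : y ∈ g.ker) (h1 : y ≠ 1) :
    j ∈ M := by
  by_cases e : y = j
  · exact e ▸ hy
  have := mt (h.cenR y hR).1 (by tauto)
  push Not at this
  obtain ⟨w, hw, hw'⟩ := this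
  convert mul_mem (hM.conj_mem y hy w) (inv_mem hy) using 1
  rw [(h.cmtR w hw y hR).resolve_left hw']
  group

theorem card_mod {u : B} (u5 : u ^ 5 = 1) {M : Subgroup B} (hM : M.Normal) (hR : M ≤ g.ker)
    (hc : Nat.card (M ⊓ Cx u : Subgroup B) % 5 = 2) : Nat.card M = 2 ∨ g.ker ≤ M := by
  haveI : Fact (Nat.Prime 5) := ⟨by norm_num⟩
  have := h.finB
  have h1 := Transfer.card_modEq_card_inf_centralizer (q := 5) (Q := M) (g := u)
    (by rw [normalizer_eq_top]; trivial) ⟨1, u5⟩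
  have h2 := card_dvd_of_le hR
  rw [h.cardR] at h2
  obtain ⟨i, hi, e⟩ := (Nat.dvd_prime_pow Nat.prime_two).1 (show _ ∣ 2 ^ 5 from h2)
  have h3 : Nat.card M % 5 = 2 := Eq.trans h1 hc
  refine (show Nat.card M = 2 ∨ Nat.card M = 32 from ?_).imp_right fun k =>
    (eq_of_le_of_card_ge hR (by rw [k, h.cardR])).ge
  rw [e] at h3 ⊢
  interval_cases i <;> simp_all

/-- elements of order five act without fixed points on `R / Z(R)` -/
theorem fpf {u y : B} (u5 : u ^ 5 = 1) (u1 : u ≠ 1) (hy : y ∈ g.ker) (e : u * y * u⁻¹ = y ∨ u * y * u⁻¹ = j * y) :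
    y = 1 ∨ y = j := by
  haveI : Fact (Nat.Prime 5) := ⟨by norm_num⟩
  have := h.finB
  have e : y ∈ Cx u := by
    rcases e with e | e
    · exact Cx_comm.1 (mem_Cx'.2 e)
    have e2 : u * u * y * (u * u)⁻¹ = y := by
      calc _ = u * (u * y * u⁻¹) * u⁻¹ := by group
        _ = u * (j * y) * u⁻¹ := by rw [e]
        _ = u * j * u⁻¹ * (u * y * u⁻¹) := by group
        _ = y := by rw [h.jc u, e, mul_inv_cancel_right, ← mul_assoc, h.jj, one_mul]
    exact Cx_comm.1 (mem_of_coprime_pow (by norm_num : Nat.Coprime 2 5) (by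
      rw [sq]; exact mem_Cx'.2 e2) (u5 ▸ one_mem _))
  have h1 := Transfer.card_modEq_card_inf_centralizer (q := 5) (Q := g.ker) (g := u)
    (by rw [normalizer_eq_top]; trivial) ⟨1, u5⟩
  have h2 := card_dvd_of_le (inf_le_left : g.ker ⊓ Cx u ≤ g.ker)
  rw [h.cardR] at h1 h2
  obtain ⟨i, hi, hc⟩ := (Nat.dvd_prime_pow Nat.prime_two).1 (show _ ∣ 2 ^ 5 from h2)
  have h3 : Nat.card (g.ker ⊓ Cx u : Subgroup B) ≤ 2 ∨ 32 ≤ Nat.card (g.ker ⊓ Cx u : Subgroup B) := by
    change 32 ≡ Nat.card (g.ker ⊓ Cx u : Subgroup B) [MOD 5] at h1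
    rw [hc] at h1 ⊢
    interval_cases i <;> simp_all [Nat.ModEq]
  rcases h3 with h3 | h3
  · exact two_cases h3 ⟨h.jR, mem_Cx.2 (h.jc u).symm⟩ h.j1 ⟨hy, e⟩
  exfalso
  have uR : g.ker ≤ Cx u := inf_eq_left.1 (eq_of_le_of_card_ge inf_le_left (by rwa [h.cardR]))
  by_cases hj : j ∈ (DD Q z).map f
  · refine h.noA5 (L := centralizer g.ker) ((((inferInstance :
      (centralizer (g.ker : Set B)).Normal).map g h.gs).eq_bot_or_eq_top).resolve_left fun k =>
        h.not_R u5 u1 ((Subgroup.map_eq_bot_iff _).1 k fun w hw => mem_Cx.1 (uR hw))) fun y hy => ?_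
    rcases (h.cenR y hy.2).1 hy.1 with rfl | rfl
    exacts [one_mem _, hj]
  have K1 : ∀ y ∈ (DD Q z).map f, y = 1 := fun y hy => by
    by_contra k
    exact hj (h.j_mem h.nK hy (h.K_le hy) k)
  have inv : ∀ y ∈ g.ker, y * y = 1 → y = 1 ∨ y = j := fun y hy yy => by
    obtain ⟨t, rfl⟩ := h.fs y
    rcases h.five u5 u1 (t := t) (h.mem_K.1 (by rw [map_mul, yy]; exact one_mem _))
      (by rw [← mem_Cx.1 (uR hy)]; simp) with k | k
    · exact Or.inl (K1 _ (mem_map_of_mem f k))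
    · refine (h.cenR _ hy).1 fun w _ => ?_
      have := K1 _ (h.ng_cenK k w)
      rw [mul_inv_eq_one, mul_inv_eq_iff_eq_mul] at this
      exact this.symm
  have sq : ∀ y ∈ g.ker, y ∉ zpowers j → y * y = j := fun y hy k =>
    (h.sqR y hy).resolve_left fun e => k ((mem_zpowers_two h.jj).2 (inv y hy e))
  obtain ⟨a, ha, ha'⟩ := exists_notMem (K := zpowers j) (H := g.ker)
    (by rw [card_zpowers_two h.jj h.j1, h.cardR]; decide)
  have aj : j ∈ zpowers a := sq a ha ha' ▸ mul_mem (mem_zpowers a) (mem_zpowers a)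
  have c1 : (Cx a).relIndex g.ker ≤ 2 := relIndex_le_two fun x hx w hw k1 k2 => mem_Cx.2 (by
    have e1 := (h.cmtR x hx a ha).resolve_left (mt mem_Cx.2 k1)
    have e2 := (h.cmtR w hw a ha).resolve_left (mt mem_Cx.2 k2)
    calc _ = x⁻¹ * (j * (a * x)) * (x⁻¹ * w) := by rw [mul_assoc, e2]; group
      _ = _ := by rw [← e1]; group)
  have c2 := card_eq_relIndex (Cx a) g.ker
  have c3 : Nat.card (zpowers a) ≤ 4 := by
    rw [Nat.card_zpowers]
    exact orderOf_le_of_pow_eq_one (by norm_num) (by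
      rw [show 4 = 2 + 2 from rfl, pow_add, pow_two, sq a ha ha', h.jj])
  obtain ⟨w, hw, hw'⟩ := exists_notMem (K := zpowers a) (H := Cx a ⊓ g.ker) (by
    rw [h.cardR] at c2
    nlinarith)
  have := (mem_zpowers_two h.jj).2 (inv (a * w) (mul_mem ha hw.2) (by
    calc _ = a * (w * a) * w := by group
      _ = a * a * (w * w) := by rw [mem_Cx.1 hw.1]; group
      _ = 1 := by rw [sq a ha ha', sq w hw.2 fun k => hw' (zpowers_le.2 aj k), h.jj]))
  exact hw' (by simpa using mul_mem (inv_mem (mem_zpowers a)) (zpowers_le.2 aj this))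

theorem exists_five : ∃ u : B, u ^ 5 = 1 ∧ u ≠ 1 := by
  haveI : Fact (Nat.Prime 5) := ⟨by norm_num⟩
  have := h.finB
  obtain ⟨u, hu⟩ := exists_prime_orderOf_dvd_card' (G := B) 5 (by rw [h.cardB]; decide)
  exact ⟨u, hu ▸ pow_orderOf_eq_one u, fun e => by simp [e] at hu⟩

theorem card_mod' {M : Subgroup B} (hM : M.Normal) (hR : M ≤ g.ker) (hj : j ∈ M) :
    Nat.card M = 2 ∨ g.ker ≤ M := by
  have := h.finB
  obtain ⟨u, u5, u1⟩ := h.exists_five
  refine h.card_mod u5 hM hR ?_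
  rw [le_antisymm (card_le_two (K := M ⊓ Cx u) (z := j) fun y hy =>
    h.fpf u5 u1 (hR hy.1) (Or.inl (mem_Cx'.1 (Cx_comm.1 hy.2))))
    (two_le_card ⟨hj, mem_Cx.2 (h.jc u).symm⟩ h.j1)]

theorem K_eq {y : B} (hy : y ∈ (DD Q z).map f) : y = 1 := by
  have := h.finB
  by_contra k
  have hj := h.j_mem h.nK hy (h.K_le hy) k
  rcases h.card_mod' h.nK h.K_le hj with k | k
  swap
  · exact h.noA5 (map_top_of_surjective g h.gs) (inf_le_right.trans k)
  obtain ⟨u, u5, u1⟩ := h.exists_five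
  obtain ⟨a, ha, ha'⟩ := exists_notMem (K := (DD Q z).map f) (H := g.ker) (by
    rw [k, h.cardR]; decide)
  have jK : ∀ {y}, y = 1 ∨ y = j → y ∈ (DD Q z).map f := by
    rintro _ (rfl | rfl)
    exacts [one_mem _, hj]
  have fp : ∀ y ∈ g.ker, u * y * u⁻¹ * y⁻¹ ∈ (DD Q z).map f → y ∈ (DD Q z).map f :=
    fun y hy e => jK (h.fpf u5 u1 hy ((two_cases k.le hj h.j1 e).imp mul_inv_eq_one.1
      mul_inv_eq_iff_eq_mul.1))
  have hb := (inferInstance : g.ker.Normal).conj_mem a ha u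
  obtain ⟨c, hc, e⟩ := h.four' h.twoR ha hb (jK (h.sqR a ha)) (jK (h.sqR _ hb)) (jK (by
    rcases h.cmtR a ha _ hb with e | e <;> rw [e] <;> simp [mul_assoc]))
  have cK : f c ∈ (DD Q z).map f := e.elim (mem_map_of_mem f) fun e => fp _ (by
    rcases hc with e | e | e <;> rw [e]
    exacts [hb, ha, mul_mem hb ha]) (by simpa [mul_assoc] using inv_mem (h.ng_cenK e u))
  rcases hc with e | e | e <;> rw [e] at cK
  · exact ha' (by simpa [mul_assoc] using h.nK.conj_mem' _ cK u)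
  · exact ha' cK
  · exact ha' (fp a ha (by
      simpa [mul_assoc] using mul_mem cK (inv_mem (jK (h.sqR a ha)))))

theorem faith {k : G} (e : ∀ q ∈ Q, k * q * k⁻¹ * q⁻¹ ∈ zpowers z) : k ∈ Q := h.fQ.1 (h.K_eq (mem_map_of_mem f (h.mem_D.2 e)))

theorem inv_j {i : G} (e : f i = j) {q : G} (hq : q ∈ Q) : i * q * i⁻¹ * q ∈ zpowers z := by
  obtain ⟨u, u5, u1⟩ := h.exists_five
  refine ((h.five u5 u1 (t := i) (h.Q_le (h.fQ.1 (by rw [map_mul, e, h.jj])))
    (by rw [e, h.jc u]; simp)).resolve_left fun k => h.j1 ?_) q hq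
  exact e ▸ h.K_eq (mem_map_of_mem f k)

/-- every four-group contains `j` -/
theorem four {s t : B} (ss : s * s = 1) (tt : t * t = 1) (st : s * t = t * s) :
    s = 1 ∨ t = 1 ∨ s = t ∨ s = j ∨ t = j ∨ s * t = j := by
  have := h.finB
  have h2 : IsPGroup 2 (zpowers s ⊔ zpowers t : Subgroup B) := isPGroup_iff_mem.2 fun x hx => by
    obtain ⟨a, ha, b, hb, rfl⟩ := (mem_sup_of_comm fun a ha b hb => by
      rcases (mem_zpowers_two ss).1 ha with rfl | rfl <;>
        rcases (mem_zpowers_two tt).1 hb with rfl | rfl <;> simp [st]).1 hx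
    refine ⟨1, ?_⟩
    rcases (mem_zpowers_two ss).1 ha with rfl | rfl <;>
      rcases (mem_zpowers_two tt).1 hb with rfl | rfl <;> simp [sq, ss, tt]
    rw [mul_assoc, ← mul_assoc b, ← st, mul_assoc, tt, mul_one, ss]
  obtain ⟨k, hk, e⟩ := h.four' h2 (mem_sup_left (mem_zpowers s)) (mem_sup_right (mem_zpowers t))
    (ss ▸ one_mem _) (tt ▸ one_mem _) (by rw [st]; simp)
  obtain ⟨i, hi⟩ := h.fs j
  have : f k = 1 ∨ f k = j := e.imp (fun e => h.K_eq (mem_map_of_mem f e)) fun e => by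
    have := h.K_eq (mem_map_of_mem f (h.ng_ng e fun q => h.inv_j hi))
    rwa [map_mul, hi, ← h.jj, mul_left_inj] at this
  rcases hk with e | e | e <;> rw [e] at this
  · tauto
  · tauto
  · rcases this with e | e
    · rw [← tt, mul_right_inj] at e; tauto
    · rw [← st] at e; tauto

theorem two (K : Subgroup G) : K.index ≠ 2 := fun e => by
  have := h.finB
  have hn := normal_of_index_eq_two e
  have h1 : f.ker ≤ K := fun q hq => by
    have := zcube h.z3 (h.toEQ.cube (h.fk ▸ hq))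
    rw [← pow_mul] at this
    exact mem_of_coprime_pow (by norm_num : Nat.Coprime 2 (3 * 3)) (sq_mem_of_index_two e q)
      (this ▸ one_mem _)
  rw [← index_map_eq _ h.fs h1] at e
  generalize K.map f = M at e
  have hn := normal_of_index_eq_two e
  have hj : j ∈ M := by
    obtain ⟨a, ha, ha'⟩ := exists_notMem (K := zpowers j) (H := g.ker)
      (by rw [card_zpowers_two h.jj h.j1, h.cardR]; decide)
    have := mt (h.cenR a ha).1 (mt (mem_zpowers_two h.jj).2 ha')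
    push Not at this
    obtain ⟨w, hw, hw'⟩ := this
    have e1 : j = w * a * (w⁻¹ * a⁻¹) := by
      rw [(h.cmtR w hw a ha).resolve_left hw']; group
    simp only [e1, mul_mem_iff_of_index_two e, inv_mem_iff]
  rcases h.card_mod' (M := M ⊓ g.ker) inferInstance inf_le_right ⟨hj, h.jR⟩ with k | k
  · have h2 := card_eq_relIndex M g.ker
    have h3 := relIndex_le_index M g.ker
    rw [k, h.cardR] at h2
    omega
  · rw [← index_map_eq _ h.gs (k.trans inf_le_left)] at e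
    rcases (normal_of_index_eq_two e).eq_bot_or_eq_top with k | k <;> rw [k] at e
    · rw [index_bot, a5_card] at e; omega
    · simp at e

theorem core {P : Subgroup G} (hP : P.Normal) (h3 : IsPGroup 3 P) : P ≤ Q := by
  have := h.finB
  haveI : Fact (Nat.Prime 3) := ⟨by norm_num⟩
  have h1 : P.map f ≤ g.ker := by
    rw [← Subgroup.map_eq_bot_iff]
    refine (((hP.map f h.fs).map g h.gs).eq_bot_or_eq_top).resolve_right fun e => ?_
    obtain ⟨n, hn⟩ := IsPGroup.iff_card.1 ((h3.map f).map g)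
    rw [e, card_top, a5_card] at hn
    exact absurd (Nat.prime_two.dvd_of_dvd_pow (hn ▸ (by decide : 2 ∣ 60))) (by decide)
  rw [← h.fk, ← Subgroup.map_eq_bot_iff, ← le_bot_iff,
    ← (IsPGroup.disjoint_of_ne 3 2 (by decide) _ _ (h3.map f) h.twoR).eq_bot]
  exact le_inf le_rfl h1

end CH

end CfsgLib.Rec3B
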