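import Cfsg.Agent.Lib.Rec3B.CoA1
import Cfsg.Agent.Lib.Rec3B.G1

/-! Involutions of `2^{1+4} . A₅` (plans/REC3B.md, COA2). -/

set_option autoImplicit false
set_option maxRecDepth 100000
set_option maxHeartbeats 400000
set_option Elab.async false
set_option linter.unusedSectionVars false

namespace CfsgLib.Rec3B

open Subgroup Cfsg CfsgLib.Tech CfsgLib.PComp CfsgLib.W2 CfsgLib.Rec3 W4
open CfsgLib.U43 (SL)
open CfsgLib.Sect Es

variable {G : Type*} [Group G] [Finite G]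
variable {B : Type*} [Group B] {Q : Subgroup G} {z : G} {f : G →* B} {j : B} {g : B →* alternatingGroup (Fin 5)}

theorem a5_real (c : alternatingGroup (Fin 5)) (h : c ^ 3 = 1) : ∃ a, a * c * a⁻¹ = c⁻¹ := by
  obtain ⟨a, ha, e⟩ := (by decide +kernel : ∀ c : Equiv.Perm (Fin 5), c * c * c = 1 →
    ∃ a : Equiv.Perm (Fin 5), Equiv.Perm.sign a = 1 ∧ c * a * c = a) c.1 (by
      have := congrArg Subtype.val h
      simpa [pow_three'] using this)
  refine ⟨⟨a, Equiv.Perm.mem_alternatingGroup.2 ha⟩, Subtype.ext ?_⟩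
  change a * c.1 * a⁻¹ = c.1⁻¹
  rw [mul_inv_eq_iff_eq_mul, eq_inv_mul_iff_mul_eq, ← mul_assoc, e]

namespace CH

variable (h : CH Q z f j g) {r y : B}
include h

theorem cent16 (hr : r ∈ g.ker) (r1 : r ≠ 1) (rj : r ≠ j) : Nat.card (Cx r ⊓ g.ker : Subgroup B) = 16 := by
  have := h.finB
  have c1 : (Cx r).relIndex g.ker ≤ 2 := relIndex_le_two fun x hx w hw k1 k2 => mem_Cx.2 (by
    have e1 := (h.cmtR x hx r hr).resolve_left (mt mem_Cx.2 k1)
    have e2 := (h.cmtR w hw r hr).resolve_left (mt mem_Cx.2 k2)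
    calc _ = x⁻¹ * (j * (r * x)) * (x⁻¹ * w) := by rw [mul_assoc, e2]; group
      _ = _ := by rw [← e1]; group)
  have c2 := two_le_relIndex (K := Cx r) (H := g.ker) fun e =>
    ((h.cenR r hr).1 fun w hw => mem_Cx.1 (e hw)).elim r1 rj
  have c3 := card_eq_relIndex (Cx r) g.ker
  rw [h.cardR, le_antisymm c1 c2] at c3
  omega

theorem exists_invol : ∃ r ∈ g.ker, r * r = 1 ∧ r ≠ 1 ∧ r ≠ j := by
  have := h.finB
  by_contra! hn
  have inv : ∀ y ∈ g.ker, y * y = 1 → y ∈ zpowers j := fun y hy e =>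
    (mem_zpowers_two h.jj).2 (or_iff_not_imp_left.2 (hn y hy e))
  have sq : ∀ y ∈ g.ker, y ∉ zpowers j → y * y = j := fun y hy k => (h.sqR y hy).resolve_left fun e => k (inv y hy e)
  obtain ⟨a, ha, ha'⟩ := exists_notMem (K := zpowers j) (H := g.ker)
    (by rw [card_zpowers_two h.jj h.j1, h.cardR]; decide)
  have aj : j ∈ zpowers a := sq a ha ha' ▸ mul_mem (mem_zpowers a) (mem_zpowers a)
  have c3 : Nat.card (zpowers a) ≤ 4 := by
    rw [Nat.card_zpowers]
    exact orderOf_le_of_pow_eq_one (by norm_num) (by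
      rw [show 4 = 2 + 2 from rfl, pow_add, pow_two, sq a ha ha', h.jj])
  obtain ⟨w, hw, hw'⟩ := exists_notMem (K := zpowers a) (H := Cx a ⊓ g.ker) (by
    rw [h.cent16 ha (fun e => ha' (e ▸ one_mem _)) fun e => ha' (e ▸ mem_zpowers _)]
    omega)
  have := inv (a * w) (mul_mem ha hw.2) (by
    calc _ = a * (w * a) * w := by group
      _ = a * a * (w * w) := by rw [mem_Cx.1 hw.1]; group
      _ = 1 := by rw [sq a ha ha', sq w hw.2 fun k => hw' (zpowers_le.2 aj k), h.jj])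
  exact hw' (by simpa using mul_mem (inv_mem (mem_zpowers a)) (zpowers_le.2 aj this))

section
variable (hr : r ∈ g.ker) (rr : r * r = 1) (r1 : r ≠ 1) (rj : r ≠ j)
include hr rr r1 rj

theorem conj_cases (b : B) (e : b * r * b⁻¹ ∈ Cx r) : b * r * b⁻¹ = r ∨ b * r * b⁻¹ * r = j := by
  rcases h.four (s := b * r * b⁻¹) (by rw [conj_mul, rr]; simp) rr (mem_Cx.1 e) with e | e | e | e | e | e
  · exact absurd (by simpa using e) r1
  · exact absurd e r1
  · exact .inl e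
  · refine absurd ?_ rj
    rw [mul_inv_eq_iff_eq_mul, ← h.jc, mul_right_inj] at e
    exact e
  · exact absurd e rj
  · exact .inr e

theorem cent192 : Nat.card (Cx r) = 192 := by
  have := h.finB
  have c := card_mul_index (Cx r)
  rw [h.cardB] at c
  have d5 : 5 ∣ (Cx r).index := by
    haveI : Fact (Nat.Prime 5) := ⟨by norm_num⟩
    refine ((Nat.Prime.dvd_mul (by norm_num)).1 (show 5 ∣ Nat.card (Cx r) * (Cx r).index by rw [c]; norm_num)).resolve_left fun e => ?_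
    obtain ⟨u, hu⟩ := exists_prime_orderOf_dvd_card' 5 e
    refine (h.fpf (u := u) (by rw [← hu, ← Subgroup.coe_pow, pow_orderOf_eq_one, coe_one]) (fun e => ?_) hr
      (.inl (mem_Cx'.1 u.2))).elim r1 rj
    rw [(Subtype.ext e : u = 1), orderOf_one] at hu
    omega
  have d2 : 2 ∣ (Cx r).index := by
    by_contra hn
    obtain ⟨T, hT⟩ := exists_isSylowIn 2 (Cx r)
    have := (hT.trans le_top (by rwa [relIndex_top_right])).le_of_le_normalizer h.twoR le_top
      (by rw [normalizer_eq_top])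
    exact ((h.cenR r hr).1 fun w hw => mem_Cx.1 (hT.le (this hw))).elim r1 rj
  have l := index_le ⊤ (Cx r) (fun b => b * r * b⁻¹) ({r, j * r} ∪ ((g.ker : Set B) \ (Cx r ⊓ g.ker : Subgroup B)))
    (fun b _ => by
      by_cases e : b * r * b⁻¹ ∈ Cx r
      · rcases h.conj_cases hr rr r1 rj b e with e | e
        · exact .inl (.inl e)
        · exact .inl (.inr (by rw [← e, mul_assoc, rr, mul_one]; rfl))
      · exact .inr ⟨Normal.conj_mem inferInstance r hr b, fun k => e k.1⟩)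
    fun a _ b _ e => mem_Cx'.2 (by
      calc _ = a⁻¹ * (b * r * b⁻¹) * a := by group
        _ = _ := by rw [← show a * r * a⁻¹ = b * r * b⁻¹ from e]; group)
  have l2 : ((g.ker : Set B) \ (Cx r ⊓ g.ker : Subgroup B)).ncard = 16 := by
    rw [Set.ncard_diff (fun _ e => e.2), ← Nat.card_coe_set_eq, ← Nat.card_coe_set_eq]
    exact congrArg₂ (· - ·) h.cardR (h.cent16 hr r1 rj)
  have l3 := (Set.ncard_union_le {r, j * r} ((g.ker : Set B) \ (Cx r ⊓ g.ker : Subgroup B)))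
  have l4 : ({r, j * r} : Set B).ncard ≤ 2 := (Set.ncard_insert_le _ _).trans (by simp)
  rw [relIndex_top_right, Nat.card_coe_set_eq] at l
  have : (Cx r).index = 10 := by
    have := index_ne_zero_of_finite (H := Cx r)
    omega
  rw [this] at c
  omega

theorem exists_xw : ∃ x ω : B, x ^ 3 = 1 ∧ x ≠ 1 ∧ x * r = r * x ∧ x * ω = ω * x ∧ ω * ω = 1 ∧
    ω * r * ω⁻¹ = r * j := by
  have := h.finB
  obtain ⟨⟨x, xr⟩, hx⟩ := exists_prime_orderOf_dvd_card' (G := Cx r) 3 (by rw [h.cent192 hr rr r1 rj]; norm_num)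
  rw [← Subgroup.orderOf_coe] at hx
  have x3 : x ^ 3 = 1 := by rw [← hx]; exact pow_orderOf_eq_one x
  have h1 := Transfer.card_modEq_card_inf_centralizer (q := 3) (Q := g.ker) (g := x)
    (by rw [normalizer_eq_top]; trivial) ⟨1, x3⟩
  have h2 := Transfer.card_modEq_card_inf_centralizer (q := 3) (Q := Cx r ⊓ g.ker) (g := x)
    (mem_normalizer_of_forall fun y hy =>
      ⟨(Cx r).mul_mem ((Cx r).mul_mem xr hy.1) ((Cx r).inv_mem xr), Normal.conj_mem inferInstance y hy.2 x⟩) ⟨1, x3⟩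
  obtain ⟨y, hy, hn⟩ : ∃ y ∈ g.ker ⊓ Cx x, y ∉ Cx r := by
    by_contra! hn
    rw [inf_assoc, inf_eq_right (b := g.ker ⊓ Cx x).2 hn, h.cent16 hr r1 rj] at h2
    exact absurd (h.cardR ▸ h1.trans h2.symm) (by decide)
  have e := (h.cmtR y hy.1 r hr).resolve_left (mt mem_Cx.2 hn)
  have x1 : x ≠ 1 := fun e => by simp [e] at hx
  rcases h.sqR y hy.1 with k | k
  · exact ⟨x, y, x3, x1, mem_Cx.1 xr, (mem_Cx.1 hy.2).symm, k, by rw [e, h.jc]; group⟩
  · refine ⟨x, r * y, x3, x1, mem_Cx.1 xr, (mem_Cx.1 (mul_mem (Cx_comm.1 xr) hy.2)).symm, ?_, ?_⟩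
    · calc _ = r * (y * r) * y := by group
        _ = r * j * r * (y * y) := by rw [e]; group
        _ = 1 := by rw [k, h.jc r, mul_assoc j, rr, mul_one, h.jj]
    · calc _ = r * (y * r) * y⁻¹ * r⁻¹ := by group
        _ = r * j * r * r⁻¹ := by rw [e]; group
        _ = _ := by group

end

theorem real3 {x : B} (x3 : x ^ 3 = 1) (x1 : x ≠ 1) : ∃ b, b * x * b⁻¹ = x⁻¹ := by
  have := h.finB
  have ox : orderOf x = 3 := orderOf_eq_prime x3 x1
  obtain ⟨a, ha⟩ := a5_real (g x) (by rw [← map_pow, x3, map_one])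
  obtain ⟨b, rfl⟩ := h.gs a
  have hS : IsSylowIn 3 (zpowers x) ((zpowers (g x)).comap g) := by
    refine IsSylowIn.of_le (H := ⊤) ⟨le_top, isPGroup_zpowers_of_pow (k := 1) x3, fun e => ?_⟩
      (zpowers_le.2 (mem_zpowers _)) le_top
    have c := card_mul_index (zpowers x)
    rw [Nat.card_zpowers, ox, h.cardB] at c
    rw [relIndex_top_right] at e
    omega
  obtain ⟨n, hn, e⟩ := hS.frattini (g := b) (mem_normalizer_of_forall fun y hy => by
    rw [mem_comap, map_mul, map_mul, map_inv]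
    exact conj_mem_of_mem_normalizer (mem_normalizer_iff_cj.2 (by rw [cj_zpowers, ha, zpowers_inv])) hy)
  refine ⟨_, (conj_of_norm_three ox e).resolve_left fun k => x1 ?_⟩
  have k1 : g n * (g x)⁻¹ * (g n)⁻¹ = g x := by
    rw [← ha]
    simpa [mul_assoc] using congrArg g k
  rw [comm_of_mem_zpowers (mem_comap.1 hn) (inv_mem (mem_zpowers _)), mul_inv_cancel_right, inv_eq_iff_mul_eq_one] at k1
  have k2 : x ∈ g.ker := mem_of_coprime_pow (by norm_num : Nat.Coprime 2 3) (by rw [MonoidHom.mem_ker, pow_two, map_mul, k1])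
    (x3 ▸ one_mem _)
  have := orderOf_dvd_natCard _ k2
  rw [ox, h.cardR] at this
  omega

theorem pow243 {q : G} (hq : q ∈ Q) : q ^ 243 = 1 := orderOf_dvd_iff_pow_eq_one.1 (h.card ▸ orderOf_dvd_natCard Q hq)

theorem lift_cent {t k : G} (tt : t * t = 1) (e : f k * f t = f t * f k) : ∃ k' ∈ Cx t, f k' = f k := by
  have hq : k * t * k⁻¹ * t⁻¹ ∈ Q := h.fQ.1 (by simp only [map_mul, map_inv, e]; group)
  obtain ⟨q, eq⟩ : ∃ q, k * t * k⁻¹ * t⁻¹ = q := ⟨_, rfl⟩
  rw [eq] at hq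
  have e1 : k * t * k⁻¹ = q * t := by rw [← eq]; group
  have e2 : t * q⁻¹ * t⁻¹ = q := by
    have : q * t * (q * t) = 1 := by rw [← e1, conj_mul, tt]; simp
    calc _ = (t * t) * (q * t * (q * t))⁻¹ * q := by group
      _ = _ := by rw [this, tt]; group
  refine ⟨(q ^ 122)⁻¹ * k, mem_Cx'.2 ?_, by rw [map_mul, h.fQ.2 (inv_mem (pow_mem hq _)), one_mul]⟩
  calc _ = (q ^ 122)⁻¹ * (k * t * k⁻¹) * (q ^ 122 * (q ^ 243)⁻¹) := by rw [h.pow243 hq]; group
    _ = (q ^ 121)⁻¹ * (t * q⁻¹ * t⁻¹) ^ 121 * t := by rw [e1, conj_pow]; group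
    _ = _ := by rw [e2]; group

end CH

theorem CH.exists_CA (h : CH Q z f j g) : ∃ i r ω x, CA Q z i r ω x := by
  obtain ⟨r₀, hr, rr, r1, rj⟩ := h.exists_invol
  obtain ⟨x₀, ω₀, x3, x1, xr, xω, ωω, ωr⟩ := h.exists_xw hr rr r1 rj
  obtain ⟨i, fi, ii⟩ : ∃ i, f i = j ∧ i * i = 1 := by
    obtain ⟨k, rfl⟩ := h.fs j
    refine ⟨k ^ 243, ?_, by rw [← (Commute.refl k).mul_pow, h.pow243 (h.fQ.1 (by rw [map_mul, h.jj]))]⟩
    rw [map_pow, show 243 = 2 * 121 + 1 from rfl, pow_succ, pow_mul, pow_two, h.jj, one_pow, one_mul]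
  have sur : ∀ b, ∃ k ∈ Cx i, f k = b := fun b => by
    obtain ⟨k, rfl⟩ := h.fs b
    exact h.lift_cent ii (by rw [fi, h.jc])
  have ker : ∀ k ∈ Cx i, f k = 1 → k ∈ zpowers z := fun k hk e => by
    have := h.inv_j fi (h.fQ.1 e)
    rw [← mem_Cx.1 hk, mul_inv_cancel_right, ← pow_two] at this
    exact mem_of_coprime_pow (by norm_num : Nat.Coprime 2 3) this (h.toEQ.cube (h.fQ.1 e))
  have lift : ∀ b, b * b = 1 → ∃ k ∈ Cx i, f k = b ∧ k * k = 1 := fun b bb => by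
    obtain ⟨k, hk, rfl⟩ := sur b
    exact ⟨k ^ 3, pow_mem hk 3, by rw [map_pow, pow_three', bb, one_mul], by
      rw [← (Commute.refl k).mul_pow, zcube h.z3 (ker _ (mul_mem hk hk) (by rw [map_mul, bb]))]⟩
  have uq : ∀ a ∈ Cx i, ∀ b ∈ Cx i, a * a = 1 → b * b = 1 → f a = f b → a = b := fun a ha b hb aa bb e => by
    have m := ker _ (mul_mem ha (inv_mem hb)) (by rw [map_mul, map_inv, e, mul_inv_cancel])
    refine mul_inv_eq_one.1 (eq_one (zcube h.z3 m) ?_)
    calc _ = a * b⁻¹ * (b * (a * b⁻¹) * b⁻¹) * (b * b) := by rw [h.zj m, bb, mul_one]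
      _ = 1 := by rw [← aa]; group
  obtain ⟨r, ri, rfl, rr'⟩ := lift r₀ rr
  obtain ⟨ω, ωi, rfl, ωω'⟩ := lift ω₀ ωω
  obtain ⟨x, xi, rfl⟩ := sur x₀
  have cj : ∀ a ∈ Cx i, ∀ b ∈ Cx i, b * b = 1 → f a * f b = f b * f a → a * b = b * a := fun a ha b hb bb e =>
    mul_inv_eq_iff_eq_mul.1 (uq _ (mul_mem (mul_mem ha hb) (inv_mem ha)) b hb (by rw [conj_mul, bb]; simp) bb
      (by simp [e]))
  have rN : r ∈ normalizer (Q : Set G) := by have := h.nQ; rw [normalizer_eq_top]; trivial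
  have c27 : Nat.card (Q ⊓ Cx r : Subgroup G) = 27 := by
    refine ((or_assoc.2 (h.toEQ.cards rN (h.zz r) (by rw [rr']; exact one_mem _))).resolve_left fun e => ?_).1
    rcases h.scal e with e | e
    · exact r1 (h.K_eq (mem_map_of_mem f e))
    · have := h.K_eq (mem_map_of_mem f (h.ng_ng e fun q => h.inv_j fi))
      rw [map_mul, fi, mul_eq_one_iff_eq_inv, inv_eq_of_mul_eq_one_right h.jj] at this
      exact rj this
  refine ⟨i, r, ω, x, h.toEQ, h.zc', h.nQ, fun P => h.core, h.cardH, fun k => h.faith, ii, fun q => h.inv_j fi, rr', ωω',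
    mem_Cx.1 ri, uq _ (mul_mem (mul_mem ωi ri) (inv_mem ωi)) _ (mul_mem ri (mem_Cx.2 rfl)) (by rw [conj_mul, rr']; simp)
      (by rw [mul_assoc, ← mul_assoc i, ← mem_Cx.1 ri, mul_assoc, ii, mul_one, rr']) (by simpa [fi] using ωr), ?_,
    fun e => x1 (h.fQ.2 e), cj x xi r ri rr' xr, cj x xi ω ωi ωω' xω, c27, ?_, fun k => ?_, h.two⟩
  · obtain ⟨b, hb⟩ := h.real3 x3 x1
    obtain ⟨y, yi, rfl⟩ := sur b
    have m := ker _ (mul_mem (mul_mem (mul_mem yi xi) (inv_mem yi)) xi) (by simp [hb])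
    have m3 := ker _ (pow_mem xi 3) (by rw [map_pow, x3])
    refine eq_one (zcube h.z3 m3) ?_
    have c : Commute (y * x * y⁻¹ * x) x⁻¹ := ((zc m (h.zz x⁻¹)).symm)
    have := c.mul_pow 3
    rw [mul_inv_cancel_right, conj_pow, h.zj m3, zcube h.z3 m, one_mul, inv_pow] at this
    nth_rewrite 1 [this]
    exact inv_mul_cancel _
  · rw [← card_ker_map f, h.fk, c27, show (Cx r).map f = Cx (f r) from le_antisymm ?_ fun b hb => ?_,
      h.cent192 hr rr r1 rj]
    · rintro _ ⟨k, hk, rfl⟩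
      exact mem_Cx.2 (by rw [← map_mul, mem_Cx.1 hk, map_mul])
    · obtain ⟨k, rfl⟩ := h.fs b
      exact h.lift_cent rr' (mem_Cx.1 hb)
  · simp only [← h.fQ, map_mul, map_inv, map_pow, fi]
    by_cases e : f k * f r * (f k)⁻¹ ∈ Cx (f r)
    · exact (h.conj_cases hr rr r1 rj _ e).imp (fun e => by rw [e, rr]) fun e => .inl (by rw [e, h.jj])
    · have e1 := (h.cmtR _ (Normal.conj_mem inferInstance _ hr (f k)) _ hr).resolve_left (mt mem_Cx.2 e)
      have e2 : f k * f r * (f k)⁻¹ * (f k * f r * (f k)⁻¹) = 1 := by rw [conj_mul, rr]; simp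
      refine .inr (.inr ?_)
      generalize f k * f r * (f k)⁻¹ = s at e1 e2
      calc _ = s * f r * (s * f r) * j := by rw [pow_two]
        _ = j * (f r * (s * s) * f r) * j := by nth_rewrite 1 [e1]; group
        _ = 1 := by rw [e2, mul_one, rr, mul_one, h.jj]

end CfsgLib.Rec3B
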