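import Cfsg.Agent.Lib.Rec3B.GL

/-! From `3^{1+4} . 2^{1+4} . A₅` to the local data (plans/REC3B.md, COB). -/

set_option autoImplicit false
set_option maxRecDepth 100000
set_option maxHeartbeats 400000

namespace CfsgLib.Rec3B

open Subgroup Cfsg CfsgLib.Tech CfsgLib.PComp CfsgLib.W2 CfsgLib.Rec3 W4
open CfsgLib.U43 (SL)

variable {G : Type*} [Group G] [Finite G]

namespace CA

section

variable {Q : Subgroup G} {z i r ω x : G} (h : CA Q z i r ω x)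
include h

omit [Finite G] in
theorem nN (g : G) : g ∈ normalizer (Q : Set G) := haveI := h.nrm; le_normalizer_of_normal (mem_top g)

omit [Finite G] in
theorem cz (g : G) : g ∈ Cx z := mem_Cx.2 (h.zc' g)

omit [Finite G] in
theorem cj_z (g : G) {y : G} (hy : y ∈ zpowers z) : g * y * g⁻¹ = y := by
  obtain ⟨n, rfl⟩ := mem_zpowers_iff.1 hy
  rw [← conj_zpow, mem_Cx'.1 (h.cz g)]

theorem mem_neg {t q : G} (tt : t * t = 1) : q ∈ neg Q z t ↔ q ∈ Q ∧ t * q * t⁻¹ * q ∈ zpowers z :=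
  h.toEQ.mem_neg (h.nN t) (h.cz t) (tt ▸ one_mem _)

theorem neg_conj {t q : G} (tt : t * t = 1) (g : G) (hq : q ∈ neg Q z t) : g * q * g⁻¹ ∈ neg Q z (g * t * g⁻¹) := by
  obtain ⟨h1, h2⟩ := (h.mem_neg tt).1 hq
  refine subset_closure ⟨h.nrm.conj_mem _ h1 g, ?_⟩
  rw [← h.cj_z g h2] at h2
  convert h2 using 1
  group

theorem cube {q : G} (hq : q ∈ Q) : q ^ 3 = 1 :=
  h.toEQ.exp (h.nN i) (h.cz i) (h.ii ▸ one_mem _)
    (le_antisymm (fun _ k => ((h.mem_neg h.ii).1 k).1) fun y k => (h.mem_neg h.ii).2 ⟨k, h.inv y k⟩) hq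

omit [Finite G] in
theorem ss : r * i * (r * i) = 1 := by
  rw [← h.ωr]
  calc _ = ω * (r * r) * ω⁻¹ := by group
    _ = 1 := by rw [h.rr]; group

theorem neg_s {p : G} : p ∈ neg Q z (r * i) ↔ p ∈ Q ⊓ Cx r := by
  rw [h.mem_neg h.ss]
  refine ⟨fun ⟨h1, h2⟩ => ⟨h1, h.toEQ.fix_mod (h.nN r) (h.cz r) (h.rr ▸ one_mem _) h1 ?_⟩, fun ⟨h1, h2⟩ => ⟨h1, ?_⟩⟩
  · have k := h.inv p h1
    rw [← h.cj_z r k] at k
    have k2 := mul_mem (inv_mem h2) k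
    rw [← h.cj_z p k2] at k2
    convert k2 using 1
    group
  · have k := h.inv p h1
    rw [← h.cj_z r k] at k
    convert k using 1
    calc _ = r * i * p * i⁻¹ * (r⁻¹ * (p * r)) * r⁻¹ := by group
      _ = r * i * p * i⁻¹ * (r⁻¹ * (r * p) * r⁻¹ * r) * r⁻¹ := by rw [mem_Cx.1 h2]; group
      _ = _ := by group

theorem card_neg : Nat.card (neg Q z r) = 27 := by
  rcases h.toEQ.cards (h.nN r) (h.cz r) (h.rr ▸ one_mem _) with e | e | e
  · have := h.cQr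
    rw [inf_eq_left.2 e, h.card] at this
    omega
  · have k := h.toEQ.inf_pn (h.nN r) (h.cz r) (h.rr ▸ one_mem _)
    have : Fact (Nat.Prime 3) := ⟨Nat.prime_three⟩
    have := h.cQr
    rw [e, inf_eq_left.2 inf_le_left] at k
    rw [k, Nat.card_zpowers, orderOf_eq_prime h.z3 h.z1] at this
    omega
  · exact e.2

theorem not_le : ¬ neg Q z r ≤ Cx x := fun e => h.xQ (h.faith x fun q hq => by
  obtain ⟨p, hp, n, hn, rfl⟩ := h.toEQ.split (h.nN r) (h.cz r) (h.rr ▸ one_mem _) hq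
  have k := h.neg_conj h.ss ω⁻¹ (h.neg_s.2 hp)
  rw [← h.ωr, show ω⁻¹ * (ω * r * ω⁻¹) * ω⁻¹⁻¹ = r by group] at k
  have k2 := (conj_mem_Cx (g := ω)).2 (e k)
  rw [show ω * (ω⁻¹ * p * ω⁻¹⁻¹) * ω⁻¹ = p by group, ← h.xω, mul_inv_cancel_right] at k2
  rw [mem_Cx'.1 (Cx_comm.1 (mul_mem k2 (e hn))), mul_inv_cancel]
  exact one_mem _)

theorem exists_rel : ∃ a ∈ Q, ∃ b ∈ Q, ∃ y, y * ω = ω * y ∧ Rel z a b (ω * a * ω⁻¹) (ω * b * ω⁻¹) y r (r * i) := by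
  have le : neg Q z r ≤ Q := fun _ k => ((h.mem_neg h.rr).1 k).1
  obtain ⟨a, b, e, ra, rb, ab, xa, xb⟩ := heis_basis (P := neg Q z r) (z := z) (t := r) (x := x) h.card_neg
    ((h.mem_neg h.rr).2 ⟨h.zQ, by rw [mem_Cx'.1 (h.cz r)]; exact mul_mem (mem_zpowers _) (mem_zpowers _)⟩) h.z1
    (fun p hp => h.cube (le hp)) (fun p _ => h.cz p) (fun q hq k => h.toEQ.cen_n (h.nN r) (h.cz r) (h.rr ▸ one_mem _) hq k)
    (fun p hp q hq => h.cmt p (le hp) q (le hq)) h.rr (h.cz r) (fun p hp => ((h.mem_neg h.rr).1 hp).2)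
    (mem_normalizer_fintype fun q hq => by
      have := h.neg_conj h.rr x hq
      rwa [h.xr, mul_inv_cancel_right] at this) (h.cz x) (mem_Cx.2 h.xr) h.x3 h.not_le
  have ha : a ∈ neg Q z r := e ▸ subset_closure (by simp)
  have hb : b ∈ neg Q z r := e ▸ subset_closure (by simp)
  have cj : ∀ {p}, p ∈ neg Q z r → ω * p * ω⁻¹ ∈ Q ⊓ Cx r := fun hp => h.neg_s.1 (h.ωr ▸ h.neg_conj h.rr ω hp)
  have pn := h.toEQ.comm_pn (h.nN r) (h.cz r) (h.rr ▸ one_mem _)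
  have ωi : ω⁻¹ = ω := inv_eq_of_mul_eq_one_right h.ωω
  have sp : ∀ {p}, p ∈ neg Q z r → Commute (r * i) p := fun {p} hp => by
    have := (conj_mem_Cx (g := ω)).2 (cj hp).2
    rw [h.ωr, show ω * (ω * p * ω⁻¹) * ω⁻¹ = ω * ω * p * (ω * ω)⁻¹ by group, h.ωω, one_mul, inv_one, mul_one] at this
    exact (mem_Cx.1 this).symm
  have key : ∀ y, y ^ 3 = 1 → y * r = r * y → y * ω = ω * y → y * a = a * y → y * b * y⁻¹ = b * a * z⁻¹ →
      Rel z a b (ω * a * ω⁻¹) (ω * b * ω⁻¹) y r (r * i) := fun y y3 yr yω ya yb => by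
    have c1 : Commute y ω := yω
    have c2 : Commute y r := yr
    have c3 : Commute y a := ya
    refine ⟨h.z1, h.z3, h.cube (le ha), h.cube (le hb), h.cube (cj ha).1, h.cube (cj hb).1, y3, h.rr, h.ss, h.zc' _,
      h.zc' _, h.zc' _, h.zc' _, h.zc' _, h.zc' _, h.zc' _, ab, ?_, (pn _ (cj ha) _ ha).symm, (pn _ (cj hb) _ ha).symm,
      (pn _ (cj ha) _ hb).symm, (pn _ (cj hb) _ hb).symm, ya, (c1.mul_right c3).mul_right c1.inv_right, yb, ?_, ra, rb,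
      (mem_Cx.1 (cj ha).2).symm, (mem_Cx.1 (cj hb).2).symm, yr.symm, sp ha, sp hb, ?_, ?_, ?_, ?_⟩
    · calc _ = ω * (a * b) * ω⁻¹ := by group
        _ = (ω * z * ω⁻¹) * (ω * b * ω⁻¹ * (ω * a * ω⁻¹)) := by rw [ab]; group
        _ = _ := by rw [mem_Cx'.1 (h.cz ω)]
    · calc _ = (y * ω) * b * (y * ω)⁻¹ := by group
        _ = ω * (y * b * y⁻¹) * ω⁻¹ := by rw [yω]; group
        _ = ω * b * ω⁻¹ * (ω * a * ω⁻¹) * (ω * z * ω⁻¹)⁻¹ := by rw [yb]; group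
        _ = _ := by rw [mem_Cx'.1 (h.cz ω)]
    · rw [← h.ωr]
      calc _ = ω * (r * a * r⁻¹) * ω⁻¹ := by group
        _ = _ := by rw [ra]; group
    · rw [← h.ωr]
      calc _ = ω * (r * b * r⁻¹) * ω⁻¹ := by group
        _ = _ := by rw [rb]; group
    · rw [← h.ωr]
      exact ((c1.mul_right c2).mul_right c1.inv_right).symm
    · exact (Commute.refl r).mul_right h.ri
  have c1 : Commute x ω := h.xω
  have c2 : Commute x r := h.xr
  have c3 : Commute x a := xa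
  rcases xb with xb | xb
  · exact ⟨a, le ha, b, le hb, x, h.xω, key x h.x3 h.xr h.xω xa xb⟩
  · exact ⟨a, le ha, b, le hb, x⁻¹, c1.inv_left, key x⁻¹ (by rw [inv_pow, h.x3, inv_one]) c2.inv_left c1.inv_left
      c3.inv_left (by rw [inv_inv, xb])⟩

theorem exists_phi : ∃ φ : W4 →* G, Function.Injective φ ∧ φ gz = z ∧ φ gr = r ∧ QQ.map φ = Q ∧
    φ gx * ω = ω * φ gx ∧ ω * φ ga * ω⁻¹ = φ gc := by
  obtain ⟨a, ha, b, hb, y, yω, rel⟩ := h.exists_rel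
  obtain ⟨φ, inj, ez, ea, eb, ec, ed, ex, er, -⟩ := rel.exists_phi
  refine ⟨φ, inj, ez, er, eq_of_le_of_card_ge (map_le_iff_le_comap.2 (le_of ?_)) ?_, by rw [ex, yω], by rw [ea, ec]⟩
  · simp only [List.forall_mem_cons, List.not_mem_nil, IsEmpty.forall_iff, implies_true, and_true, mem_comap, ea, eb,
      ec, ed]
    exact ⟨ha, hb, h.nrm.conj_mem _ ha ω, h.nrm.conj_mem _ hb ω⟩
  · rw [h.card, card_map_of_injective inj, W4.cards.2.2.1]

omit [Finite G] in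
/-- the inverting involution fixes no noncentral element -/
theorem not_fix {t c : G} (hc : c ∈ Q) (ht : t ∈ Cx c) (e : t * i ∈ Q) : c * c ∈ zpowers z := by
  have k1 := h.cmt _ e _ hc
  have k2 := h.inv c hc
  rw [← h.cj_z t k2] at k2
  have k3 := mul_mem (inv_mem k1) k2
  convert k3 using 1
  calc _ = c * (t * c * t⁻¹) := by rw [mem_Cx'.1 ht]
    _ = _ := by group

end

end CA

omit [Finite G] in
theorem conj_mem_Cx_of_norm {z g k : G} (hg : g ∈ normalizer (zpowers z : Set G)) (hk : k ∈ Cx z) :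
    g * k * g⁻¹ ∈ Cx z := by
  obtain ⟨n, e⟩ := mem_zpowers_iff.1 ((mem_normalizer_iff.1 (inv_mem hg) _).1 (mem_zpowers z))
  have c : Commute k z := mem_Cx.1 hk
  have := (conj_mem_Cx (g := g)).2 (mem_Cx.2 (c.zpow_right n).eq)
  rwa [e, show g * (g⁻¹ * z * g⁻¹⁻¹) * g⁻¹ = z by group] at this

theorem CA.exists_GC {z : G} {Q : Subgroup (Cx z)} {i r ω x : Cx z} (h : CA Q ⟨z, mem_Cx.2 rfl⟩ i r ω x)
    (nw : ∀ P, IsSylowIn 3 P (Cx z) → ∃ g, g * z * g⁻¹ ∈ P ∧ g * z * g⁻¹ ∉ zpowers z) :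
    ∃ (φ : W4 →* G) (R : Subgroup G) (π π' : G → SL), GC φ R π π' ∧ φ gz = z ∧ Swap φ ω := by
  obtain ⟨ψ, inj, ez, er, eQ, xω, ac⟩ := h.exists_phi
  obtain ⟨φ, eφ⟩ : ∃ φ : W4 →* G, ∀ u, φ u = ψ u := ⟨(Cx z).subtype.comp ψ, fun _ => rfl⟩
  have inj' : Function.Injective φ := fun u v e => inj (Subtype.ext (by rw [← eφ, ← eφ, e]))
  have ez' : φ gz = z := by rw [eφ, ez]
  have mQ : ∀ g : Cx z, (g : G) ∈ QQ.map φ ↔ g ∈ Q := fun g => by
    rw [← eQ]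
    exact ⟨fun ⟨u, hu, e⟩ => ⟨u, hu, Subtype.ext (by rw [← eφ, e])⟩, fun ⟨u, hu, e⟩ => ⟨u, hu, by rw [eφ, e]⟩⟩
  have mz : ∀ g : Cx z, (g : G) ∈ zpowers z ↔ g ∈ zpowers (⟨z, mem_Cx.2 rfl⟩ : Cx z) := fun g =>
    ⟨fun ⟨n, e⟩ => ⟨n, Subtype.ext e⟩, fun ⟨n, e⟩ => ⟨n, congrArg Subtype.val e⟩⟩
  have le : ∀ K : Subgroup W4, K.map φ ≤ Cx z := fun K _ ⟨u, _, e⟩ => by rw [← e, eφ]; exact (ψ u).2
  have cS : Nat.card (SS.map φ) = 729 := by rw [card_map_of_injective inj', W4.cards.2.1]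
  have syl : IsSylowIn 3 (SS.map φ) (Cx z) := ⟨le _, IsPGroup.of_card (n := 6) cS, by
    have := ((SS.map φ).subgroupOf (Cx z)).card_mul_index
    rw [Nat.card_congr (subgroupOfEquivOfLe (le SS)).toEquiv, cS, h.cardH] at this
    unfold relIndex
    omega⟩
  have gl : GL0 φ := ⟨inj', by
    rw [ez']
    intro g hg
    refine mem_normalizer_fintype fun q hq => ?_
    refine (mQ ⟨_, conj_mem_Cx_of_norm hg (le _ hq)⟩).2 (h.core ((cj g (QQ.map φ)).subgroupOf _) ⟨fun p hp k => ?_⟩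
      ((isPGroup_cj g (syl.pgroup.to_le (map_mono les.2.1))).comap_subtype) (conj_mem_cj.2 hq))
    rw [mem_subgroupOf, mem_cj] at hp ⊢
    have := (mQ _).2 (h.nrm.conj_mem ⟨_, le _ hp⟩ ((mQ _).1 hp) ⟨_, conj_mem_Cx_of_norm (inv_mem hg) k.2⟩)
    convert this using 1
    simp only [coe_mul, coe_inv]
    group, by rw [ez']; exact syl⟩
  obtain ⟨R, π, π', gc1⟩ := gl.exists_GC1 (by
    rw [ez']
    intro g hg k
    exact (mQ ⟨g, hg⟩).2 (h.faith _ fun q hq => (mz _).1 (k q ((mQ q).2 hq)))) (by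
    rw [← h.cr, ez', eφ, er, ← card_map_of_injective (Cx z).subtype_injective]
    congr 2
    exact le_antisymm (fun g hg => ⟨⟨g, hg.1⟩, mem_Cx.2 (Subtype.ext (mem_Cx.1 hg.2)), rfl⟩)
      fun _ ⟨g, hg, e⟩ => e ▸ ⟨g.2, mem_Cx.2 (congrArg Subtype.val (mem_Cx.1 hg))⟩) (by
    rw [ez', eφ, eφ, er]
    intro g hg
    have hc : ψ gc ∈ Q := eQ ▸ mem_map_of_mem ψ (by decide +kernel)
    have c1 : (⟨g, hg.1⟩ : Cx z) ∈ Cx (ψ gc) := mem_Cx.2 (Subtype.ext (mem_Cx.1 hg.2))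
    have c2 : r ∈ Cx (ψ gc) := mem_Cx.2 (by rw [← er, ← map_mul, ← map_mul, W4.rel.rc.eq])
    have c3 := mul_mem (mul_mem (mul_mem c1 c2) (inv_mem c1)) c2
    have no : ψ gc * ψ gc ∉ zpowers (⟨z, mem_Cx.2 rfl⟩ : Cx z) := by
      rw [← ez, ← map_mul, ← MonoidHom.map_zpowers, mem_map_iff_mem inj]
      intro e
      have := (mem_Cx (x := gd)).1 (zpowers_le.2 (mem_Cx.2 W4.rel.dz.symm.eq) e)
      revert this
      decide +kernel
    rcases h.cls ⟨g, hg.1⟩ with e | e | e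
    · exact (mQ _).2 e
    · exact absurd (h.not_fix hc c3 e) no
    · exact absurd (h.not_fix hc (pow_mem c3 2) e) no)
  obtain ⟨χ, m, gc, ex, e⟩ := gc1.exists_GC (fun g => gc1.wc_of_card (by rw [ez', h.cardH])) (by
    rw [ez']
    exact nw _ syl)
  refine ⟨χ, R, π, π', gc, by rw [e _ (by simp), ez'], by rw [e _ (by simp), ez']; exact ω.2, ?_, ?_, ?_⟩
  · rw [ex, ez', eφ]
    exact Cx_comm.1 (mul_mem (mem_Cx.2 (congrArg Subtype.val xω)) (pow_mem (Cx_comm.1 ω.2) m))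
  · rw [e _ (by simp), e _ (by simp), eφ, eφ]
    exact congrArg Subtype.val ac
  · rw [e _ (by simp), e _ (by simp), eφ, eφ, ← ac]
    have : ω * (ω * ψ ga * ω⁻¹) * ω⁻¹ = ψ ga := by
      rw [show ω * (ω * ψ ga * ω⁻¹) * ω⁻¹ = ω * ω * ψ ga * (ω * ω)⁻¹ by group, h.ωω, one_mul, inv_one, mul_one]
    exact congrArg Subtype.val this

end CfsgLib.Rec3B
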