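import Cfsg.Agent.Lib.Rec3B.FB
import Cfsg.Agent.Lib.Comp.FStar

/-! The hypotheses of S3368 (plans/REC3B.md, F1). -/

set_option autoImplicit false
set_option maxRecDepth 100000
set_option maxHeartbeats 400000
set_option linter.unusedSectionVars false
set_option linter.unusedVariables false

namespace CfsgLib.Rec3B

open Subgroup Cfsg CfsgLib.Tech CfsgLib.PComp CfsgLib.W2 CfsgLib.Rec3 W4
open CfsgLib.U43 (SL)

variable {G : Type*} [Group G] [Finite G]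

open CfsgLib.Sect Es NBx

namespace F1x

variable {z : G} {Q P : Subgroup G} {Qi : Fin 3 → Subgroup G}

theorem cube_cj {g y : G} (z3 : z ^ 3 = 1) (hg : g ∈ Cx z) (hw : g * y * g⁻¹ * y⁻¹ ∈ zpowers z) :
    y * g ^ 3 = g ^ 3 * y := by
  obtain ⟨w, e⟩ : ∃ w, w = g * y * g⁻¹ * y⁻¹ := ⟨_, rfl⟩
  rw [← e] at hw
  have e1 : g * y * g⁻¹ = w * y := by rw [e]; group
  have e2 := zcj hw hg
  calc y * g ^ 3 = w ^ 3 * y * g ^ 3 := by rw [zcube z3 hw, one_mul]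
    _ = g * w * g⁻¹ * (g * w * g⁻¹) * (g * y * g⁻¹) * g ^ 3 := by rw [e2, e1, pow_three w]; group
    _ = g * (g * w * g⁻¹ * (g * y * g⁻¹)) * g⁻¹ * g ^ 3 := by
      conv_rhs => rw [e2, e1]
      group
    _ = g * g * (g * y * g⁻¹) * g⁻¹ * g⁻¹ * g ^ 3 := by
      conv_rhs => rw [e1]
      group
    _ = _ := by rw [pow_three]; group

theorem exp_of {t q : G} (h : Ez P z) (tz : t ∈ Cx z) (hq : q ∈ P) (h1 : t * q * t⁻¹ * q ∈ zpowers z) :
    q ^ 3 = 1 := by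
  have h2 := h.cen _ (pow_mem hq 3) fun y hy => cube_cj h.z3 (h.zc hq) (h.cmt q hq y hy)
  refine eq_one (zcube h.z3 h2) ?_
  nth_rw 1 [← zcj h2 tz]
  have c : Commute (t * q * t⁻¹ * q) q⁻¹ := (Es.zc h1 (h.zc (inv_mem hq))).symm
  rw [← conj_pow, ← mul_inv_cancel_right (t * q * t⁻¹) q, c.mul_pow, zcube h.z3 h1]
  simp

theorem gen27 (h : Ez P z) (hP : Nat.card P = 27) : ∃ a b, Subgroup.closure {a, b} = P ∧ a * b = z * (b * a) := by
  obtain ⟨a, aP, b, bP, ab⟩ : ∃ a ∈ P, ∃ b ∈ P, a * b = z * (b * a) := by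
    obtain ⟨a, aP, aZ⟩ := exists_notMem (K := zpowers z) (H := P) (by rw [cardZ h.z1 h.z3]; omega)
    have na : ¬ P ≤ Cx a := fun k => aZ (h.cen a aP fun y hy => mem_Cx.1 (k hy))
    obtain ⟨b, bP, nb⟩ := SetLike.not_le_iff_exists.1 na
    rcases three_cases h.z3 (h.cmt a aP b bP) with k | k | k
    · rw [mul_inv_eq_one, mul_inv_eq_iff_eq_mul] at k
      exact absurd (mem_Cx.2 k.symm) nb
    · exact ⟨a, aP, b, bP, by rw [← k]; group⟩
    · exact ⟨b, bP, a, aP, by rw [← inv_inv z, ← k]; group⟩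
  have aC : a ∈ P ⊓ Cx a := ⟨aP, mem_Cx.2 rfl⟩
  have nb : b ∉ P ⊓ Cx a := fun k => h.z1 (by
    rw [← mem_Cx.1 k.2] at ab; simpa using ab.symm)
  have aZ : a ∉ zpowers z := fun k => nb ⟨bP, mem_Cx.2 (Es.zc k (h.zc bP))⟩
  have c3 := h.card3 aP fun k => nb ⟨bP, k bP⟩
  have ha : a ∈ Subgroup.closure {a, b} := subset_closure (by simp)
  have hb : b ∈ Subgroup.closure {a, b} := subset_closure (by simp)
  refine ⟨a, b, le_antisymm ((closure_le _).2 (by rintro _ (rfl | rfl) <;> assumption))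
    (max3 (max3 (zpowers_le.2 ?_) (h.cent aP).ZP (by rw [cardZ h.z1 h.z3]; omega) ha aC aZ) inf_le_left c3 hb bP
      nb), ab⟩
  convert mul_mem (mul_mem ha hb) (inv_mem (mul_mem hb ha)) using 1
  rw [ab]; group

theorem cj_H0 {n : ℕ} {Qi : Fin n → Subgroup G} {r : Fin n → G} {π : Fin n → G → SL}
    {τ : G → Equiv.Perm (Fin n)} (h : NH z Q Qi r π τ) {g k : G} (hg : g ∈ Cx z) (hk : k ∈ h.H0) :
    g * k * g⁻¹ ∈ h.H0 := by
  obtain ⟨k1, k2⟩ := h.mem_H0.1 hk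
  refine h.mem_H0.2 ⟨mul_mem (mul_mem hg k1) (inv_mem hg), ?_⟩
  rw [h.τm _ (mul_mem hg k1) _ (inv_mem hg), h.τm _ hg _ k1, k2, h.τ_inv hg, mul_one, mul_inv_cancel]

theorem π_cj {n : ℕ} {Qi : Fin n → Subgroup G} {r : Fin n → G} {π : Fin n → G → SL}
    {τ : G → Equiv.Perm (Fin n)} (h : NH z Q Qi r π τ) {g k : G} {i : Fin n} (hg : g ∈ Cx z) (hk : k ∈ h.H0)
    (m : ℕ) (e : π i k ^ m = 1) : π (τ g i) (g * k * g⁻¹) ^ m = 1 := by
  have a := cj_H0 h hg hk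
  have b := h.mem_St.1 (pow_mem (h.H0_le (τ g i) a) m)
  have c := h.mem_St.1 (pow_mem (h.H0_le i hk) m)
  rw [← h.π_pow (h.H0_le _ hk), h.πk _ _ c.1 c.2] at e
  rw [← h.π_pow (h.H0_le _ a), h.πk _ _ b.1 b.2, conj_pow]
  intro q hq
  have := e _ (mem_cj.1 ((h.τa g hg i).ge hq))
  rw [← zcj this hg] at this
  convert this using 1
  group

/-- the hypotheses in ambient form -/
structure Pre (z : G) (Q P : Subgroup G) (Qi : Fin 3 → Subgroup G) : Prop where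
  ez : Ez Q z
  ezi : ∀ i, Ez (Qi i) z
  le : ∀ i, Qi i ≤ Q
  nQ : normalizer (zpowers z : Set G) ≤ normalizer (Q : Set G)
  card : Nat.card Q = 3 ^ 7
  cardi : ∀ i, Nat.card (Qi i) = 27
  cm : ∀ i j, i ≠ j → ∀ p ∈ Qi i, ∀ q ∈ Qi j, p * q = q * p
  sup : Qi 0 ⊔ Qi 1 ⊔ Qi 2 = Q
  cQ : ∀ g ∈ Cx z, (∀ q ∈ Q, q * g = g * q) → g ∈ Q
  core : ∀ N ≤ Cx z, Cx z ≤ normalizer (N : Set G) → IsPGroup 3 N → N ≤ Q
  QP : Q ≤ P
  Pz : P ≤ Cx z
  nP : Cx z ≤ normalizer (P : Set G)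
  Pc : Nat.card P = 2 ^ 7 * 3 ^ 7
  Pn : ∀ i, P ≤ normalizer (Qi i : Set G)
  pmax : ∀ N ≤ Cx z, Cx z ≤ normalizer (N : Set G) → (∀ g ∈ N, g ^ 4 ∈ Q) → N ≤ P
  cent : ∀ i, ∃ x ∈ P, (∀ q ∈ Qi i, x * q * x⁻¹ * q ∈ zpowers z) ∧
    ∀ j ≠ i, ∀ q ∈ Qi j, x * q * x⁻¹ * q⁻¹ ∈ zpowers z

namespace Pre

variable (h : Pre z Q P Qi) {g : G}
include h

theorem dec : ∀ q ∈ Q, ∃ y : Fin 3 → G, (∀ i, y i ∈ Qi i) ∧ q = (List.ofFn y).prod := fun q hq => by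
  obtain ⟨u, hu, c, hc, rfl⟩ := (mem_sup_of_comm fun u hu c hc => mem_Cx.1 (sup_le (c := Cx c)
    (fun a ha => mem_Cx.2 (h.cm 0 2 (by decide) a ha c hc)) (fun a ha => mem_Cx.2 (h.cm 1 2 (by decide) a ha c hc))
    hu)).1 (h.sup.ge hq)
  obtain ⟨a, ha, b, hb, rfl⟩ := (mem_sup_of_comm (h.cm 0 1 (by decide))).1 hu
  exact ⟨![a, b, c], fun i => by fin_cases i <;> assumption, by simp [List.ofFn_succ, mul_assoc]⟩

theorem exp : ∀ q ∈ Q, q ^ 3 = 1 := fun q hq => by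
  obtain ⟨y, hy, rfl⟩ := h.dec q hq
  have e : ∀ i, y i ^ 3 = 1 := fun i => by
    obtain ⟨x, hx, e, -⟩ := h.cent i
    exact exp_of (h.ezi i) (h.Pz hx) (hy i) (e _ (hy i))
  have c : ∀ i j, i ≠ j → Commute (y i) (y j) := fun i j e => h.cm i j e _ (hy i) _ (hy j)
  simp only [List.ofFn_succ, List.ofFn_zero, List.prod_cons, List.prod_nil, mul_one]
  rw [((c _ _ (by decide)).mul_right (c _ _ (by decide))).mul_pow, (c _ _ (by decide)).mul_pow, e, e, e]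
  simp

theorem norm_Q (hg : g ∈ Cx z) : g ∈ normalizer (Q : Set G) :=
  h.nQ (mem_normalizer_of_forall fun w hw => by rwa [zcj hw hg])

theorem faith : ∀ g ∈ Cx z, (∀ q ∈ Q, g * q * g⁻¹ * q⁻¹ ∈ zpowers z) → g ∈ Q := fun g hg e => by
  have m : ∀ {k}, k ∈ Cx z ⊓ ⨅ q ∈ Q, cmz z q ↔ k ∈ Cx z ∧ ∀ q ∈ Q, k * q * k⁻¹ * q⁻¹ ∈ zpowers z := by
    simp only [mem_inf, mem_iInf]
    exact ⟨fun k => ⟨k.1, fun q hq => (k.2 q hq).2⟩, fun k => ⟨k.1, fun q hq => ⟨k.1, k.2 q hq⟩⟩⟩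
  refine h.core _ inf_le_left (fun a ha => mem_normalizer_of_forall fun k hk => m.2
    ⟨mul_mem (mul_mem ha hk.1) (inv_mem ha), fun q hq => ?_⟩) (isPGroup_iff_mem.2 fun k hk => ⟨2, ?_⟩) (m.2 ⟨hg, e⟩)
  · have := (m.1 hk).2 _ (conj_mem_of_mem_normalizer' (h.norm_Q ha) hq)
    rw [← zcj this ha] at this
    convert this using 1
    group
  · rw [sq, pow_mul]
    exact h.exp _ (h.cQ _ (pow_mem hk.1 3) fun q hq => cube_cj h.ez.z3 hk.1 ((m.1 hk).2 q hq))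

theorem fix_of (hg : g ∈ Cx z) (e : ∀ i, ∀ q ∈ Qi i, g * q * g⁻¹ * q⁻¹ ∈ zpowers z) : g ∈ Q :=
  h.faith g hg fun q hq => by
    have k : ∀ i, Qi i ≤ cmz z g := fun i p hp => ⟨(h.ezi i).zc hp, cmt_symm (e i p hp)⟩
    exact cmt_symm (sup_le (sup_le (k 0) (k 1)) (k 2) (h.sup.ge hq)).2

theorem not_le (i : Fin 3) : ¬ Qi i ≤ zpowers z := fun e => by
  have := card_le_of_le e
  rw [h.cardi, cardZ h.ez.z1 h.ez.z3] at this
  omega

theorem Qi_inj : Function.Injective Qi := fun i j e => by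
  by_contra k
  exact h.not_le i fun q hq => (h.ezi i).cen q hq fun y hy => h.cm i j k y hy q (e ▸ hq)

theorem exists_FH : ∃ (P₀ : Subgroup G) (r : Fin 3 → G) (π : Fin 3 → G → SL) (τ : G → Equiv.Perm (Fin 3)),
    FH z Q P₀ Qi r π τ := by
  classical
  have : Fact (Nat.Prime 2) := ⟨Nat.prime_two⟩
  have z3 := h.ez.z3
  have hπ : ∀ i, ∃ π : G → SL, (∀ g ∈ normalizer (Qi i : Set G) ⊓ Cx z, ∀ k ∈ normalizer (Qi i : Set G) ⊓ Cx z,
      π (g * k) = π g * π k) ∧ ∀ g ∈ normalizer (Qi i : Set G) ⊓ Cx z,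
      (π g = 1 ↔ ∀ p ∈ Qi i, g * p * g⁻¹ * p⁻¹ ∈ zpowers z) := fun i => by
    obtain ⟨a, b, e, ab⟩ := gen27 (h.ezi i) (h.cardi i)
    have ha : a ∈ Qi i := e ▸ subset_closure (by simp)
    have hb : b ∈ Qi i := e ▸ subset_closure (by simp)
    rw [← e]
    exact heis_hom h.ez.z1 z3 (h.exp a (h.le i ha)) (h.exp b (h.le i hb)) (mem_Cx.1 ((h.ezi i).zc ha))
      (mem_Cx.1 ((h.ezi i).zc hb)) ab
  choose π πm πk using hπ
  have PN : ∀ i, P ≤ normalizer (Qi i : Set G) ⊓ Cx z := fun i => le_inf (h.Pn i) h.Pz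
  have pm : ∀ i {a b}, a ∈ P → b ∈ P → π i (a * b) = π i a * π i b := fun i a b ha hb =>
    πm i a (PN i ha) b (PN i hb)
  have p1 : ∀ i, π i 1 = 1 := fun i => (πk i 1 (one_mem _)).2 fun p _ => by simp
  have pi : ∀ i {a}, a ∈ P → π i a⁻¹ = (π i a)⁻¹ := fun i a ha =>
    eq_inv_of_mul_eq_one_left (by rw [← pm i (inv_mem ha) ha, inv_mul_cancel, p1])
  have sq1 : ∀ a : SL, a * a = 1 → a ≠ 1 → a = SL.o 1 := by decide +kernel
  obtain ⟨P₀, hP⟩ := exists_isSylowIn 2 P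
  have Pc : Nat.card P₀ = 128 := by
    rw [hP.card_eq_pow, h.Pc, Nat.factorization_mul (by norm_num) (by norm_num), Nat.prime_two.factorization_pow,
      Nat.prime_three.factorization_pow]
    simp
  have eP : P₀ ⊔ Q = P := eq_of_le_of_card_ge (sup_le hP.le h.QP) (Nat.le_of_dvd Nat.card_pos (by
    rw [h.Pc]
    exact Nat.Coprime.mul_dvd_of_dvd_of_dvd (by norm_num) (Pc.ge.antisymm' Pc.le ▸ card_dvd_of_le le_sup_left :)
      (h.card ▸ card_dvd_of_le le_sup_right)))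
  have inj : ∀ p ∈ P₀, (∀ j, π j p = 1) → p = 1 := fun p hp e => by
    have b := h.exp p (h.fix_of (h.Pz (hP.le hp)) fun j => (πk j p (PN j (hP.le hp))).1 (e j))
    have c : p ^ 128 = 1 := by
      rw [← Pc]; exact congrArg Subtype.val (pow_card_eq_one' (x := (⟨p, hp⟩ : P₀)))
    rw [show 128 = 3 * 42 + 2 by rfl, pow_add, pow_mul, b, one_pow, one_mul, sq] at c
    exact eq_one b c
  choose x hx x1 x2 using h.cent
  have πx : ∀ i, π i (x i) = SL.o 1 := fun i => sq1 _ (by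
      rw [← pm i (hx i) (hx i), πk i _ (PN i (mul_mem (hx i) (hx i)))]
      exact fun q hq => two_neg (h.Pz (hx i)) (x1 i q hq) (x1 i _ (inv_mem hq)))
    fun e => h.not_le i fun p hp => of_sq (h.exp p (h.le i hp)) (by
      simpa [mul_assoc] using mul_mem (inv_mem ((πk i _ (PN i (hx i))).1 e p hp)) (x1 i p hp))
  have ng : ∀ i, ∀ g ∈ P, π i g = SL.o 1 → ∀ q ∈ Qi i, g * q * g⁻¹ * q ∈ zpowers z := fun i g hg e q hq => by
    have := (πk i _ (PN i (mul_mem (inv_mem (hx i)) hg))).1 (by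
      rw [pm i (inv_mem (hx i)) hg, pi i (hx i), πx, e, inv_mul_cancel]) q hq
    rw [← zcj this (h.Pz (hx i))] at this
    convert mul_mem this (x1 i q hq) using 1
    group
  have hr : ∀ i, ∃ r ∈ P₀, π i r = SL.o 1 ∧ ∀ j ≠ i, π j r = 1 := fun i => by
    obtain ⟨r, hr, q, hq, e⟩ := (mem_sup_of_norm fun a ha b hb =>
      conj_mem_of_mem_normalizer (h.norm_Q (h.Pz (hP.le ha))) hb).1 (eP.ge (hx i))
    have k : ∀ j, π j r = π j (x i) := fun j => by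
      rw [e, pm j (hP.le hr) (h.QP hq), (πk j q (PN j (h.QP hq))).2 fun p hp => h.ez.cmt q hq p (h.le j hp), mul_one]
    exact ⟨r, hr, (k i).trans (πx i), fun j hj => (k j).trans ((πk j _ (PN j (hx i))).2 (x2 i j hj))⟩
  choose r rP r1 r2 using hr
  have r3 : ∀ i j, π j (r i) = SL.o 1 ∨ π j (r i) = 1 := fun i j => by
    by_cases e : j = i
    exacts [Or.inl (e ▸ r1 j), Or.inr (r2 i j e)]
  have rP' := fun i => hP.le (rP i)
  have rz := fun i => h.Pz (rP' i)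
  have rr : ∀ i, r i * r i = 1 := fun i => inj _ (mul_mem (rP i) (rP i)) fun j => by
    rw [pm j (rP' i) (rP' i)]
    rcases r3 i j with e | e <;> rw [e] <;> decide +kernel
  have rc : ∀ i, P₀ ≤ Cx (r i) := fun i p hp => by
    have a := hP.le hp
    have := inj _ (mul_mem (mul_mem (mul_mem hp (rP i)) (inv_mem hp)) (inv_mem (rP i))) fun j => by
      rw [pm j (mul_mem (mul_mem a (rP' i)) (inv_mem a)) (inv_mem (rP' i)), pm j (mul_mem a (rP' i)) (inv_mem a),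
        pm j a (rP' i), pi j a, pi j (rP' i)]
      rcases r3 i j with e | e <;> rw [e]
      · rw [SL.neg_comm]; group
      · group
    exact mem_Cx'.2 (mul_inv_eq_one.1 this)
  have ri := fun i => ng i _ (rP' i) (r1 i)
  have rj : ∀ i j, i ≠ j → Qi j ≤ Cx (r i) := fun i j e q hq =>
    h.ez.fix_mod (rz i) (by rw [rr]; simp) ((πk j _ (PN j (rP' i))).1 (r2 i j e.symm) q hq)
  have negQ : ∀ i, ∀ q ∈ Q, r i * q * (r i)⁻¹ * q ∈ zpowers z → q ∈ Qi i := fun i q hq e => by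
    obtain ⟨y, hy, rfl⟩ := h.dec q hq
    obtain ⟨u, hu, v, hv, k⟩ := prod_split (K := Q ⊓ Cx (r i) ⊓ Cx (y i)) y i fun j hj =>
      ⟨⟨h.le j (hy j), rj i j hj.symm (hy j)⟩, mem_Cx.2 (h.cm j i hj _ (hy j) _ (hy i))⟩
    have n1 := h.ez.mem_neg.2 ⟨hq, e⟩
    rw [k, mem_Cx.1 hu.2, mul_assoc] at n1 ⊢
    have huv := (mul_mem hu hv).1
    rw [mul_mem_cancel_left (h.ez.mem_neg.2 ⟨h.le i (hy i), ri i _ (hy i)⟩)] at n1
    have n2 := (h.ez.mem_neg.1 n1).2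
    rw [← mem_Cx.1 huv.2, mul_inv_cancel_right] at n2
    exact mul_mem (hy i) ((h.ezi i).ZP (of_sq (h.exp _ huv.1) n2))
  have ex : ∀ g ∈ Cx z, ∀ i, ∃ j, cj g (Qi i) = Qi j := fun g hg i => by
    have tP := conj_mem_of_mem_normalizer (h.nP hg) (rP' i)
    have tt : g * r i * g⁻¹ * (g * r i * g⁻¹) = 1 := by rw [conj_mul, rr]; group
    by_cases k : ∀ j, π j (g * r i * g⁻¹) = 1
    · have := eq_one (h.exp _ (h.fix_of (h.Pz tP) fun j => (πk j _ (PN j tP)).1 (k j))) tt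
      rw [conj_eq_one_iff] at this
      exact absurd (this ▸ r1 i) (by rw [p1]; decide +kernel)
    push Not at k
    obtain ⟨j, k⟩ := k
    refine ⟨j, (eq_of_le_of_card_ge (fun q hq => mem_cj.2 (negQ i _
      (conj_mem_of_mem_normalizer' (h.norm_Q hg) (h.le j hq)) ?_)) (by rw [card_cj, h.cardi, h.cardi])).symm⟩
    have := ng j _ tP (sq1 _ (by rw [← pm j tP tP, tt, p1]) k) q hq
    rw [← zcj this (inv_mem hg)] at this
    convert this using 1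
    group
  choose f hf using ex
  obtain ⟨τ, τa⟩ : ∃ τ : G → Equiv.Perm (Fin 3), ∀ g ∈ Cx z, ∀ i, cj g (Qi i) = Qi (τ g i) :=
    ⟨fun g => if hg : g ∈ Cx z then Equiv.ofBijective (f g hg) (Finite.injective_iff_bijective.1 fun i j e =>
      h.Qi_inj (cj_injective g (by rw [hf g hg, hf g hg, e]))) else 1, fun g hg i => by
        simp only [dif_pos hg]; exact hf g hg i⟩
  have st : ∀ {g i}, g ∈ Cx z → τ g i = i → g ∈ normalizer (Qi i : Set G) ⊓ Cx z := fun {g i} hg e =>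
    ⟨mem_normalizer_iff_cj.2 (by rw [τa g hg, e]), hg⟩
  have H : NH z Q Qi r π τ := ⟨h.ez.z1, fun i => (h.ezi i).zQ, h.le, h.ez.zc, h.nQ, h.card, h.cardi, h.exp, h.ez.cmt,
    fun i => (h.ezi i).cen, h.cm, h.dec, h.faith, fun a ha b hb => Equiv.ext fun i => h.Qi_inj (by
      rw [← τa _ (mul_mem ha hb), cj_mul, τa b hb, τa a ha]; rfl), τa,
    fun i a ha e b hb e' => πm i a (st ha e) b (st hb e'), fun i g hg e => πk i g (st hg e), rz, rr,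
    fun i j => mem_Cx.1 (rc j (rP i)), ri, rj⟩
  refine ⟨P₀, r, π, τ, H, h.core, Pc, hP.le.trans h.Pz, fun p hp => Equiv.ext fun i => H.τ_fix (h.Pz (hP.le hp))
    fun q hq => conj_mem_of_mem_normalizer (h.Pn i (hP.le hp)) hq, rP, rc, fun g hg e1 e2 => ?_⟩
  let N : Subgroup G :=
    { carrier := {k | k ∈ H.H0 ∧ ∀ j, π j k ^ 4 = 1}
      one_mem' := ⟨one_mem _, fun j => by simp [p1]⟩
      mul_mem' := fun {a b} ha hb => ⟨mul_mem ha.1 hb.1, fun j => by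
        rw [H.π_mul (H.H0_le j ha.1) (H.H0_le j hb.1)]
        exact (by decide +kernel : ∀ s t : SL, s ^ 4 = 1 → t ^ 4 = 1 → (s * t) ^ 4 = 1) _ _ (ha.2 j) (hb.2 j)⟩
      inv_mem' := fun {a} ha => ⟨inv_mem ha.1, fun j => by
        rw [H.π_inv (H.H0_le j ha.1), inv_pow, ha.2, inv_one]⟩ }
  rw [sup_comm, eP]
  refine h.pmax N (fun k hk => (H.mem_H0.1 hk.1).1) (fun a ha => mem_normalizer_of_forall fun k hk =>
    ⟨cj_H0 H ha hk.1, fun j => ?_⟩) (fun k hk => ?_) ⟨H.mem_H0.2 ⟨hg, e1⟩, e2⟩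
  · obtain ⟨j, rfl⟩ := (τ a).surjective j
    exact π_cj H ha hk.1 4 (hk.2 j)
  · have c := H.mem_H0.1 (pow_mem hk.1 4)
    exact H.mem_Q c.1 c.2 fun j => by rw [H.π_pow (H.H0_le j hk.1), hk.2]

end Pre

end F1x

open F1x in
theorem exists_FH (H : Subgroup G) (Q : Subgroup H) (hQF : Q = Cfsg.generalizedFittingSubgroup H) [hQn : Q.Normal]
    (hQex : Cfsg.IsExtraspecial 3 Q) (hQcard : Nat.card Q = 3 ^ 7)
    (hZZ : (Subgroup.center Q).map Q.subtype = Subgroup.center H)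
    (P : Subgroup H) (hP : P = (Cfsg.pCore 2 (H ⧸ Q)).comap (QuotientGroup.mk' Q))
    (hPcard : Nat.card (Cfsg.pCore 2 (H ⧸ Q)) = 2 ^ 7)
    (Q₁ Q₂ Q₃ : Subgroup H) (hle : Q₁ ≤ Q ∧ Q₂ ≤ Q ∧ Q₃ ≤ Q)
    (hZle : Subgroup.center H ≤ Q₁ ∧ Subgroup.center H ≤ Q₂ ∧ Subgroup.center H ≤ Q₃)
    (hex : Cfsg.IsExtraspecial 3 Q₁ ∧ Cfsg.IsExtraspecial 3 Q₂ ∧ Cfsg.IsExtraspecial 3 Q₃)
    (hcard : Nat.card Q₁ = 27 ∧ Nat.card Q₂ = 27 ∧ Nat.card Q₃ = 27)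
    (hcomm : (∀ a ∈ Q₁, ∀ b ∈ Q₂, a * b = b * a) ∧ (∀ a ∈ Q₁, ∀ b ∈ Q₃, a * b = b * a) ∧ (∀ a ∈ Q₂, ∀ b ∈ Q₃, a * b = b * a))
    (hprod : Q₁ ⊔ Q₂ ⊔ Q₃ = Q)
    (hnorm : ∀ x ∈ P, ∀ Qᵢ ∈ [Q₁, Q₂, Q₃], ∀ q ∈ Qᵢ, x * q * x⁻¹ ∈ Qᵢ)
    (hcent : ∀ Qᵢ ∈ [Q₁, Q₂, Q₃], ∃ x ∈ P, (∀ q ∈ Qᵢ, x * q * x⁻¹ * q ∈ Subgroup.center H) ∧
      ∀ Qⱼ ∈ [Q₁, Q₂, Q₃], Qⱼ ≠ Qᵢ → ∀ q ∈ Qⱼ, x * q * x⁻¹ * q⁻¹ ∈ Subgroup.center H)
    (Z : Subgroup G) (hZ : Z = (Subgroup.center H).map H.subtype) (hHC : H = Subgroup.centralizer (Z : Set G))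
    (S : Sylow 3 G) (hZS : Z ≤ S) (hnwc : ¬ Cfsg.IsWeaklyClosed Z S) :
    ∃ (z : G) (P₀ : Subgroup G) (Qi : Fin 3 → Subgroup G) (r : Fin 3 → G) (π : Fin 3 → G → SL)
      (τ : G → Equiv.Perm (Fin 3)), FH z (Q.map H.subtype) P₀ Qi r π τ ∧ Z = zpowers z ∧
      ∃ g, g * z * g⁻¹ ∈ Cx z ∧ g * z * g⁻¹ ∉ zpowers z := by
  have : Fact (Nat.Prime 3) := ⟨Nat.prime_three⟩
  have cH : Nat.card (center H) = 3 := by rw [← hZZ, card_map_of_injective (subtype_injective _), hQex.2]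
  have cZ : Nat.card Z = 3 := by rw [hZ, card_map_of_injective (subtype_injective _), cH]
  obtain ⟨z, zZ, z1⟩ := exists_ne_one (K := Z) (by omega)
  have z3 : z ^ 3 = 1 := by rw [← cZ]; exact congrArg Subtype.val (pow_card_eq_one' (x := (⟨z, zZ⟩ : Z)))
  have eZ : Z = zpowers z := (eq_of_le_of_card_ge (zpowers_le.2 zZ) (by rw [cZ, cardZ z1 z3])).symm
  have eH : H = Cx z := by
    rw [hHC, eZ]
    exact le_antisymm (centralizer_le (by simp)) fun g hg w hw => (Es.zc hw hg).symm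
  subst eH
  have mZ : ∀ {x : Cx z}, x ∈ center (Cx z) ↔ x.1 ∈ zpowers z := fun {x} => by
    rw [← eZ, hZ]
    exact (mem_map_iff_mem (subtype_injective _)).symm
  have z0 : (⟨z, mem_Cx.2 rfl⟩ : Cx z) ∈ center (Cx z) := mZ.2 (mem_zpowers z)
  have ez : ∀ K : Subgroup (Cx z), center (Cx z) ≤ K → IsExtraspecial 3 K → Ez (K.map (Cx z).subtype) z :=
    fun K h1 h2 => by
    obtain ⟨a, b⟩ := es_facts h2 (z := ⟨_, h1 z0⟩) (mem_center_iff.2 fun g => Subtype.ext (mem_center_iff.1 z0 g))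
      fun e => z1 (congrArg (fun x => x.1.1) e)
    have c : ∀ x : K, x ∈ zpowers (⟨_, h1 z0⟩ : K) → x.1.1 ∈ zpowers z := by
      rintro _ ⟨k, rfl⟩
      exact ⟨k, by simp⟩
    refine ⟨⟨h2.1.1.map _, ⟨_, h1 z0, rfl⟩, z1, z3, map_subtype_le _, ?_⟩, ?_⟩
    · rintro _ ⟨p, hp, rfl⟩ _ ⟨q, hq, rfl⟩
      exact c _ (b ⟨p, hp⟩ ⟨q, hq⟩)
    · rintro _ ⟨p, hp, rfl⟩ e
      exact c _ (a ⟨p, hp⟩ fun y => Subtype.ext (Subtype.ext (e _ ⟨_, y.2, rfl⟩)))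
  let q : Fin 3 → Subgroup (Cx z) := ![Q₁, Q₂, Q₃]
  have qm : ∀ i, q i ∈ [Q₁, Q₂, Q₃] := fun i => by fin_cases i <;> simp [q]
  have cm : ∀ i j, i ≠ j → ∀ a ∈ q i, ∀ b ∈ q j, a * b = b * a := fun i j e a ha b hb => by
    fin_cases i <;> fin_cases j <;> first
      | exact absurd rfl e
      | exact hcomm.1 a ha b hb | exact hcomm.2.1 a ha b hb | exact hcomm.2.2 a ha b hb
      | exact (hcomm.1 b hb a ha).symm | exact (hcomm.2.1 b hb a ha).symm | exact (hcomm.2.2 b hb a ha).symm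
  have ezi : ∀ i, Ez ((q i).map (Cx z).subtype) z := fun i => by
    fin_cases i
    exacts [ez _ hZle.1 hex.1, ez _ hZle.2.1 hex.2.1, ez _ hZle.2.2 hex.2.2]
  have ci : ∀ i, Nat.card ((q i).map (Cx z).subtype) = 27 := fun i => by
    rw [card_map_of_injective (subtype_injective _)]
    fin_cases i
    exacts [hcard.1, hcard.2.1, hcard.2.2]
  have Pn : P.Normal := hP ▸ Normal.comap inferInstance _
  have h : Pre z (Q.map (Cx z).subtype) (P.map (Cx z).subtype) fun i => (q i).map (Cx z).subtype := by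
    refine ⟨ez _ (hZle.1.trans hle.1) hQex, ezi, fun i => map_mono ?_, fun g hg => ?_,
      (card_map_of_injective (subtype_injective _)).trans hQcard, ci, ?_, by rw [← Subgroup.map_sup, ← Subgroup.map_sup, ← hprod]; rfl,
      fun g hg e => ⟨⟨g, hg⟩, ?_, rfl⟩, fun N h1 h2 h3 => (Core.le_map_pCore h1 h2 h3).trans (map_mono ?_),
      map_mono ?_, map_subtype_le _, Core.le_normalizer_map_subtype_of_normal P, ?_, ?_, fun N h1 h2 h3 => ?_,
      fun i => ?_⟩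
    · fin_cases i
      exacts [hle.1, hle.2.1, hle.2.2]
    · have : Q.Characteristic := by rw [hQF]; exact Comp.fstar_characteristic
      refine Core.normalizer_le_normalizer_map_subtype_of_characteristic Q (mem_normalizer_of_forall fun k hk => ?_)
      refine Cx_comm.1 (conj_mem_Cx (g := g⁻¹).1 ?_)
      rw [show g⁻¹ * (g * k * g⁻¹) * g⁻¹⁻¹ = k by group]
      exact mem_Cx.2 (Es.zc (conj_mem_of_mem_normalizer (inv_mem hg) (mem_zpowers z)) hk).symm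
    · rintro i j e _ ⟨a, ha, rfl⟩ _ ⟨b, hb, rfl⟩
      exact congrArg Subtype.val (cm i j e a ha b hb)
    · rw [hQF] at e ⊢
      exact Comp.centralizer_fstar_le fun y hy => Subtype.ext (e _ ⟨y, hy, rfl⟩)
    · exact hQF ▸ Comp.pCore_le_fstar 3
    · rw [hP]
      exact (QuotientGroup.ker_mk' Q).ge.trans (ker_le_comap _ _)
    · rw [card_map_of_injective (subtype_injective _), hP, Core.card_comap_mk', hPcard, hQcard]
    · rintro i _ ⟨x, hx, rfl⟩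
      refine mem_normalizer_of_forall ?_
      rintro _ ⟨a, ha, rfl⟩
      exact ⟨_, hnorm x hx _ (qm i) a ha, rfl⟩
    · have := normal_subgroupOf_of_le_normalizer h2
      have := Normal.map this _ (QuotientGroup.mk'_surjective Q)
      rw [← map_subgroupOf_eq_of_le h1, hP]
      refine map_mono (map_le_iff_le_comap.1 (Core.le_pCore (isPGroup_iff_mem.2 ?_)))
      rintro _ ⟨a, ha, rfl⟩
      refine ⟨2, ?_⟩
      rw [← map_pow, QuotientGroup.mk'_apply, QuotientGroup.eq_one_iff]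
      exact (mem_map_iff_mem (subtype_injective _)).1 (h3 a ha)
    · obtain ⟨x, hx, e1, e2⟩ := hcent _ (qm i)
      refine ⟨x, ⟨x, hx, rfl⟩, ?_, fun j hj => ?_⟩
      · rintro _ ⟨a, ha, rfl⟩
        exact mZ.1 (e1 a ha)
      · rintro _ ⟨a, ha, rfl⟩
        refine mZ.1 (e2 _ (qm j) (fun e => ?_) a ha)
        have := card_le_of_le (show (q j).map (Cx z).subtype ≤ zpowers z from fun y hy => (ezi j).cen y hy (by
          obtain ⟨y, hy, rfl⟩ := hy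
          rintro _ ⟨w, hw, rfl⟩
          exact congrArg Subtype.val (cm j i hj w hw y (e ▸ hy))))
        rw [ci, cardZ z1 z3] at this
        omega
  obtain ⟨P₀, r, π, τ, F⟩ := h.exists_FH
  refine ⟨z, P₀, _, r, π, τ, F, eZ, ?_⟩
  by_contra hn
  push Not at hn
  obtain ⟨T, hT⟩ := exists_isSylowIn 3 (Cx z)
  obtain ⟨k, -, hk⟩ := (F.sylow hT).exists_cj_le S.isPGroup' le_top
  have key : ∀ g, cj g Z ≤ S → cj k (cj g Z) = Z := fun g hg => by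
    refine eq_of_le_of_card_ge ?_ (by rw [card_cj, card_cj])
    have := ((cj_mono k hg).trans hk).trans hT.le
    rw [← cj_mul, eZ, cj_zpowers, zpowers_le] at this ⊢
    exact hn _ this
  exact hnwc ⟨hZS, fun g hg => cj_injective k ((key g hg).trans (by
    have := key 1 (by rwa [cj_one])
    rw [cj_one] at this
    exact this.symm))⟩

end CfsgLib.Rec3B
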