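import Cfsg.Agent.Lib.Rec3B.F3

/-! `⟨z⟩` is not weakly closed in `Q` (plans/REC3B.md, F2). -/

set_option autoImplicit false
set_option maxRecDepth 100000
set_option maxHeartbeats 400000
set_option linter.unusedSectionVars false
set_option linter.unusedVariables false

namespace CfsgLib.Rec3B

open Subgroup Cfsg CfsgLib.Tech CfsgLib.PComp CfsgLib.W2 CfsgLib.Rec3 W4
open CfsgLib.U43 (SL)

variable {G : Type*} [Group G] [Finite G]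
variable {z x σ : G} {Q P : Subgroup G} {Qi : Fin 3 → Subgroup G} {r a b : Fin 3 → G} {π : Fin 3 → G → SL}
  {τ : G → Equiv.Perm (Fin 3)}

namespace F2x

open CfsgLib.Sect Es NBx FT F3x

/-- a conjugate `y` of `z` in `C(z)` outside `Q` -/
structure PR (z : G) (Q P : Subgroup G) (Qi : Fin 3 → Subgroup G) (r : Fin 3 → G) (π : Fin 3 → G → SL)
    (τ : G → Equiv.Perm (Fin 3)) (y : G) (R : Subgroup G) : Prop extends FH z Q P Qi r π τ where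
  M : MQ 3 y R
  yz : y ∈ Cx z
  yQ : y ∉ Q
  zR : z ∉ R
  wc : ∀ q, q * y * q⁻¹ ∈ R → q * y * q⁻¹ ∈ zpowers y
  th : ∀ D ≤ Cx y, IsPGroup 3 D → R.relIndex D ≤ 9 ∧ ∀ u ∈ D, ∀ v ∈ D, u * v * u⁻¹ * v⁻¹ ∈ R

theorem mkPR (h : FH z Q P Qi r π τ) (wc : ∀ g, g * z * g⁻¹ ∈ Q → g * z * g⁻¹ ∈ zpowers z) {g : G}
    (h1 : g * z * g⁻¹ ∈ Cx z) (h2 : g * z * g⁻¹ ∉ zpowers z) : PR z Q P Qi r π τ (g * z * g⁻¹) (cj g Q) := by
  refine ⟨h, (mq h.toNH).conj g, h1, fun e => h2 (wc g e), fun e => h2 ?_, fun q e => ?_, fun D => three_cj h g⟩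
  · have := (conj_zp (g := g)).2 (wc g⁻¹ (by simpa using mem_cj.1 e))
    rw [show g * (g⁻¹ * z * g⁻¹⁻¹) * g⁻¹ = z by group] at this
    exact mem_of_ne (conj3 h.z3 g) this (mem_zpowers z) h.z1
  · have e1 : q * (g * z * g⁻¹) * q⁻¹ = g * (g⁻¹ * q * g * z * (g⁻¹ * q * g)⁻¹) * g⁻¹ := by group
    rw [e1] at e ⊢
    exact conj_zp.2 (wc _ (conj_mem_cj.1 e))

theorem fix_two : ∀ s : Equiv.Perm (Fin 3), ∀ k l, k ≠ l → s k = k → s l = l → s = 1 := by decide +kernel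

theorem others : ∀ k : Fin 3, ∃ i j, i ≠ j ∧ i ≠ k ∧ j ≠ k ∧ ∀ l, l = i ∨ l = j ∨ l = k := by decide

namespace PR

variable {y q p c e : G} {R K L : Subgroup G} (h : PR z Q P Qi r π τ y R)
include h

theorem yN : y ∈ normalizer (Q : Set G) := h.norm_Q h.yz

theorem Dc : ∀ u ∈ Q ⊓ Cx y, ∀ v ∈ Q ⊓ Cx y, u * v = v * u := fun u hu v hv => mem_Cx.1 (cmt_one
  (eq_one_of h.z3 (h.cmt u hu.1 v hv.1) ((h.th _ inf_le_right (h.hz.two.to_le inf_le_left)).2 u hu v hv) h.zR))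

theorem D81 : Nat.card (Q ⊓ Cx y : Subgroup G) ≤ 81 := h.abel_le inf_le_left h.Dc

theorem zD : z ∈ Q ⊓ Cx y := ⟨h.z_mem, Cx_comm.1 h.yz⟩

theorem L9 (hK : K ≤ Q ⊓ Cx y) (e : ∀ e ∈ K, e ∈ R → e = 1) : Nat.card K ≤ 9 := by
  rw [card_eq_relIndex R K, (eq_bot_iff_forall (R ⊓ K)).2 fun x hx => e x hx.2 hx.1, card_bot, one_mul]
  exact (h.th K (hK.trans inf_le_right) (h.hz.two.to_le (hK.trans inf_le_left))).1

theorem chain (hK : K ≤ Q ⊓ Cx y) (e : ∀ e ∈ K, e ∈ R → e = 1) (h1 : z ∈ K ⊓ L) {u v : G} (h2 : u ∈ K ⊓ L)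
    (h3 : u ∉ zpowers z) (h4 : v ∈ K) (h5 : v ∉ L) : False := by
  have c1 := h.L9 hK e
  have c2 := two_mul_card_le (zpowers_le.2 h1) fun e => h3 (e h2)
  have c3 := two_mul_card_le (inf_le_left : K ⊓ L ≤ K) fun e => h5 (e h4).2
  rw [cardZ h.z1 h.z3] at c2
  omega

theorem star (hq : q ∈ Q) (e : q * y * q⁻¹ * y⁻¹ ∈ R) : q * y * q⁻¹ * y⁻¹ = 1 :=
  eq_one_of h.M.z3 (mul_mem (h.wc q ((mul_mem_cancel_right (inv_mem h.M.zQ)).1 e)) (inv_mem (mem_zpowers y)))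
    (cm_mem h.yN hq) h.yQ

theorem W3 : Nat.card (Q ⊓ cmz z y : Subgroup G) ≤ 3 * Nat.card (Q ⊓ Cx y : Subgroup G) :=
  (card_le3 (K := Q ⊓ cmz z y) h.z1 h.z3 (h.hz.two.to_le inf_le_left) fun _ e => cmt_symm e.2.2).trans
    (Nat.mul_le_mul_left 3 (card_le_of_le (inf_le_inf_right _ inf_le_left)))

theorem ImR (hn : ¬ Q ⊓ cmz z y ≤ Cx y) (h1 : e ∈ Im z Q y) (h2 : e ∈ R) : e = 1 := by
  obtain ⟨u, hu, nu⟩ := SetLike.not_le_iff_exists.1 hn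
  obtain ⟨p, hp, rfl⟩ := Im_all h.hz h.yN hu.1 hu.2.2 nu h1
  exact h.star hp h2

theorem invE (yρ : y ∈ Cx (rho r)) (h1 : e ∈ Q) (h2 : e ∈ R) : rho r * e * (rho r)⁻¹ = e⁻¹ :=
  mul_eq_one_iff_eq_inv.1 (eq_one_of h.z3 (h.rho_inv h1)
    (mul_mem (conj_mem_of_mem_normalizer (h.M.nQ (Cx_comm.1 yρ)) h2) h2) h.zR)

/-- the case of a trivial action on the factors -/
theorem basis3 (hq : q ∈ Q) (cρ : q * y ∈ Cx (rho r)) (c3 : (q * y) ^ 3 ∈ zpowers z) (t : τ y = 1) :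
    ∃ a b : Fin 3 → G, ∀ i, a i ∈ Qi i ∧ a i ∉ zpowers z ∧ a i ∈ Cx y ∧ a i ∈ Cx (q * y) ∧ a i ∈ Im z Q y ∧
      r i * a i * (r i)⁻¹ = (a i)⁻¹ ∧ b i ∈ Qi i ∧
      (b i * (q * y) * (b i)⁻¹ * (q * y)⁻¹ = a i * z⁻¹ ∨ b i * (q * y) * (b i)⁻¹ * (q * y)⁻¹ = (a i * z⁻¹)⁻¹) := by
  have cz := mul_mem (h.zc hq) h.yz
  have ct : τ (q * y) = 1 := (τ_mul_Q h.toNH hq h.yz).trans t
  have cN := h.norm_Q cz
  have cI : Im z Q (q * y) ≤ Im z Q y := by simpa using Im_mul h.hz cN (inv_mem hq)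
  have cy : ∀ p ∈ Q, q * y * p * (q * y)⁻¹ * p⁻¹ ∈ zpowers z → p ∈ cmz z y := fun p hp e => ⟨h.zc hp, cmt_symm
    ((mul_mem_cancel_left (show q ∈ cmz z p from ⟨h.zc hq, h.cmt q hq p hp⟩)).1 ⟨cz, e⟩).2⟩
  generalize q * y = c at *
  have A : ∀ i, ∃ a b, a ∈ Qi i ∧ a ∈ Cx c ∧ a ∈ Im z Q y ∧ Qi i ⊓ Cx a ≤ cmz z y ∧ (a = 1 ∨ (a ∉ zpowers z ∧
      r i * a * (r i)⁻¹ = a⁻¹ ∧ b ∈ Qi i ∧
      (b * c * b⁻¹ * c⁻¹ = a * z⁻¹ ∨ b * c * b⁻¹ * c⁻¹ = (a * z⁻¹)⁻¹))) := fun i => by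
    have ci : τ c i = i := by rw [ct]; rfl
    by_cases e : π i c = 1
    · exact ⟨1, 1, one_mem _, one_mem _, one_mem _, fun p hp => cy p (h.le i hp.1) ((h.πk i c cz ci).1 e p hp.1),
        Or.inl rfl⟩
    obtain ⟨a, b, h1, h2, h3, h4, h5, h6⟩ := h.basis cz ci (X_cent_r h.toNH cz cρ ct i) c3 e
    have aQ : a ∈ Qi i := h1 ▸ subset_closure (by simp)
    have bQ : b ∈ Qi i := h1 ▸ subset_closure (by simp)
    have ac : a ∈ Cx c := mem_Cx.2 h5.symm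
    have an : a ∉ zpowers z := fun e => h.z1 (by
      rw [Es.zc e (h.Qz i bQ)] at h4
      simpa using h4.symm)
    have h7 : b⁻¹ * c * b⁻¹⁻¹ * c⁻¹ = a * z⁻¹ ∨ b⁻¹ * c * b⁻¹⁻¹ * c⁻¹ = (a * z⁻¹)⁻¹ := by
      refine h6.imp (fun e => ?_) fun e => ?_
      · calc _ = b⁻¹ * (c * b * c⁻¹) := by group
          _ = _ := by rw [e]; group
      · calc _ = b⁻¹ * c * (b * a * z⁻¹) * c⁻¹ * (c * (a * z⁻¹) * c⁻¹)⁻¹ := by group
          _ = _ := by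
            rw [← e, mem_Cx'.1 (Cx_comm.1 (mul_mem ac (inv_mem (Cx_comm.1 cz))))]; group
    refine ⟨a, b⁻¹, aQ, ac, cI ?_, fun p hp => cy p (h.le i hp.1) ?_, Or.inr ⟨an, h2, inv_mem bQ, h7⟩⟩
    · have := cm_Im h.hz cN (inv_mem (h.le i bQ))
      rw [← mul_mem_cancel_right (inv_mem (z_Im h.hz cN (mem_zpowers z)))]
      rcases h7 with e | e <;> rw [e] at this
      exacts [this, inv_mem_iff.1 this]
    · rw [cmt_of (Cx_comm.1 (QA_le h.toNH aQ an ac (Cx_comm.1 cz) hp))]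
      exact one_mem _
  choose a b aQ ac aI aW A using A
  have W0 : ∀ p ∈ Q, (∀ i, p ∈ Cx (a i)) → p ∈ Q ⊓ cmz z y := fun p hp e => ⟨hp, FT.CA h.toNH aQ aW hp e⟩
  have o : ∀ {i p}, a i = 1 → p ∈ Cx (a i) := fun e => mem_Cx.2 (by rw [e, mul_one, one_mul])
  have pp : ∀ i, Q ⊓ cmz z y ≤ Cx (a i) := fun i p hp =>
    Cx_comm.1 (Im_perp h.hz h.yN h.yz hp.1 (cmt_symm hp.2.2) (aI i))
  have DW : Q ⊓ Cx y ≤ Q ⊓ cmz z y := fun p hp => ⟨hp.1, h.zc hp.1, by rw [cmt_of hp.2]; exact one_mem _⟩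
  have c0 := h.card
  have c1 := h.D81
  have c2 := h.W3
  have c3 := fun i => card_le3' h.hz le_rfl (h.le i (aQ i))
  have c4 := fun i j => card_le3' h.hz (inf_le_left : Q ⊓ Cx (a i) ≤ Q) (h.le j (aQ j))
  have n1 : ∀ i, ¬ ∀ l, l ≠ i → a l = 1 := fun i e => by
    have := card_le_of_le (show Q ⊓ Cx (a i) ≤ _ from fun p hp => W0 p hp.1 fun l => by
      by_cases k : l = i
      exacts [k ▸ hp.2, o (e l k)])
    have := c3 i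
    omega
  have n2 : ∀ k, a k ≠ 1 := fun k e => by
    obtain ⟨i, j, ij, ik, jk, hl⟩ := others k
    have ai : a i ∉ zpowers z := ((A i).resolve_left fun e' => n1 j fun l lj => by
      rcases hl l with rfl | rfl | rfl
      exacts [e', absurd rfl lj, e]).1
    have aj : a j ∉ zpowers z := ((A j).resolve_left fun e' => n1 i fun l li => by
      rcases hl l with rfl | rfl | rfl
      exacts [absurd rfl li, e', e]).1
    have c5 := card_le_of_le (show Q ⊓ Cx (a i) ⊓ Cx (a j) ≤ _ from fun p hp => W0 p hp.1.1 fun l => by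
      rcases hl l with rfl | rfl | rfl
      exacts [hp.1.2, hp.2, o e])
    have := c3 i
    have := c4 i j
    have aD : ∀ l, a l ∈ Q ⊓ Cx y := fun l =>
      (mq h.toNH).max inf_le_left h.Dc (by omega) (h.le l (aQ l)) (DW.trans (pp l))
    refine h.chain (K := Q ⊓ Cx y ⊓ Im z Q y) (L := Qi i) inf_le_left (fun e he => h.ImR (fun k => ?_) he.2)
      ⟨⟨h.zD, z_Im h.hz h.yN (mem_zpowers z)⟩, h.zQ i⟩ ⟨⟨aD i, aI i⟩, aQ i⟩ ai ⟨aD j, aI j⟩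
      fun e => aj (h.inf_le ij e (aQ j))
    have := card_le_of_le (le_inf inf_le_left k)
    omega
  have B := fun i => (A i).resolve_left (n2 i)
  have WD : Q ⊓ cmz z y ≤ Cx y := by
    by_contra k
    have := h.L9 le_rfl fun e he => h.ImR k (FT.CA h.toNH aQ (fun i => QA_le h.toNH (aQ i) (B i).1 (aI i)
      (z_Im h.hz h.yN (mem_zpowers z))) he.1 fun i => pp i (DW he))
    have := card_le3' h.hz (inf_le_left.trans inf_le_left : Q ⊓ Cx (a 0) ⊓ Cx (a 1) ≤ Q) (h.le 2 (aQ 2))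
    have := card_le_of_le (show Q ⊓ Cx (a 0) ⊓ Cx (a 1) ⊓ Cx (a 2) ≤ _ from fun p hp => W0 p hp.1.1.1 fun l => by
      fin_cases l
      exacts [hp.1.1.2, hp.1.2, hp.2])
    have := c3 0
    have := c4 0 1
    omega
  exact ⟨a, b, fun i => ⟨aQ i, (B i).1, WD ⟨h.le i (aQ i), aW i ⟨aQ i, mem_Cx.2 rfl⟩⟩, ac i, aI i, (B i).2⟩⟩

theorem τ3 : τ y ^ 3 = 1 := by rw [← h.τ_pow h.yz, h.M.z3, h.τ_one]

theorem zρ (hp : p ∈ zpowers z) : p ∈ Cx (rho r) := (h.inf_X.ge hp).2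

/-- `y` is conjugate to an element of `C(ρ)` -/
theorem reduce : ∃ p ∈ Q, p * y * p⁻¹ ∈ Cx (rho r) := by
  obtain ⟨q, hq, q1, q2, q3⟩ := Xdec h.toNH h.yz h.M.z3
  have zI := z_Im h.hz h.yN
  by_cases t : τ y = 1
  · obtain ⟨a, b, A⟩ := h.basis3 hq q2 q3 t
    obtain ⟨p, hp, w, hw, e⟩ := Im_conj h.hz h.yN (FT.CA h.toNH (fun i => (A i).1)
      (fun i => QA_le h.toNH (A i).1 (A i).2.1 (A i).2.2.2.2.1 (zI (mem_zpowers z))) hq fun i =>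
        (mul_mem_cancel_right (Cx_comm.1 (A i).2.2.1)).1 (Cx_comm.1 (A i).2.2.2.1))
    exact ⟨p, hp, e ▸ mul_mem (h.zρ hw) q2⟩
  obtain ⟨s1, s2, -, s3⟩ := three_orbit _ t h.τ3 0
  have k : ∀ i, Qi i ≤ Qi 0 ⊔ Im z Q y → Qi (τ y i) ≤ Qi 0 ⊔ Im z Q y := fun i e p hp => by
    rw [← h.τa y h.yz] at hp
    have h1 := mem_cj.1 hp
    convert mul_mem (e h1) (mem_sup_right (cm_Im h.hz h.yN (inv_mem (h.le i h1)))) using 1
    group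
  obtain ⟨u, hu, m, hm, rfl⟩ := (mem_sup_of_norm fun a ha m hm => by
    simpa using mul_mem (zI (h.cmt a (h.le 0 ha) m (Im_le h.hz h.yN hm))) hm).1 (h.gen_le (fun i => by
      rcases s3 i with rfl | rfl | rfl
      exacts [le_sup_left, k _ le_sup_left, k _ (k _ le_sup_left)]) hq)
  obtain ⟨p, hp, w, hw, e⟩ := Im_conj h.hz h.yN hm
  have h1 := mul_mem hu (inv_mem (h.ZQi 0 hw))
  have h2 := cj_Q h.toNH (inv_mem hp) h1
  have h3 : p⁻¹ * (u * w⁻¹) * p⁻¹⁻¹ ∈ zpowers z := by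
    refine h.cen 0 _ h2 fun v hv => ?_
    have h4 := le_cent h.toNH s1 (h.cj_mem h.yz h2)
    have h5 := le_cent h.toNH s2 (h.cj_mem h.yz (h.cj_mem h.yz h2))
    rw [← zcj q3 (inv_mem (h.zc hp)), ← conj_pow] at q3
    have e1 : p⁻¹ * (u * m * y) * p⁻¹⁻¹ = p⁻¹ * (u * w⁻¹) * p⁻¹⁻¹ * y := by
      calc _ = p⁻¹ * (u * w⁻¹) * (w * (m * y)) * p := by group
        _ = _ := by rw [← e]; group
    rw [e1] at q3
    generalize p⁻¹ * (u * w⁻¹) * p⁻¹⁻¹ = s at q3 h4 h5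
    have e2 : (s * y) ^ 3 = s * (y * s * y⁻¹ * (y * (y * s * y⁻¹) * y⁻¹)) * y ^ 3 := by
      rw [pow_three, pow_three]; group
    rw [e2, h.M.z3, mul_one] at q3
    exact (mul_mem_cancel_right (mul_mem h4 h5)).1 (z_cent h.toNH q3) v hv
  rw [← zcj h3 (h.zc hp), show p * (p⁻¹ * (u * w⁻¹) * p⁻¹⁻¹) * p⁻¹ = u * w⁻¹ by group] at h3
  refine ⟨p, hp, ?_⟩
  convert mul_mem (inv_mem (h.zρ h3)) q2 using 1
  rw [e]; group

theorem X1 (yρ : y ∈ Cx (rho r)) : τ y = 1 := by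
  by_contra t
  obtain ⟨s1, s2, s3, -⟩ := three_orbit _ t h.τ3 0
  have N : ∀ u ∈ Qi 0, ∃ n ∈ Q ⊓ Cx y, u⁻¹ * n ∈ centralizer (Qi 0 : Set G) ∧
      (∃ p ∈ Q, n = p * y * p⁻¹ * y⁻¹) ∧ (rho r * u * (rho r)⁻¹ = u⁻¹ → rho r * n * (rho r)⁻¹ = n⁻¹) := fun u hu => by
    have h1 := h.cj_mem h.yz hu
    have h2 := h.cj_mem h.yz h1
    have e3 : y * (y * (y * u * y⁻¹) * y⁻¹) * y⁻¹ = u := by
      calc _ = y ^ 3 * u * (y ^ 3)⁻¹ := by rw [pow_three]; group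
        _ = u := by rw [h.M.z3]; group
    have xi : ∀ p, rho r * p * (rho r)⁻¹ = p⁻¹ → rho r * (y * p * y⁻¹) * (rho r)⁻¹ = (y * p * y⁻¹)⁻¹ := fun p e => by
      have e1 := mem_Cx'.1 (Cx_comm.1 yρ)
      calc _ = rho r * y * (rho r)⁻¹ * (rho r * p * (rho r)⁻¹) * (rho r * y * (rho r)⁻¹)⁻¹ := by group
        _ = _ := by rw [e, e1]; group
    have x1 := xi u
    have x2 := xi (y * u * y⁻¹)
    obtain ⟨v, ev⟩ : ∃ v, v = y * u * y⁻¹ := ⟨_, rfl⟩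
    rw [← ev] at h1 h2 e3 x1 x2
    obtain ⟨w, ew⟩ : ∃ w, w = y * v * y⁻¹ := ⟨_, rfl⟩
    rw [← ew] at h2 e3 x2
    have uv : Commute u v := h.cm _ _ s1.symm u hu v h1
    have uw : Commute u w := h.cm _ _ s2.symm u hu w h2
    have vw : Commute v w := h.cm _ _ s3.symm v h1 w h2
    refine ⟨u * (v * w), ⟨mul_mem (h.le _ hu) (mul_mem (h.le _ h1) (h.le _ h2)), Cx_comm.1 (mem_Cx'.2 ?_)⟩, ?_,
      ⟨u⁻¹ * w, mul_mem (inv_mem (h.le _ hu)) (h.le _ h2), ?_⟩, fun e => ?_⟩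
    · calc _ = y * u * y⁻¹ * (y * v * y⁻¹) * (y * w * y⁻¹) := by group
        _ = _ := by rw [← ev, ← ew, e3, (uv.mul_right uw).eq]
    · rw [inv_mul_cancel_left]
      exact mul_mem (le_cent h.toNH s1 h1) (le_cent h.toNH s2 h2)
    · calc _ = u⁻¹ * (u⁻¹ * u ^ 3 * (v * w)) := by rw [pow_three]; group
        _ = u⁻¹ * (u⁻¹ * w * v) := by rw [h.exp u (h.le _ hu), mul_one, vw.eq, mul_assoc]
        _ = u⁻¹ * w * (u⁻¹ * v) := by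
          nth_rw 1 [uw.inv_left.eq]
          group
        _ = u⁻¹ * w * ((y * w * y⁻¹)⁻¹ * (y * u * y⁻¹)) := by rw [e3, ← ev]
        _ = _ := by group
    · calc _ = rho r * u * (rho r)⁻¹ * (rho r * v * (rho r)⁻¹ * (rho r * w * (rho r)⁻¹)) := by group
        _ = (w * v * u)⁻¹ := by rw [e, x1 e, x2 (x1 e)]; group
        _ = _ := by rw [← vw.eq, (uv.mul_right uw).eq]
  obtain ⟨a, ha, an⟩ := SetLike.not_le_iff_exists.1 (h.not_le 0)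
  obtain ⟨b, hb, bn⟩ : ∃ b ∈ Qi 0, b ∉ Cx a := by
    by_contra k
    push Not at k
    exact an (h.cen 0 a ha fun y hy => mem_Cx.1 (k y hy))
  obtain ⟨m, m1, m2, -⟩ := N a ha
  obtain ⟨n, n1, n2, -⟩ := N b hb
  refine h.chain (L := Cx a) le_rfl (fun e he eR => ?_) ⟨h.zD, Cx_comm.1 (h.Qz 0 ha)⟩
    ⟨m1, (mul_mem_cancel_left (inv_mem (mem_Cx.2 rfl))).1 (mem_Cx.2 (m2 a ha).symm)⟩
    (fun e => an (h.cen 0 a ha (inv_mem_iff.1 ((mul_mem_cancel_right (z_cent h.toNH e)).1 m2)))) n1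
    fun e => bn (inv_mem_iff.1 ((mul_mem_cancel_right e).1 (mem_Cx.2 (n2 a ha).symm)))
  obtain ⟨u, hu, w, hw, c1, -, e1⟩ := split h.toNH 0 he.1
  obtain ⟨v, hv, e2⟩ := rp h.z3 h.rho_sq.2 (h.Qz 0 hu) (h.rho_inv (h.le 0 hu))
  obtain ⟨k, k1, k2, ⟨p, hp, k3⟩, k4⟩ := N _ (mul_mem (h.ZQi 0 hv) hu)
  have k5 := mul_mem he (inv_mem k1)
  have k6 : e * k⁻¹ ∈ zpowers z := orbit (i := 0) h.toNH h.yz t h.τ3 k5.1
    (by rw [cmt_of (Cx_comm.1 k5.2)]; exact one_mem _) (by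
      have k7 := mul_mem c1 (inv_mem k2)
      convert mul_mem k7 (inv_mem (z_cent h.toNH hv)) using 1
      calc _ = u * (w * ((v * u)⁻¹ * k)⁻¹) * u⁻¹ * v⁻¹ := by rw [e1]; group
        _ = _ := by rw [k7 u hu]; group)
  have k8 := un h.z3 h.rho_sq.2 (h.zc k1.1) k6 (k4 e2) (by rw [inv_mul_cancel_right]; exact h.invE yρ he.1 eR)
  rw [mul_inv_eq_one] at k8
  rw [k8, k3] at eR ⊢
  exact h.star hp eR

theorem X2 (yρ : y ∈ Cx (rho r)) :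
    (∃ a ∈ Cx y, a ∉ R ∧ a ^ 3 = 1 ∧ rho r * a * (rho r)⁻¹ = a⁻¹) ∧
      ∃ k l, k ≠ l ∧ ∃ u ∈ Qi k, u ∉ zpowers z ∧ u ∈ R ∧ ∃ v ∈ Qi l, v ∉ zpowers z ∧ v ∈ R := by
  have t := h.X1 yρ
  obtain ⟨a, b, A⟩ := h.basis3 (one_mem _) (by rwa [one_mul]) (by rw [one_mul, h.M.z3]; exact one_mem _) t
  simp only [one_mul] at A
  have aQ := fun i => (A i).1
  have an := fun i => (A i).2.1
  have aD : ∀ i, a i ∈ Q ⊓ Cx y := fun i => ⟨h.le i (aQ i), (A i).2.2.1⟩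
  have ra := fun i => (A i).2.2.2.2.2.1
  have bQ := fun i => (A i).2.2.2.2.2.2.1
  have two : ∀ i j, i ≠ j → a i ∉ R → a j ∈ R := fun i j ij hi => by
    by_contra hj
    obtain ⟨m, im, jm⟩ := F4x.third i j
    refine h.chain (K := Q ⊓ Cx y ⊓ Cx (r m)) (L := Qi i) inf_le_left (fun e he eR => ?_)
      ⟨⟨h.zD, Cx_comm.1 (h.rz m)⟩, h.zQ i⟩ ⟨⟨aD i, h.rj m i im.symm (aQ i)⟩, aQ i⟩ (an i)
      ⟨aD j, h.rj m j jm.symm (aQ j)⟩ fun e => an j (h.inf_le ij e (aQ j))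
    have k : ∀ l, a l ∉ R → e ∈ Cx (r l) := fun l hl => Cx_comm.1 (cmt_one (eq_one_of (h.exp _ (aD l).1)
      (cmt_symm (RA h.toNH (aQ l) (an l) (ra l) ⟨he.1.1, mem_Cx.2 (h.Dc e he.1 _ (aD l))⟩).2)
      (mul_mem (conj_mem_of_mem_normalizer (h.M.nQ (Cx_comm.1 (X_cent_r h.toNH h.yz yρ t l))) eR) (inv_mem eR)) hl))
    refine eq_one_of h.z3 (h.inf_X.le ⟨he.1.1, Cx_comm.1 (prod_mem fun l => Cx_comm.1 ?_)⟩) eR h.zR
    rcases (by decide : ∀ i j m l : Fin 3, i ≠ j → i ≠ m → j ≠ m → l = i ∨ l = j ∨ l = m) i j m l ij im jm with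
      rfl | rfl | rfl
    exacts [k _ hi, k _ hj, he.2]
  obtain ⟨m, hm⟩ : ∃ m, a m ∉ R := by
    by_contra k
    push Not at k
    obtain ⟨γ, hγ⟩ : ∃ γ : Fin 3 → G, ∀ i, γ i = b i * y * (b i)⁻¹ * y⁻¹ := ⟨_, fun _ => rfl⟩
    have B : ∀ i, γ i = a i * z⁻¹ ∨ γ i = (a i * z⁻¹)⁻¹ := fun i => hγ i ▸ (A i).2.2.2.2.2.2.2
    have γQ : ∀ i, γ i ∈ Qi i := fun i => by
      have := mul_mem (aQ i) (inv_mem (h.zQ i))
      rcases B i with e | e <;> rw [e]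
      exacts [this, inv_mem this]
    have γn : ∀ i, γ i ∉ centralizer (Qi i : Set G) := fun i e => by
      have := h.cen i _ (γQ i) e
      refine an i ((mul_mem_cancel_right (inv_mem (mem_zpowers z))).1 ?_)
      rcases B i with e | e <;> rw [e] at this
      exacts [this, inv_mem_iff.1 this]
    have c : ∀ i, γ i * z ∈ R ∨ γ i * z⁻¹ ∈ R := fun i => (B i).imp (fun e => by simpa [e] using k i) fun e => by
      rw [e, mul_inv_rev, inv_inv, mem_Cx'.1 (Cx_comm.1 (inv_mem (h.zc (aD i).1)))]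
      exact inv_mem (k i)
    have p2 : ∀ i j, i ≠ j → γ j * γ i = b i * b j * y * (b i * b j)⁻¹ * y⁻¹ := fun i j ij => by
      calc _ = b i * γ j * (b i)⁻¹ * γ i := by rw [h.cm i j ij _ (bQ i) _ (γQ j), mul_inv_cancel_right]
        _ = _ := by rw [hγ, hγ]; group
    have cz : ∀ i, Commute (γ i) z := fun i => mem_Cx.1 (h.Qz i (γQ i))
    have n2 : ∀ i j, γ j * z ∈ R → γ i * z⁻¹ ∈ R → False := fun i j e1 e2 => by
      have ij : i ≠ j := fun e => h.zR (of_sq h.z3 (by simpa [e, mul_assoc] using mul_mem (inv_mem e2) e1))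
      have := mul_mem e1 e2
      rw [mul_assoc, ← mul_assoc z, ← (cz i).eq, mul_inv_cancel_right, p2 i j ij] at this
      have := h.star (mul_mem (h.le i (bQ i)) (h.le j (bQ j))) this
      rw [← p2 i j ij, mul_eq_one_iff_eq_inv] at this
      exact γn j (this ▸ inv_mem (le_cent h.toNH ij (γQ i)))
    have n3 : γ 2 * (γ 1 * γ 0) ∉ R := fun e => by
      have e1 : γ 2 * (γ 1 * γ 0) = b 0 * b 1 * b 2 * y * (b 0 * b 1 * b 2)⁻¹ * y⁻¹ := by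
        calc _ = b 0 * b 1 * γ 2 * (b 0 * b 1)⁻¹ * (γ 1 * γ 0) := by
              rw [← mul_mem (le_cent h.toNH (by decide) (bQ 0)) (le_cent h.toNH (by decide) (bQ 1)) _ (γQ 2),
                mul_inv_cancel_right]
          _ = _ := by rw [p2 0 1 (by decide), hγ]; group
      have := h.star (mul_mem (mul_mem (h.le 0 (bQ 0)) (h.le 1 (bQ 1))) (h.le 2 (bQ 2))) (e1 ▸ e)
      rw [← e1, mul_eq_one_iff_eq_inv] at this
      exact γn 2 (this ▸ inv_mem (mul_mem (le_cent h.toNH (by decide) (γQ 1)) (le_cent h.toNH (by decide) (γQ 0))))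
    have n4 : ∀ w ∈ zpowers z, ¬ ∀ i, γ i * w ∈ R := fun w hw e => n3 (by
      have k : ∀ i u, w * (γ i * u) = γ i * (w * u) := fun i u => by
        rw [← mul_assoc, ← Es.zc hw (h.Qz i (γQ i)), mul_assoc]
      convert mul_mem (e 2) (mul_mem (e 1) (e 0)) using 1
      simp only [mul_assoc, k]
      rw [← pow_three, zcube h.z3 hw, mul_one])
    rcases c 0 with e | e
    · exact n4 z (mem_zpowers z) fun i => (c i).resolve_right (n2 i 0 e)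
    · exact n4 z⁻¹ (inv_mem (mem_zpowers z)) fun i => (c i).resolve_left fun e' => n2 0 i e' e
  obtain ⟨i, j, ij, im, jm, -⟩ := others m
  refine ⟨⟨a m, (aD m).2, hm, h.exp _ (aD m).1, ?_⟩, i, j, ij, a i, aQ i, an i, two m i im.symm hm, a j, aQ j, an j,
    two m j jm.symm hm⟩
  obtain ⟨u, hu, v, hv, e⟩ := prod_split (K := Cx (a m)) r m fun l hl => Cx_comm.1 (h.rj l m hl (aQ m))
  calc _ = u * (r m * (v * a m * v⁻¹) * (r m)⁻¹) * u⁻¹ := by rw [rho, e]; group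
    _ = (u * a m * u⁻¹)⁻¹ := by rw [mem_Cx'.1 hv, ra]; group
    _ = _ := by rw [mem_Cx'.1 hu]

end PR

theorem step (h : FH z Q P Qi r π τ) (wc : ∀ g, g * z * g⁻¹ ∈ Q → g * z * g⁻¹ ∈ zpowers z) {g : G}
    (h1 : g * z * g⁻¹ ∈ Cx z) (h2 : g * z * g⁻¹ ∉ zpowers z) : ∃ p ∈ Q, p * g * z * (p * g)⁻¹ ∈ Cx z ∧
      p * g * z * (p * g)⁻¹ ∉ zpowers z ∧ p * g * z * (p * g)⁻¹ ∈ Cx (rho r) := by
  obtain ⟨p, hp, e⟩ := (mkPR h wc h1 h2).reduce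
  refine ⟨p, hp, ?_⟩
  rw [show p * g * z * (p * g)⁻¹ = p * (g * z * g⁻¹) * p⁻¹ by group]
  refine ⟨mul_mem (mul_mem (h.zc hp) h1) (inv_mem (h.zc hp)), fun k => h2 ?_, e⟩
  exact (conj_zp (g := p)).1 (by rwa [mem_Cx'.1 (h.zc hp)])

end F2x

open CfsgLib.Sect Es NBx FT F2x

theorem FH.exists_in_Q (h : FH z Q P Qi r π τ) (nw : ∃ g, g * z * g⁻¹ ∈ Cx z ∧ g * z * g⁻¹ ∉ zpowers z) :
    ∃ g, g * z * g⁻¹ ∈ Q ∧ g * z * g⁻¹ ∉ zpowers z := by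
  by_contra wc
  push Not at wc
  obtain ⟨g, h1, h2, h3⟩ : ∃ g, g * z * g⁻¹ ∈ Cx z ∧ g * z * g⁻¹ ∉ zpowers z ∧ g * z * g⁻¹ ∈ Cx (rho r) := by
    obtain ⟨g, h1, h2⟩ := nw
    obtain ⟨p, -, e⟩ := step h wc h1 h2
    exact ⟨_, e⟩
  have H := mkPR h wc h1 h2
  obtain ⟨a, a1, a2, a3, a4⟩ := (H.X2 h3).1
  have back : ∀ {u}, u ∈ Cx (g * z * g⁻¹) → g⁻¹ * u * g ∈ Cx z := fun e => by
    simpa [mul_assoc] using (conj_mem_Cx (g := g⁻¹)).2 e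
  have tz := back (Cx_comm.1 h3)
  have ti : ∀ {u}, rho r * u * (rho r)⁻¹ = u⁻¹ →
      g⁻¹ * rho r * g * (g⁻¹ * u * g) * (g⁻¹ * rho r * g)⁻¹ = (g⁻¹ * u * g)⁻¹ := fun {u} e => by
    calc _ = g⁻¹ * (rho r * u * (rho r)⁻¹) * g := by group
      _ = _ := by rw [e]; group
  refine h.τ_ne tz ?_ (back a1) (by simpa using conj3 a3 g⁻¹) (fun e => a2 (mem_cj.2 e)) (ti a4) ?_
  · calc _ = g⁻¹ * (rho r * rho r) * g := by group
      _ = 1 := by rw [h.rho_sq.1]; group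
  obtain ⟨p, hp, k1, k2, k3⟩ := step h wc (g := g⁻¹) (by simpa using back (Cx_comm.1 h1))
    fun e => H.zR (mem_cj.2 (by simpa using h.hz.ZP e))
  obtain ⟨k, l, kl, u, u1, u2, u3, v, v1, v2, v3⟩ := ((mkPR h wc k1 k2).X2 k3).2
  have f : ∀ k, ∀ u ∈ Qi k, u ∉ zpowers z → u ∈ cj (p * g⁻¹) Q → τ (g⁻¹ * rho r * g) k = k := fun k u u1 u2 u3 => by
    by_contra e
    have w1 := cj_Q h.toNH (inv_mem hp) u1
    have := ti (H.invE h3 (e := g * (p⁻¹ * u * p⁻¹⁻¹) * g⁻¹) (by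
      convert mem_cj.1 u3 using 1
      group) (conj_mem_cj.2 (h.le k w1)))
    rw [show g⁻¹ * (g * (p⁻¹ * u * p⁻¹⁻¹) * g⁻¹) * g = p⁻¹ * u * p⁻¹⁻¹ by group] at this
    have w2 := inv_mem_iff.1 (h.inf_le e (this ▸ h.cj_mem tz w1) (inv_mem w1))
    exact u2 ((conj_zp (g := p⁻¹)).1 (by rwa [mem_Cx'.1 (inv_mem (h.zc hp))]))
  exact fix_two _ k l kl (f k u u1 u2 u3) (f l v v1 v2 v3)

end CfsgLib.Rec3B
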