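import Cfsg.Agent.Lib.Rec3B.F4

/-! The Sylow subgroup and its Thompson subgroup (plans/REC3B.md, F3). -/

set_option autoImplicit false
set_option maxRecDepth 100000
set_option maxHeartbeats 400000
set_option linter.unusedSectionVars false
set_option linter.unusedVariables false

namespace CfsgLib.Rec3B

open Subgroup Cfsg CfsgLib.Tech CfsgLib.PComp CfsgLib.W2 CfsgLib.Rec3 W4
open CfsgLib.U43 (SL)

variable {G : Type*} [Group G] [Finite G]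
variable {z x σ : G} {Q P : Subgroup G} {Qi : Fin 3 → Subgroup G} {r a b : Fin 3 → G} {π : Fin 3 → G → SL}
  {τ : G → Equiv.Perm (Fin 3)}

namespace F3x

open CfsgLib.Sect Es NBx FT FBx

theorem three_cj (h : FH z Q P Qi r π τ) (g : G) {D : Subgroup G} (hD : D ≤ Cx (g * z * g⁻¹)) (h3 : IsPGroup 3 D) :
    (cj g Q).relIndex D ≤ 9 ∧ ∀ u ∈ D, ∀ v ∈ D, u * v * u⁻¹ * v⁻¹ ∈ cj g Q := by
  obtain ⟨h1, h2⟩ := h.three (D := cj g⁻¹ D) ((cj_mono g⁻¹ (hD.trans (cj_Cx g z).ge)).trans (cj_inv_cj g _).le)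
    (isPGroup_cj _ h3)
  refine ⟨by rwa [← relIndex_cj g, cj_cj_inv] at h1, fun u hu v hv => mem_cj.2 ?_⟩
  convert h2 _ (conj_mem_cj.2 hu) _ (conj_mem_cj.2 hv) using 1
  group

theorem eq3 {K D : Subgroup G} (hK : K ≤ D) (hD : IsPGroup 3 D) (h3 : K.relIndex D ≤ 3) (hn : ¬ D ≤ K) :
    Nat.card D = 3 * Nat.card K := by
  haveI : Fact (Nat.Prime 3) := ⟨by norm_num⟩
  have h2 := card_eq_relIndex' hK
  have h3 := two_le_relIndex hn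
  obtain ⟨k, hk⟩ := IsPGroup.iff_card.1 hD
  have h4 : K.relIndex D ≠ 2 := fun e => by
    have : 2 ∣ 3 ^ k := by rw [← hk, h2, e]; simp
    exact absurd (Nat.prime_two.dvd_of_dvd_pow this) (by decide)
  rw [h2, show K.relIndex D = 3 by omega, mul_comm]

theorem nine_SL : ¬ 9 ∣ Nat.card SL := by rw [show Nat.card SL = 24 from Nat.card_fin 24]; decide

theorem nine_S3 : ¬ 9 ∣ Nat.card (Equiv.Perm (Fin 3)) := by
  rw [Nat.card_perm, Nat.card_fin]; decide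

/-- coordinates in a factor -/
structure Bas (z x : G) (K : Subgroup G) (t a b : G) : Prop where
  gen : closure {a, b} = K
  ta : t * a * t⁻¹ = a⁻¹
  tb : t * b * t⁻¹ = b⁻¹
  ab : a * b = z * (b * a)
  xa : x * a = a * x
  xb : x * b * x⁻¹ = b * a * z⁻¹

namespace Bas

variable {K : Subgroup G} {t a b s : G} (h : Bas z x K t a b)
include h

theorem aK : a ∈ K := h.gen ▸ subset_closure (by simp)

theorem bK : b ∈ K := h.gen ▸ subset_closure (by simp)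

theorem ab_n (z1 : z ≠ 1) : a ∉ Cx b := fun e => z1 (by
  have := h.ab
  rw [mem_Cx.1 e] at this
  simpa using this.symm)

theorem a_n (z1 : z ≠ 1) (hK : K ≤ Cx z) : a ∉ zpowers z := fun e =>
  h.ab_n z1 (mem_Cx.2 (Es.zc e (hK h.bK)).symm)

theorem a_Im (hz : Hz Q z) (hK : K ≤ Q) (n : x ∈ normalizer (Q : Set G)) : a ∈ Im z Q x := by
  convert mul_mem (cm_Im hz n (inv_mem (hK h.bK))) (z_Im hz n (mem_zpowers z)) using 1
  calc _ = b⁻¹ * (b * a * z⁻¹) * z := by group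
    _ = _ := by rw [← h.xb]; group

theorem conj (hK : K ≤ Cx z) (xz : x ∈ Cx z) (sz : s ∈ Cx z) (e : s⁻¹ * x * s * x⁻¹ ∈ zpowers z) :
    Bas z x (cj s K) (s * t * s⁻¹) (s * a * s⁻¹) (s * b * s⁻¹) := by
  have k : ∀ y ∈ K, x * (s * y * s⁻¹) * x⁻¹ = s * (x * y * x⁻¹) * s⁻¹ := fun y hy => by
    calc _ = s * (s⁻¹ * x * s * x⁻¹ * (x * y * x⁻¹) * (s⁻¹ * x * s * x⁻¹)⁻¹) * s⁻¹ := by group
      _ = _ := by rw [← Es.zc e (mul_mem (mul_mem xz (hK hy)) (inv_mem xz)), mul_inv_cancel_right]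
  refine ⟨?_, ?_, ?_, ?_, ?_, ?_⟩
  · rw [← h.gen, cj, MonoidHom.map_closure, Set.image_pair]; rfl
  · calc _ = s * (t * a * t⁻¹) * s⁻¹ := by group
      _ = _ := by rw [h.ta]; group
  · calc _ = s * (t * b * t⁻¹) * s⁻¹ := by group
      _ = _ := by rw [h.tb]; group
  · calc _ = s * (a * b) * s⁻¹ := by group
      _ = s * z * s⁻¹ * (s * b * s⁻¹ * (s * a * s⁻¹)) := by rw [h.ab]; group
      _ = _ := by rw [mem_Cx'.1 sz]
  · rw [← mul_inv_eq_iff_eq_mul, k a h.aK, h.xa, mul_inv_cancel_right]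
  · calc _ = s * b * s⁻¹ * (s * a * s⁻¹) * (s * z * s⁻¹)⁻¹ := by rw [k b h.bK, h.xb]; group
      _ = _ := by rw [mem_Cx'.1 sz]

end Bas

/-- the Sylow subgroup -/
structure ST (z : G) (Q P : Subgroup G) (Qi : Fin 3 → Subgroup G) (r : Fin 3 → G) (π : Fin 3 → G → SL)
    (τ : G → Equiv.Perm (Fin 3)) (T : Subgroup G) (x σ y : G) : Prop extends FH z Q P Qi r π τ where
  T3 : IsPGroup 3 T
  QT : Q ≤ T
  Ty : T ≤ cmz z y
  T9 : 9 ≤ Q.relIndex T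
  xT : x ∈ T
  σT : σ ∈ T
  xρ : x ∈ Cx (rho r)
  σρ : σ ∈ Cx (rho r)
  x3 : x ^ 3 ∈ zpowers z
  τx : τ x = 1
  xQ : x ∉ Q
  σ1 : τ σ ≠ 1
  yQ : y ∈ Q
  yn : y ∉ zpowers z
  yc : ∃ g, g * z * g⁻¹ = y

theorem exists_ST (h : FH z Q P Qi r π τ) {g : G} (gQ : g * z * g⁻¹ ∈ Q) (gn : g * z * g⁻¹ ∉ zpowers z) :
    ∃ T x σ, ST z Q P Qi r π τ T x σ (g * z * g⁻¹) := by
  have M := (mq h.toNH).conj g
  have zn : z ∉ zpowers (g * z * g⁻¹) := fun k => gn (mem_of_ne M.z3 k (mem_zpowers z) h.z1)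
  have zQ : z ∈ cj g Q := by
    by_contra k
    have c1 := h.card_cent gQ gn
    have c2 := h.abel_le (inf_le_left : Q ⊓ Cx (g * z * g⁻¹) ≤ Q) fun u hu v hv => mem_Cx.1 (cmt_one
      (eq_one_of h.z3 (h.cmt u hu.1 v hv.1) ((three_cj h g inf_le_right (h.hz.two.to_le inf_le_left)).2 u hu v hv) k))
    omega
  have cU := M.cc z zQ zn
  obtain ⟨U, hU⟩ : ∃ U, U = cj g Q ⊓ Cx z := ⟨_, rfl⟩
  rw [← hU] at cU
  have U1 : U ≤ cj g Q := hU.le.trans inf_le_left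
  have U2 : U ≤ Cx z := hU.le.trans inf_le_right
  have U3 := M.two.to_le U1
  have Ec : ∀ u ∈ Q ⊓ U, ∀ v ∈ Q ⊓ U, u * v = v * u := fun u hu v hv => mem_Cx.1 (cmt_one
    (eq_one_of h.z3 (h.cmt u hu.1 v hv.1) (M.cmt u (U1 hu.2) v (U1 hv.2)) zn))
  have c1 := h.abel_le inf_le_left Ec
  have c2 := (h.three U2 U3).1
  have c3 := card_eq_relIndex Q U
  have c4 : 3 ^ (3 + 1) ≤ Nat.card (Q ⊓ U : Subgroup G) := by
    have := Nat.mul_le_mul_left (Nat.card (Q ⊓ U : Subgroup G)) c2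
    omega
  have c5 : 9 ≤ Q.relIndex U := by
    have := Nat.mul_le_mul_right (Q.relIndex U) c1
    omega
  have big : ∀ K : Subgroup G, K.relIndex U ≤ 3 → ¬ K ⊓ U ≤ Q ⊓ U := fun K k1 k2 => by
    have := Nat.mul_le_mul ((card_le_of_le k2).trans c1) k1
    have := card_eq_relIndex K U
    omega
  obtain ⟨s, sU, s1⟩ : ∃ s ∈ U, τ s ≠ 1 := by
    by_contra k
    push Not at k
    obtain ⟨i, hi⟩ : ∃ i, g * z * g⁻¹ ∉ centralizer (Qi i : Set G) := by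
      by_contra k
      push Not at k
      exact gn (cent_all h.toNH gQ k)
    refine big _ (idx3 (h.πh i) nine_SL (fun u hu => h.H0_le i (h.mem_H0.2 ⟨U2 hu, k u hu⟩)) U3) ?_
    rintro _ ⟨⟨u, hu, rfl⟩, uU⟩
    refine M.max (inf_le_right.trans U1) Ec c4 (U1 uU) fun e he => Cx_comm.1 (mem_Cx'.2 ?_)
    have := eq_one_of M.z3 (M.cmt _ (inv_mem (U1 he.2)) _ (U1 uU)) (fun p hp => ?_) hi
    · rw [← mul_right_inj e⁻¹, inv_mul_cancel, ← this]; group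
    · have := perp h.hz (U2 uU) (h.le i hp) he.1 (conj_mem_of_mem_normalizer (h.norm_Q (U2 uU)) he.1)
        ((h.πk i u (U2 uU) (h.mem_St.1 u.2).2).1 hu p hp)
      rw [inv_inv, mul_assoc e⁻¹, mul_assoc e⁻¹]
      exact (mem_Cx.1 this).symm
  obtain ⟨v, hv, vQ⟩ := SetLike.not_le_iff_exists.1 (big _ (idx3 h.τh nine_S3 U2 U3))
  obtain ⟨q, hq, q1, q2, q3⟩ := Xdec h.toNH (U2 hv.2) (M.exp v (U1 hv.2))
  obtain ⟨p, hp, p1, p2, p3⟩ := Xdec h.toNH (U2 sU) (M.exp s (U1 sU))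
  refine ⟨Q ⊔ U, q * v, p * s, h, h.hz.two.to_sup_of_normal_left' U3 fun u hu => h.norm_Q (U2 hu), le_sup_left,
    sup_le (fun u hu => ⟨h.zc hu, h.cmt u hu _ gQ⟩) fun u hu => ⟨U2 hu, ?_⟩,
    c5.trans (relIndex_mono_right Q le_sup_right), mul_mem_sup hq hv.2, mul_mem_sup hp sU, q2, p2, q3,
    ?_, fun k => vQ ⟨(mul_mem_cancel_left hq).1 k, hv.2⟩, ?_, gQ, gn, g, rfl⟩
  · rw [cmt_of (M.zc (U1 hu))]; exact one_mem _
  · rw [τ_mul_Q h.toNH hq (U2 hv.2)]; exact (h.mem_H0.1 hv.1).2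
  · rwa [τ_mul_Q h.toNH hp (U2 sU)]

namespace ST

variable {T B : Subgroup G} {y k v : G} {i : Fin 3} (h : ST z Q P Qi r π τ T x σ y)
include h

theorem Tz : T ≤ Cx z := fun _ e => (h.Ty e).1

theorem inv : ST z Q P Qi r π τ T x⁻¹ σ y :=
  { h with
    xT := inv_mem h.xT
    xρ := inv_mem h.xρ
    x3 := inv_pow x 3 ▸ inv_mem h.x3
    τx := by rw [h.τ_inv (h.Tz h.xT), h.τx, inv_one]
    xQ := fun e => h.xQ (inv_mem_iff.1 e) }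

theorem τ3 (hk : k ∈ T) : τ k ^ 3 = 1 := by
  obtain ⟨m, e⟩ := isPGroup_iff_mem.1 h.T3 k hk
  exact cube (k := m) (by decide +kernel) (by rw [← h.τ_pow (h.Tz hk), e, h.τ_one])

theorem π3 (hk : k ∈ T) (e : τ k = 1) (i : Fin 3) : π i k ^ 3 = 1 := by
  obtain ⟨m, e'⟩ := isPGroup_iff_mem.1 h.T3 k hk
  exact cube (k := m) (by decide +kernel) (by rw [← h.π_pow (h.H0_le i (h.mem_H0.2 ⟨h.Tz hk, e⟩)), e', h.π_one])

omit h in
theorem one34 {s : SL} (h3 : s ^ 3 = 1) (h4 : s ^ 4 = 1) : s = 1 := by rwa [pow_succ, h3, one_mul] at h4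

theorem memQ (hk : k ∈ T) (e : τ k = 1) (e' : π i k ^ 4 = 1) : k ∈ Q :=
  h.mem_Q (h.Tz hk) e fun j => one34 (h.π3 hk e j) (h.cyc_a (h.Tz h.σT) h.σ1 (h.τ3 h.σT) (h.Tz hk) e e')

theorem πx (i : Fin 3) : π i x ^ 4 ≠ 1 := fun e => h.xQ (h.memQ h.xT h.τx e)

theorem idxQ (hB : B ≤ T) (h0 : B ≤ h.H0) : Q.relIndex B ≤ 3 := by
  refine le_trans ?_ (idx3 (h.πh 0) nine_SL (h0.trans (h.H0_le 0)) (h.T3.to_le hB))
  rw [← inf_relIndex_right (Subgroup.map _ _)]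
  refine relIndex_anti_left ?_ _
  rintro _ ⟨⟨u, hu, rfl⟩, uB⟩
  exact h.memQ (i := 0) (hB uB) (h.mem_H0.1 (h0 uB)).2 ((congrArg (· ^ 4) (show π 0 u = 1 from hu)).trans (one_pow 4))

theorem syl : IsSylowIn 3 T ⊤ := by
  haveI : Fact (Nat.Prime 3) := ⟨by norm_num⟩
  refine h.sylow (isSylowIn_of_maximal h.T3 h.Tz fun R h3 TR hR => (eq_of_le_of_card_ge TR ?_).ge)
  rw [card_eq_relIndex' h.QT, card_eq_relIndex' (h.QT.trans TR)]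
  exact Nat.mul_le_mul_left _ ((h.three hR h3).1.trans h.T9)

theorem xr (i : Fin 3) : x ∈ Cx (r i) := X_cent_r h.toNH (h.Tz h.xT) h.xρ h.τx i

theorem bas0 : (∃ a b, Bas z x (Qi 0) (r 0) a b) ∨ ∃ a b, Bas z x⁻¹ (Qi 0) (r 0) a b := by
  obtain ⟨a, b, h1, h2, h3, h4, h5, h6 | h6⟩ := h.basis (h.Tz h.xT) (by rw [h.τx]; rfl) (h.xr 0) h.x3
    fun e => h.πx 0 (by rw [e, one_pow])
  · exact Or.inl ⟨a, b, h1, h2, h3, h4, h5, h6⟩
  · exact Or.inr ⟨a, b, h1, h2, h3, h4, Commute.inv_left h5, by rwa [inv_inv]⟩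

theorem bas (h0 : ∃ a b, Bas z x (Qi 0) (r 0) a b) (i : Fin 3) :
    ∃ a b, Bas z x (Qi i) (r i) a b ∧ a⁻¹ * y ∈ centralizer (Qi i : Set G) := by
  have xz := h.Tz h.xT
  have σz := h.Tz h.σT
  have k : ∀ i, (∃ a b, Bas z x (Qi i) (r i) a b) → ∃ a b, Bas z x (Qi (τ σ i)) (r (τ σ i)) a b := by
    rintro i ⟨a, b, e⟩
    rw [← h.τa σ σz, ← h.X_r σz h.σρ]
    refine ⟨_, _, e.conj (h.Qz i) xz σz (h.inf_X.le (mem_inf.2 ⟨?_, ?_⟩))⟩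
    · simpa using (h.three h.Tz h.T3).2 _ (inv_mem h.σT) _ h.xT
    · exact mul_mem (mul_mem (mul_mem (inv_mem h.σρ) h.xρ) h.σρ) (inv_mem h.xρ)
  obtain ⟨a, b, e⟩ : ∃ a b, Bas z x (Qi i) (r i) a b := by
    rcases (three_orbit _ h.σ1 (h.τ3 h.σT) 0).2.2.2 i with rfl | rfl | rfl
    exacts [h0, k _ h0, k _ (k _ h0)]
  obtain ⟨u, hu, w, hw, c1, c2, e'⟩ := split h.toNH i h.yQ
  have ya : y ∈ Cx a := Cx_comm.1 (Im_perp h.hz (h.norm_Q xz) xz h.yQ (h.Ty h.xT).2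
    (e.a_Im h.hz (h.le i) (h.norm_Q xz)))
  rw [e', mul_mem_cancel_right (mem_Cx.2 (c1 a e.aK).symm)] at ya
  obtain ⟨s, hs, v, hv, rfl⟩ := QA h.toNH e.aK (e.a_n h.z1 (h.Qz i)) hu ya
  have c3 := mul_mem (z_cent h.toNH hv) c1
  rcases three_cases (h.exp a (h.le i e.aK)) hs with rfl | rfl | rfl
  · refine absurd (orbit h.toNH σz h.σ1 (h.τ3 h.σT) h.yQ (h.Ty h.σT).2 (i := i) ?_) h.yn
    rwa [e', one_mul]
  · exact ⟨_, b, e, by rwa [e', mul_assoc, inv_mul_cancel_left]⟩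
  · have := e.conj (h.Qz i) xz (h.rz i) (by
      rw [mul_assoc _ x, mem_Cx.1 (h.xr i), inv_mul_cancel_left, mul_inv_cancel]; exact one_mem _)
    rw [h.τa _ (h.rz i), h.τ_r, mul_inv_cancel_right, e.ta] at this
    exact ⟨_, _, this, by rwa [e', mul_assoc, inv_mul_cancel_left]⟩

theorem D3 : Nat.card (T ⊓ h.H0 : Subgroup G) = 3 * Nat.card Q :=
  eq3 (le_inf h.QT fun _ => h.Q_H0) (h.T3.to_le inf_le_left) (h.idxQ inf_le_left inf_le_right) fun e =>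
    h.xQ (e ⟨h.xT, h.mem_H0.2 ⟨h.Tz h.xT, h.τx⟩⟩)

section

open F4x (J_le aJ xJ zJ)

variable (hb : ∀ i, Bas z x (Qi i) (r i) (a i) (b i))
include hb

theorem a_n (i : Fin 3) : a i ∉ zpowers z := (hb i).a_n h.z1 (h.Qz i)

theorem aa (i j : Fin 3) : a i ∈ Cx (a j) := by
  by_cases e : i = j
  · rw [e]; exact mem_Cx.2 rfl
  · exact mem_Cx.2 (h.cm i j e _ (hb i).aK _ (hb j).aK)

theorem JT : J5 z x a ≤ T := J_le.2 ⟨fun i => h.QT (h.le i (hb i).aK), h.xT, h.QT h.z_mem⟩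

theorem Ja (i : Fin 3) : J5 z x a ≤ Cx (a i) :=
  J_le.2 ⟨fun j => h.aa hb j i, mem_Cx.2 (hb i).xa, Cx_comm.1 (h.Qz i (hb i).aK)⟩

theorem Jc (hk : k ∈ J5 z x a) : J5 z x a ≤ Cx k :=
  J_le.2 ⟨fun i => Cx_comm.1 (h.Ja hb i hk), Cx_comm.1 ((J_le (K := Cx x)).2
    ⟨fun i => mem_Cx.2 (hb i).xa.symm, mem_Cx.2 rfl, Cx_comm.1 (h.Tz h.xT)⟩ hk), Cx_comm.1 (h.Tz (h.JT hb hk))⟩

theorem cQ (hk : k ∈ Q) (e : ∀ i, k ∈ Cx (a i)) : k ∈ J5 z x a :=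
  FT.CA h.toNH (fun i => (hb i).aK) (fun i => QA_le h.toNH (hb i).aK (h.a_n hb i) (aJ i) zJ) hk e

theorem cA (hk : k ∈ Cx z) (e : ∀ i, a i * k = k * a i) : k ∈ J5 z x a := by
  have c : ∀ {k}, k ∈ Cx z → (∀ i, k ∈ Cx (a i)) → τ k = 1 ∧ ∀ i, π i k ^ 3 = 1 := fun {k} hk e => by
    have := fun i => h.π_cube hk (hb i).aK (h.a_n hb i) (by rw [cmt_of (e i)]; exact one_mem _)
    exact ⟨Equiv.ext fun i => (this i).1, fun i => (this i).2⟩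
  have e1 : ∀ i, k ∈ Cx (a i) := fun i => mem_Cx.2 (e i).symm
  obtain ⟨m, hm⟩ := h.cyc_c (h.Tz h.σT) h.σ1 (h.τ3 h.σT) (h.Tz h.xT) h.τx (h.πx 0) hk (c hk e1).1
  have e2 : ∀ i, k * x ^ m ∈ Cx (a i) := fun i => mul_mem (e1 i) (pow_mem (h.Ja hb i xJ) m)
  have e3 := mul_mem hk (pow_mem (h.Tz h.xT) m)
  refine (mul_mem_cancel_right (pow_mem xJ m)).1 (h.cQ hb (h.mem_Q e3 (c e3 e2).1 fun i =>
    one34 ((c e3 e2).2 i) ?_) e2)
  obtain ⟨p, hp, q, hq, e⟩ := h.split hm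
  rw [e, h.π_mul (h.H0_le i (h.P_H0 hp)) (h.H0_le i (h.Q_H0 hq)), h.π_Q hq, mul_one, h.π_P hp]

theorem cardJ : 243 ≤ Nat.card (J5 z x a) := by
  have c0 := h.card
  have c1 := card_le3' h.hz le_rfl (h.le 0 (hb 0).aK)
  have c2 := card_le3' h.hz (inf_le_left : Q ⊓ Cx (a 0) ≤ Q) (h.le 1 (hb 1).aK)
  have c3 := card_le3' h.hz (inf_le_left.trans inf_le_left : Q ⊓ Cx (a 0) ⊓ Cx (a 1) ≤ Q) (h.le 2 (hb 2).aK)
  have c4 := card_le_of_le (show Q ⊓ Cx (a 0) ⊓ Cx (a 1) ⊓ Cx (a 2) ≤ Q ⊓ J5 z x a from fun q hq =>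
    ⟨hq.1.1.1, h.cQ hb hq.1.1.1 fun i => by
      fin_cases i
      exacts [hq.1.1.2, hq.1.2, hq.2]⟩)
  have c5 := eq3 (inf_le_right : Q ⊓ J5 z x a ≤ _) (h.T3.to_le (h.JT hb)) (by
    rw [inf_relIndex_right]
    exact h.idxQ (h.JT hb) (J_le.2 ⟨fun i => h.Q_H0 (h.le i (hb i).aK), h.mem_H0.2 ⟨h.Tz h.xT, h.τx⟩,
      h.Q_H0 h.z_mem⟩)) fun e => h.xQ (e xJ).1
  omega

theorem uniq (hB : B ≤ T) (hc : ∀ u ∈ B, ∀ v ∈ B, u * v = v * u) (hn : 243 ≤ Nat.card B) : B ≤ J5 z x a := by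
  have B3 := h.T3.to_le hB
  have c1 := card_eq_relIndex Q B
  have c2 := (h.three (hB.trans h.Tz) B3).1
  have va : ∀ v ∈ B, v ∈ h.H0 → v ∉ Q → ∀ i, Q ⊓ B ≤ Cx (a i) := fun v hv v0 vQ i e he => by
    have := (max3 (L := cmz z e) (fun q hq => ⟨h.zc hq, h.cmt q hq e he.1⟩) (le_inf h.QT fun _ => h.Q_H0) h.D3
      ⟨h.Tz (hB hv), by rw [cmt_of (mem_Cx.2 (hc v hv e he.2))]; exact one_mem _⟩ ⟨hB hv, v0⟩ vQ
      ⟨h.xT, h.mem_H0.2 ⟨h.Tz h.xT, h.τx⟩⟩).2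
    exact Cx_comm.1 (Im_perp h.hz (h.norm_Q (h.Tz h.xT)) (h.Tz h.xT) he.1 this
      ((hb i).a_Im h.hz (h.le i) (h.norm_Q (h.Tz h.xT))))
  by_cases h0 : B ≤ h.H0
  · have c3 := Nat.mul_le_mul_left (Nat.card (Q ⊓ B : Subgroup G)) (h.idxQ hB h0)
    obtain ⟨v, hv, vQ⟩ := SetLike.not_le_iff_exists.1 fun e : B ≤ Q => by
      have := h.abel_le e hc
      omega
    exact fun u hu => h.cA hb (h.Tz (hB hu)) fun i => hc _ ((mq h.toNH).max inf_le_left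
      (fun u hu v hv => hc u hu.2 v hv.2) (by omega) (h.le i (hb i).aK) (va v hv (h0 hv) vQ i)).2 u hu
  exfalso
  obtain ⟨s, hs, s0⟩ := SetLike.not_le_iff_exists.1 h0
  have c3 := card_le_of_le (show Q ⊓ B ⊓ Cx (a 0) ⊓ Cx (b 0) ≤ zpowers z from fun q hq =>
    orbit (i := 0) h.toNH (h.Tz (hB hs)) (fun e => s0 (h.mem_H0.2 ⟨h.Tz (hB hs), e⟩)) (h.τ3 (hB hs)) hq.1.1.1
      (by rw [cmt_of (mem_Cx.2 (hc s hs q hq.1.1.2))]; exact one_mem _) fun p hp => mem_Cx.1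
      ((((hb 0).gen.ge.trans ((closure_le (Cx q)).2 (by
        rintro _ (rfl | rfl)
        exacts [Cx_comm.1 hq.1.2, Cx_comm.1 hq.2])))) hp))
  rw [cardZ h.z1 h.z3] at c3
  have c4 := card_le3' h.hz (inf_le_left.trans inf_le_left : Q ⊓ B ⊓ Cx (a 0) ≤ Q) (h.le 0 (hb 0).bK)
  by_cases k : h.H0 ⊓ B ≤ Q ⊓ B
  · have c5 := card_le3' h.hz (inf_le_left : Q ⊓ B ≤ Q) (h.le 0 (hb 0).aK)
    have c6 := card_eq_relIndex h.H0 B
    have c7 := Nat.mul_le_mul (card_le_of_le k) (idx3 h.τh nine_S3 (hB.trans h.Tz) B3)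
    change _ * h.H0.relIndex B ≤ _ at c7
    omega
  · obtain ⟨v, hv, vQ⟩ := SetLike.not_le_iff_exists.1 k
    rw [inf_eq_left.2 (va v hv.2 hv.1 (fun e => vQ ⟨e, hv.2⟩) 0)] at c3 c4
    have := Nat.mul_le_mul_left (Nat.card (Q ⊓ B : Subgroup G)) c2
    omega

theorem ctl {u : G} (hu : u ∈ J5 z x a) (g : G) (e : g * u * g⁻¹ ∈ J5 z x a) :
    ∃ n ∈ normalizer (J5 z x a : Set G), n * u * n⁻¹ = g * u * g⁻¹ := by
  haveI : Fact (Nat.Prime 3) := ⟨by norm_num⟩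
  obtain ⟨n, -, hn⟩ := control_wc h.syl (h.JT hb) (fun u hu v hv => mem_Cx.1 (h.Jc hb hv hu)) (fun k _ e =>
    eq_of_le_of_card_ge (h.uniq hb e (fun u hu v hv => by
      have := (conj_mem_Cx (g := k)).2 (h.Jc hb (mem_cj.1 hv) (mem_cj.1 hu))
      simpa [mul_assoc, mem_Cx] using this) ((h.cardJ hb).trans (card_cj k _).ge)) (card_cj k _).ge) hu (mem_top g) e
  exact ⟨n, hn⟩

theorem x_three (yJ : y ∈ J5 z x a) : x ^ 3 = 1 := by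
  by_contra k
  obtain ⟨g, e⟩ := h.yc
  obtain ⟨n, hn, e'⟩ := h.ctl hb zJ g (e ▸ yJ)
  obtain ⟨α, hα, v, ⟨m, rfl⟩, e1⟩ := (Sect.mem_sup_of_comm (A := Q ⊓ J5 z x a) (B := zpowers x)
    fun α hα k hk => Es.zc hk (h.Jc hb xJ hα.2)).1 (J_le.2
    ⟨fun i => mem_sup_left (mem_inf.2 ⟨h.le i (hb i).aK, aJ i⟩), mem_sup_right (mem_zpowers x),
      mem_sup_left (mem_inf.2 ⟨h.z_mem, zJ⟩)⟩ (conj_mem_of_mem_normalizer hn xJ))
  have c : Commute α (x ^ m) := (Commute.zpow_right (mem_Cx.1 (h.Jc hb xJ hα.2)) m)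
  have e2 : n * x ^ 3 * n⁻¹ ∈ zpowers z := by
    rw [← conj_pow, e1, c.mul_pow, h.exp α hα.1, one_mul, ← zpow_natCast, ← zpow_mul, mul_comm, zpow_mul,
      zpow_natCast]
    exact zpow_mem h.x3 m
  refine h.yn (e ▸ e' ▸ mem_of_ne (conj3 h.z3 n) (conj_zp.2 h.x3) e2 fun e => k ?_)
  simpa using e

end

theorem main (h0 : ∃ a b, Bas z x (Qi 0) (r 0) a b) : ∃ a b x σ, FX z Q P Qi r π τ a b x σ := by
  choose a b hb hy using h.bas h0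
  obtain ⟨m, hm⟩ : ∃ m : ℕ, y = a 0 * a 1 * a 2 * z ^ m := by
    have aQ : ∀ i, a i ∈ Q := fun i => h.le i (hb i).aK
    obtain ⟨m, hm⟩ := mem_powers_iff_mem_zpowers.2 (cent_all h.toNH
      (mul_mem (inv_mem (mul_mem (mul_mem (aQ 0) (aQ 1)) (aQ 2))) h.yQ) fun i => by
        obtain ⟨u, hu, v, hv, e⟩ := prod_split (K := centralizer (Qi i : Set G)) a i fun j hj =>
          le_cent h.toNH hj (hb j).aK
        rw [← hu _ (hb i).aK] at e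
        simp only [List.ofFn_succ, List.ofFn_zero, List.prod_cons, List.prod_nil, mul_one] at e
        convert mul_mem (inv_mem (mul_mem hu hv)) (hy i) using 1
        rw [mul_assoc (a 0), show a 0 * (a 1 * a 2) = a i * u * v from e]
        group)
    exact ⟨m, by rw [show z ^ m = _ from hm, mul_inv_cancel_left]⟩
  have x3 := h.x_three hb (hm ▸ mul_mem (mul_mem (mul_mem (F4x.aJ 0) (F4x.aJ 1)) (F4x.aJ 2)) (pow_mem F4x.zJ m))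
  have e3 : ∀ {i q}, q ∈ Qi i → q ^ 3 = 1 := fun e => h.exp _ (h.le _ e)
  have cz : ∀ {i q}, q ∈ Qi i → Commute q z := fun e => mem_Cx.1 (h.Qz _ e)
  refine ⟨a, b, x, σ, h.toFH, fun i j ij => ?_, fun i => (hb i).gen, h.τx, h.Tz h.σT, ?_, h.σ1, h.τ3 h.σT,
    ?_, fun g => h.cA hb, fun u => h.ctl hb⟩
  · have cr : ∀ {i j q}, i ≠ j → q ∈ Qi j → Commute (r i) q := fun e k => (mem_Cx.1 (h.rj _ _ e k)).symm
    exact ⟨h.z1, h.z3, e3 (hb i).aK, e3 (hb i).bK, e3 (hb j).aK, e3 (hb j).bK, x3, h.rr i, h.rr j,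
      cz (hb i).aK, cz (hb i).bK, cz (hb j).aK, cz (hb j).bK, mem_Cx.1 (h.Tz h.xT), mem_Cx.1 (h.rz i),
      mem_Cx.1 (h.rz j), (hb i).ab, (hb j).ab, h.cm i j ij _ (hb i).aK _ (hb j).aK,
      h.cm i j ij _ (hb i).aK _ (hb j).bK, h.cm i j ij _ (hb i).bK _ (hb j).aK, h.cm i j ij _ (hb i).bK _ (hb j).bK,
      (hb i).xa, (hb j).xa, (hb i).xb, (hb j).xb, (hb i).ta, (hb i).tb, cr ij (hb j).aK, cr ij (hb j).bK,
      (mem_Cx.1 (h.xr i)).symm, cr ij.symm (hb i).aK, cr ij.symm (hb i).bK, (hb j).ta, (hb j).tb,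
      (mem_Cx.1 (h.xr j)).symm, h.rm i j⟩
  · have := h.σρ
    simp only [rho, List.ofFn_succ, List.ofFn_zero, List.prod_cons, List.prod_nil, mul_one] at this
    rwa [mul_assoc]
  · obtain ⟨g, e⟩ := h.yc
    exact ⟨g, m, e.trans hm⟩

end ST

end F3x

theorem FH.exists_FX (h : FH z Q P Qi r π τ) (nw : ∃ g, g * z * g⁻¹ ∈ Q ∧ g * z * g⁻¹ ∉ zpowers z) :
    ∃ a b x σ, FX z Q P Qi r π τ a b x σ := by
  obtain ⟨g, h1, h2⟩ := nw
  obtain ⟨T, x, σ, k⟩ := F3x.exists_ST h h1 h2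
  exact k.bas0.elim k.main k.inv.main

end CfsgLib.Rec3B
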