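import Cfsg.Agent.Lib.Rec3B.FB
import Cfsg.Agent.Lib.Rec3B.FT

/-! Fusion in `C(r 0)` (plans/REC3B.md, F4). -/

set_option autoImplicit false
set_option maxRecDepth 100000
set_option maxHeartbeats 400000
set_option linter.unusedSectionVars false
set_option linter.unusedVariables false

namespace CfsgLib.Rec3B

open Subgroup Cfsg CfsgLib.Tech CfsgLib.PComp CfsgLib.W2 CfsgLib.Rec3 W4
open CfsgLib.U43 (SL)

variable {G : Type*} [Group G] [Finite G]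
variable {z x σ : G} {Q P : Subgroup G} {Qi : Fin 3 → Subgroup G} {r a b : Fin 3 → G} {π : Fin 3 → G → SL}
  {τ : G → Equiv.Perm (Fin 3)}

namespace F4x

open CfsgLib.Sect Es NBx FT

theorem J_le {K : Subgroup G} : J5 z x a ≤ K ↔ (∀ i, a i ∈ K) ∧ x ∈ K ∧ z ∈ K := by
  simp [J5, Set.insert_subset_iff, Fin.forall_fin_succ, and_assoc]

theorem aJ (i : Fin 3) : a i ∈ J5 z x a := (J_le.1 le_rfl).1 i

theorem xJ : x ∈ J5 z x a := (J_le.1 le_rfl).2.1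

theorem zJ : z ∈ J5 z x a := (J_le.1 le_rfl).2.2

theorem Im_inv {c : G} (h : Hz Q z) (cN : c ∈ normalizer (Q : Set G)) : Im z Q c ≤ Im z Q c⁻¹ := fun m hm => by
  obtain ⟨p, hp, k⟩ := (mem_Im h cN).1 hm
  refine (mem_Im h (inv_mem cN)).2 ⟨_, conj_mem_of_mem_normalizer cN (inv_mem hp), ?_⟩
  convert mul_mem k (h.cmt _ (cm_mem cN hp) _ (inv_mem hp)) using 1
  group

theorem third : ∀ i j : Fin 3, ∃ k, i ≠ k ∧ j ≠ k := by decide

variable (h : FX z Q P Qi r π τ a b x σ) {g u v w : G}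
include h

theorem rl (i : Fin 3) : Rel z (a i) (b i) (a (i + 1)) (b (i + 1)) x (r i) (r (i + 1)) :=
  h.rel _ _ ((by decide : ∀ i : Fin 3, i ≠ i + 1) i)

theorem aQ (i : Fin 3) : a i ∈ Qi i := h.gen i ▸ subset_closure (by simp)

theorem bQ (i : Fin 3) : b i ∈ Qi i := h.gen i ▸ subset_closure (by simp)

theorem ab_n (i : Fin 3) : a i ∉ Cx (b i) := fun e => h.z1 (by
  have := (rl h i).ab
  rw [mem_Cx.1 e] at this
  simpa using this.symm)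

theorem a_n (i : Fin 3) : a i ∉ zpowers z := fun e => ab_n h i (mem_Cx.2 (Es.zc e (h.Qz i (bQ h i))).symm)

theorem xz : x ∈ Cx z := mem_Cx.2 (rl h 0).xz

theorem aa (i j : Fin 3) : a i ∈ Cx (a j) := by
  by_cases e : i = j
  · rw [e]; exact mem_Cx.2 rfl
  · exact mem_Cx.2 (h.rel i j e).ac

theorem Jz : J5 z x a ≤ Cx z := J_le.2 ⟨fun i => h.Qz i (aQ h i), xz h, mem_Cx.2 rfl⟩

theorem Ja (i : Fin 3) : J5 z x a ≤ Cx (a i) :=
  J_le.2 ⟨fun j => aa h j i, mem_Cx.2 (rl h i).xa, Cx_comm.1 (h.Qz i (aQ h i))⟩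

theorem Jc (hu : u ∈ J5 z x a) : J5 z x a ≤ Cx u :=
  J_le.2 ⟨fun i => Cx_comm.1 (Ja h i hu), Cx_comm.1 ((J_le (K := Cx x)).2
    ⟨fun i => mem_Cx.2 (rl h i).xa.symm, mem_Cx.2 rfl, Cx_comm.1 (xz h)⟩ hu), Cx_comm.1 (Jz h hu)⟩

theorem normJ (hg : g ∈ Cx z) (e : ∀ i, g⁻¹ * a i * g ∈ J5 z x a) : g ∈ normalizer (J5 z x a : Set G) :=
  mem_normalizer_of_forall fun u hu => h.cA _ (mul_mem (mul_mem hg (Jz h hu)) (inv_mem hg)) fun i => by
    calc _ = g * (g⁻¹ * a i * g * u) * g⁻¹ := by group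
      _ = _ := by rw [mem_Cx.1 (Jc h hu (e i))]; group

theorem QN : Q ≤ normalizer (J5 z x a : Set G) := fun q hq => normJ h (h.zc hq) fun i => by
  simpa using mul_mem (zpowers_le.2 zJ (h.cmt _ (inv_mem hq) _ (h.le i (aQ h i)))) (aJ (x := x) (a := a) i)

theorem rN (i : Fin 3) : r i ∈ normalizer (J5 z x a : Set G) := inv_mem_iff.1 (normJ h (inv_mem (h.rz i)) fun j => by
  rw [inv_inv]
  by_cases e : i = j
  · rw [← e, (rl h i).ra]; exact inv_mem (aJ i)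
  · rw [mem_Cx'.1 (Cx_comm.1 (h.rj i j e (aQ h j)))]; exact aJ j)

theorem decJ (hu : u ∈ J5 z x a) : ∃ α ∈ Q ⊓ J5 z x a, ∃ k ∈ zpowers x, u = α * k :=
  (Sect.mem_sup_of_comm (A := Q ⊓ J5 z x a) fun α hα k hk => Es.zc hk (Jc h xJ hα.2)).1 (J_le.2
    ⟨fun i => mem_sup_left (mem_inf.2 ⟨h.le i (aQ h i), aJ i⟩), mem_sup_right (mem_zpowers x),
      mem_sup_left (mem_inf.2 ⟨h.z_mem, zJ⟩)⟩ hu)

theorem QJ_le {K : Subgroup G} (h1 : ∀ i, a i ∈ K) (h2 : z ∈ K) : Q ⊓ J5 z x a ≤ K := fun q hq =>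
  FT.CA h.toNH (aQ h) (fun i => QA_le h.toNH (aQ h i) (a_n h i) (h1 i) h2) hq.1 fun i => Ja h i hq.2

theorem a_Im (i : Fin 3) : a i ∈ Im z Q x := by
  have n := h.norm_Q (xz h)
  convert mul_mem (cm_Im h.hz n (inv_mem (h.le i (bQ h i)))) (z_Im h.hz n (mem_zpowers z)) using 1
  calc _ = (b i)⁻¹ * (b i * a i * z⁻¹) * z := by group
    _ = _ := by rw [← (rl h i).xb]; group

theorem outJ (hw : w ∈ J5 z x a) (hn : w ∉ Q) :
    (∀ i, a i ∈ Im z Q w) ∧ (∃ p ∈ Q, ∀ i, p * w * p⁻¹ ∈ Cx (r i)) ∧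
      ∀ K : Subgroup G, (∀ i, a i ∈ K) → z ∈ K → w ∈ K → J5 z x a ≤ K := by
  obtain ⟨α, hα, k, hk, rfl⟩ := decJ h hw
  have n := h.norm_Q (xz h)
  have k1 : k ≠ 1 := fun e => hn (by rw [e, mul_one]; exact hα.1)
  have k2 : ∀ i, a i ∈ Im z Q (α * k) := fun i => Im_mul h.hz (zpowers_le.2 n hk) hα.1 (by
    rcases three_cases (rl h 0).x3 hk with e | e | e <;> rw [e]
    · exact absurd e k1
    · exact a_Im h i
    · exact Im_inv h.hz n (a_Im h i))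
  have n' := h.norm_Q (Jz h hw)
  refine ⟨k2, ?_, fun K h1 h2 h3 => J_le.2 ⟨h1, ?_, h2⟩⟩
  · obtain ⟨p, hp, v, hv, e⟩ := Im_conj h.hz n' (QJ_le h k2 (z_Im h.hz n' (mem_zpowers z)) (inv_mem hα))
    refine ⟨p, hp, fun i => ?_⟩
    rw [e, inv_mul_cancel_left]
    exact mul_mem (zpowers_le.2 (Cx_comm.1 (h.rz i)) hv) (zpowers_le.2 (mem_Cx.2 (rl h i).rx.symm) hk)
  · exact mem_of_ne (rl h 0).x3 hk ((mul_mem_cancel_left (QJ_le h h1 h2 hα)).1 h3) k1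

theorem centQ (hw : w ∈ J5 z x a) (hn : w ∉ Q) (hu : u ∈ Q) (e : u ∈ Cx w) : u ∈ J5 z x a :=
  h.cA u (h.zc hu) fun i => mem_Cx.1 (Im_perp h.hz (h.norm_Q (Jz h hw)) (Jz h hw) hu
    (by rw [cmt_of (Cx_comm.1 e)]; exact one_mem _) ((outJ h hw hn).1 i))

theorem Jr (i : Fin 3) : J5 z x a ≤ cmz (a i) (r i) :=
  have k := RA h.toNH (aQ h i) (a_n h i) (rl h i).ra
  J_le.2 ⟨fun j => k ⟨h.le j (aQ h j), aa h j i⟩, ⟨Ja h i xJ, by
    rw [cmt_of (mem_Cx.2 (rl h i).rx.symm)]; exact one_mem _⟩, k ⟨h.z_mem, Ja h i zJ⟩⟩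

theorem prod_split3 (m : ℕ) (i : Fin 3) :
    ∃ w ∈ Q ⊓ (centralizer (Qi i : Set G) ⊓ Cx (r i)), a 0 * a 1 * a 2 * z ^ m = a i * w := by
  let K : Subgroup G := Q ⊓ (centralizer (Qi i : Set G) ⊓ Cx (r i))
  have k : ∀ j, j ≠ i → a j ∈ K := fun j hj =>
    ⟨h.le j (aQ h j), le_cent h.toNH hj (aQ h j), h.rj i j hj.symm (aQ h j)⟩
  have kz : z ^ m ∈ K := pow_mem (show z ∈ K from
    ⟨h.z_mem, z_cent h.toNH (mem_zpowers z), Cx_comm.1 (h.rz i)⟩) m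
  obtain ⟨u, hu, v, hv, e⟩ := prod_split (K := K) a i k
  refine ⟨u * v * z ^ m, mul_mem (mul_mem hu hv) kz, ?_⟩
  rw [← hu.2.1 _ (aQ h i)] at e
  simp only [List.ofFn_succ, List.ofFn_zero, List.prod_cons, List.prod_nil, mul_one] at e
  calc _ = a 0 * (a 1 * a 2) * z ^ m := by group
    _ = _ := by
      change _ = _ at e
      rw [show a 0 * (a 1 * a 2) = a i * u * v from e]; group

theorem exists_out : ∃ n ∈ normalizer (J5 z x a : Set G), n * z * n⁻¹ ∉ Q := by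
  by_contra k
  push Not at k
  obtain ⟨g, m, e⟩ := h.zc3
  obtain ⟨n, hn, e'⟩ := h.ctl z zJ g (e ▸ mul_mem (mul_mem (mul_mem (aJ 0) (aJ 1)) (aJ 2)) (pow_mem zJ m))
  rw [e] at e'
  have M := (mq h.toNH).conj n
  have k1 : ∀ y ∈ normalizer (J5 z x a : Set G), y * z * y⁻¹ ∈ cj n Q := fun y hy => mem_cj.2 (by
    convert k _ (mul_mem (inv_mem hn) hy) using 1
    group)
  have zc : ∀ i, n * z * n⁻¹ ∉ centralizer (Qi i : Set G) := fun i k => by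
    obtain ⟨w, hw, e⟩ := prod_split3 h m i
    rw [e', e, mul_mem_cancel_right (mem_inf.1 (mem_inf.1 hw).2).1] at k
    exact ab_n h i (mem_Cx.2 (k _ (bQ h i)).symm)
  have zQ : z ∈ cj n Q := by simpa using k1 1 (one_mem _)
  have aQ' : ∀ i, a i ∈ cj n Q := fun i => by
    obtain ⟨w, hw, e⟩ := prod_split3 h m i
    refine of_sq (rl h i).a3 ?_
    convert mul_mem M.zQ (inv_mem (k1 _ (mul_mem (rN h i) hn))) using 1
    calc _ = a i * w * (r i * a i * (r i)⁻¹ * (r i * w * (r i)⁻¹))⁻¹ := by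
          rw [(rl h i).ra, mem_Cx'.1 (Cx_comm.1 hw.2.2)]; group
      _ = n * z * n⁻¹ * (r i * (n * z * n⁻¹) * (r i)⁻¹)⁻¹ := by rw [e', e]; group
      _ = _ := by group
  have c1 := M.cc z zQ fun k => zc 0 (mem_of_ne M.z3 k (z_cent h.toNH (mem_zpowers z)) h.z1)
  have c2 := M.ab (cj n Q ⊓ Cx z) inf_le_left fun u hu v hv => by
    have : cj n Q ⊓ Cx z ≤ J5 z x a := fun u hu => h.cA u hu.2 fun i => by
      obtain ⟨j, h1, h2⟩ := third i (τ u i)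
      exact (mem_Cx.1 (cmt_one (eq_one_of M.z3 (M.cmt u hu.1 _ (aQ' i)) (mul_mem
        (le_cent h.toNH h2 (h.cj_mem hu.2 (aQ h i))) (inv_mem (le_cent h.toNH h1 (aQ h i)))) (zc j)))).symm
    exact mem_Cx.1 (Jc h (this hv) (this hu))
  omega

end F4x

open CfsgLib.Sect Es NBx FT F4x

theorem FX.nw (h : FX z Q P Qi r π τ a b x σ) :
    ∃ u ∈ Cx (r 0), u * z * u⁻¹ ∈ Subgroup.closure {a 1, a 2, x, z} ∧ u * z * u⁻¹ ∉ zpowers z := by
  obtain ⟨n, hn, nQ, nr⟩ : ∃ n ∈ normalizer (J5 z x a : Set G), n * z * n⁻¹ ∉ Q ∧ ∀ i, n * z * n⁻¹ ∈ Cx (r i) := by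
    obtain ⟨n, hn, e⟩ := exists_out h
    obtain ⟨p, hp, e'⟩ := (outJ h (conj_mem_of_mem_normalizer hn zJ) e).2.1
    have : p * n * z * (p * n)⁻¹ = p * (n * z * n⁻¹) * p⁻¹ := by group
    refine ⟨p * n, mul_mem (QN h hp) hn, fun k => e ?_, this ▸ e'⟩
    rwa [this, mul_mem_cancel_right (inv_mem hp), mul_mem_cancel_left hp] at k
  have back : ∀ {u v : G}, u ∈ Cx v → n⁻¹ * u * n ∈ Cx (n⁻¹ * v * n) := fun e => by
    simpa using (conj_mem_Cx (g := n⁻¹)).2 e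
  have tz : ∀ i, n⁻¹ * r i * n ∈ Cx z := fun i => by simpa [mul_assoc] using back (Cx_comm.1 (nr i))
  have tt : ∀ i, n⁻¹ * r i * n * (n⁻¹ * r i * n) = 1 := fun i => by
    calc _ = n⁻¹ * (r i * r i) * n := by group
      _ = 1 := by rw [h.rr]; group
  have yJ : ∀ {u}, u ∈ J5 z x a → n⁻¹ * u * n ∈ J5 z x a := fun e => conj_mem_of_mem_normalizer' hn e
  have y3 : ∀ {u : G}, u ^ 3 = 1 → (n⁻¹ * u * n) ^ 3 = 1 := fun e => by simpa using conj3 e n⁻¹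
  have yQ : ∀ i, n⁻¹ * a i * n ∈ Q := fun i => by
    by_contra k
    have t1 := h.τ_ne (tz i) (tt i) (Jz h (yJ (aJ i))) (y3 (rl h i).a3) k (by
      calc _ = n⁻¹ * (r i * a i * (r i)⁻¹) * n := by group
        _ = _ := by rw [(rl h i).ra]; group)
    refine t1 (Equiv.ext fun j => (h.π_cube (tz i) (aQ h j) (a_n h j) ?_).1)
    have k1 := cmt_symm (Jr h i (conj_mem_of_mem_normalizer hn (aJ j))).2
    rw [← conj_zp (g := n⁻¹), inv_inv] at k1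
    rw [eq_one_of (y3 (rl h i).a3) (w := n⁻¹ * r i * n * a j * (n⁻¹ * r i * n)⁻¹ * (a j)⁻¹)
      (by convert k1 using 1; group) (mul_mem (h.le _ (h.cj_mem (tz i) (aQ h j))) (inv_mem (h.le j (aQ h j)))) k]
    exact one_mem _
  have wQ : n⁻¹ * z * n ∉ Q := fun k => by
    have := (outJ h (conj_mem_of_mem_normalizer hn zJ) nQ).2.2 (cj n Q) (fun i => mem_cj.2 (yQ i)) (mem_cj.2 k)
      (conj_mem_cj.2 h.z_mem)
    rw [← mem_normalizer_iff_cj.1 hn, cj_le_cj_iff] at this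
    exact nQ (this (conj_mem_of_mem_normalizer hn zJ))
  have yz : n⁻¹ * a 1 * n ∉ zpowers z := fun k => by
    rw [← conj_zp (g := n), show n * (n⁻¹ * a 1 * n) * n⁻¹ = a 1 by group] at k
    exact a_n h 1 (eq_one_of (conj3 h.z3 n) k (h.le 1 (aQ h 1)) nQ ▸ one_mem _)
  have yt : n⁻¹ * a 1 * n ∈ Cx (n⁻¹ * r 0 * n) := back (h.rj 0 1 (by decide) (aQ h 1))
  obtain ⟨u, uQ, ut, uy⟩ : ∃ u ∈ Q, u ∈ Cx (n⁻¹ * r 0 * n) ∧ u ∉ Cx (n⁻¹ * a 1 * n) := by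
    have hy := yQ 1
    have t1 := tz 0
    have t2 := tt 0
    generalize n⁻¹ * a 1 * n = y at hy yz yt
    generalize n⁻¹ * r 0 * n = t at t1 t2 yt
    by_contra k
    push Not at k
    refine yz (h.cenQ hy fun q hq => ?_)
    obtain ⟨p, hp, v, hv, rfl⟩ := h.hz.split (h.norm_Q t1) t1 (t2 ▸ one_mem _) hq
    rw [mul_assoc, ← h.hz.comm_pn t1 y ⟨hy, yt⟩ v hv, ← mul_assoc, mem_Cx.1 (k p hp.1 hp.2), mul_assoc]
  have ur : n * u * n⁻¹ ∈ Cx (r 0) := by simpa [mul_assoc] using (conj_mem_Cx (g := n)).2 ut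
  have uJ := conj_mem_of_mem_normalizer (mul_mem (mul_mem hn (QN h uQ)) (inv_mem hn)) (zJ (x := x) (a := a))
  have vr : n * u * n⁻¹ * z * (n * u * n⁻¹)⁻¹ ∈ Cx (r 0) :=
    mul_mem (mul_mem ur (Cx_comm.1 (h.rz 0))) (inv_mem ur)
  have w3 := y3 h.z3
  refine ⟨_, ur, ?_, fun k => uy (Jc h (yJ (aJ 1)) (centQ h (yJ zJ) wQ uQ (cmt_one (eq_one_of w3 ?_
    (cm_mem (h.norm_Q (Jz h (yJ zJ))) uQ) wQ))))⟩
  · have K : closure {a 1, a 2, x, z} ≤ J5 z x a := closure_mono fun _ e => Or.inr e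
    have Kr : closure {a 1, a 2, x, z} ≤ Cx (r 0) := (closure_le _).2 (by
      rintro _ (rfl | rfl | rfl | rfl)
      exacts [h.rj 0 1 (by decide) (aQ h 1), h.rj 0 2 (by decide) (aQ h 2), mem_Cx.2 (rl h 0).rx.symm,
        Cx_comm.1 (h.rz 0)])
    obtain ⟨v, hv, w, hw, e⟩ := (Sect.mem_sup_of_comm (A := zpowers (a 0)) (B := closure {a 1, a 2, x, z})
      fun v hv w hw => (Es.zc hv (Ja h 0 (K hw))).symm).1 ((closure_le _).2 (by
        rintro _ (rfl | e)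
        exacts [mem_sup_left (mem_zpowers _), mem_sup_right (subset_closure e)]) uJ)
    rw [e, mul_mem_cancel_right (Kr hw)] at vr
    rwa [e, eq_one_of (rl h 0).a3 hv vr fun k => a_n h 0 ?_, one_mul]
    have := (rl h 0).ra
    rw [mem_Cx'.1 (Cx_comm.1 k), eq_inv_iff_mul_eq_one] at this
    rw [eq_one (rl h 0).a3 this]
    exact one_mem _
  · rw [← conj_zp (g := n⁻¹), inv_inv] at k
    convert mul_mem k (inv_mem (mem_zpowers _)) using 1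
    group

end CfsgLib.Rec3B
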