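import Cfsg.Agent.Lib.Rec3B.F4
import Cfsg.Agent.Lib.Rec3B.GL

/-! The local data in `C(r 0) / ⟨r 0⟩` (plans/REC3B.md, F5). -/

set_option autoImplicit false
set_option maxRecDepth 100000
set_option maxHeartbeats 400000

namespace CfsgLib.Rec3B

open Subgroup Cfsg CfsgLib.Tech CfsgLib.PComp CfsgLib.W2 CfsgLib.Rec3 W4
open CfsgLib.U43 (SL)

variable {G : Type*} [Group G] [Finite G]
variable {z x σ : G} {Q P : Subgroup G} {Qi : Fin 3 → Subgroup G} {r a b : Fin 3 → G} {π : Fin 3 → G → SL}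
  {τ : G → Equiv.Perm (Fin 3)}

namespace F5

variable {g k p q : G} {i j : Fin 3}

theorem one_of_pow {M : Type*} [Group M] {s : M} {m n : ℕ} (hm : s ^ m = 1) (hn : s ^ 3 ^ n = 1) (c : m.Coprime 3) : s = 1 :=
  orderOf_eq_one_iff.1 (Nat.eq_one_of_dvd_coprimes (c.pow_right n) (orderOf_dvd_of_pow_eq_one hm) (orderOf_dvd_of_pow_eq_one hn))

section
variable (h : NH z Q Qi r π τ)
include h

theorem hm (i : Fin 3) : HM h.H0 (π i) := fun _ ha _ hb => h.π_mul (h.H0_le i ha) (h.H0_le i hb)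

theorem r0 (i : Fin 3) : r i ∈ h.H0 := h.mem_H0.2 ⟨h.rz i, h.τ_r⟩

theorem q0 (hq : q ∈ Q) : q ∈ h.H0 := h.mem_H0.2 ⟨h.zc hq, h.τ_Q hq⟩

theorem π_rr (i : Fin 3) : π i (r i) = SL.o 1 := (h.π_r (j := i)).1

theorem π_rj (e : j ≠ i) : π j (r i) = 1 := h.π_r.2 e

theorem r_ne (i : Fin 3) : r i ≠ 1 := fun e => absurd ((π_rr h i).symm.trans (e ▸ h.π_one)) (by decide +kernel)

theorem conj_r (hg : g ∈ Cx z) (i : Fin 3) : g * r i * g⁻¹ * r (τ g i) ∈ Q := by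
  obtain ⟨q, hq, e⟩ := h.exists_X hg
  have qz := h.zc hq
  have e1 := h.X_r (mul_mem (inv_mem qz) hg) e i
  rw [h.τm _ (inv_mem qz) _ hg, h.τ_Q (inv_mem hq), one_mul] at e1
  have := mul_mem hq (conj_mem_of_mem_normalizer (h.norm_Q (h.rz (τ g i))) (inv_mem hq))
  rw [inv_eq_of_mul_eq_one_right (h.rr _)] at this
  rwa [show g * r i * g⁻¹ = q * (q⁻¹ * g * r i * (q⁻¹ * g)⁻¹) * q⁻¹ by group, e1, mul_assoc, mul_assoc, ← mul_assoc (r _)]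

theorem τ_of_r (hg : g ∈ Cx z) (hr : g ∈ Cx (r i)) : τ g i = i := by
  by_contra e
  have := h.π_Q (i := i) (conj_r h hg i)
  rw [mem_Cx'.1 hr, hm h i _ (r0 h _) _ (r0 h _), π_rr h, π_rj h (Ne.symm e)] at this
  exact absurd this (by decide +kernel)

theorem dec12 (hq : q ∈ Q) (hr : q ∈ Cx (r 0)) : q ∈ Qi 1 ⊔ Qi 2 := by
  obtain ⟨y, hy, rfl⟩ := h.dec q hq
  have e : (List.ofFn y).prod = y 0 * (y 1 * y 2) := by simp [List.ofFn_succ]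
  rw [e] at hr ⊢
  have h1 : y 0 ∈ Cx (r 0) :=
    (mul_mem_cancel_right (mul_mem (h.rj 0 1 (by decide) (hy 1)) (h.rj 0 2 (by decide) (hy 2)))).1 hr
  have h2 := h.ri 0 _ (hy 0)
  rw [mem_Cx'.1 (Cx_comm.1 h1)] at h2
  exact mul_mem (mem_sup_left (h.ZQi 1 (NBx.of_sq (h.exp _ (h.le 0 (hy 0))) h2))) (mul_mem (mem_sup_left (hy 1)) (mem_sup_right (hy 2)))

end

section
variable (h : FH z Q P Qi r π τ)
include h

theorem p0 (hp : p ∈ P) : p ∈ h.H0 := h.mem_H0.2 ⟨h.Pz hp, h.Pτ p hp⟩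

open Pointwise in
theorem qp (hg : g ∈ Q ⊔ P) : ∃ q ∈ Q, ∃ p ∈ P, g = q * p := by
  have : g ∈ ((Q : Set G) * (P : Set G) : Set G) := by
    rw [← coe_mul_of_right_le_normalizer_left _ _ fun p hp => h.norm_Q (h.Pz hp)]
    exact hg
  obtain ⟨q, hq, p, hp, rfl⟩ := this
  exact ⟨q, hq, p, hp, rfl⟩

theorem π_qp (hg : g ∈ Q ⊔ P) : π i g ^ 4 = 1 := by
  obtain ⟨q, hq, p, hp, rfl⟩ := qp h hg
  rw [hm h.toNH i _ (q0 h.toNH hq) _ (p0 h hp), h.π_Q hq, one_mul, h.π_P hp]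

end

variable (h : FX z Q P Qi r π τ a b x σ)
include h

theorem rel' (i : Fin 3) : ∃ j, Rel z (a i) (b i) (a j) (b j) x (r i) (r j) :=
  ⟨i + 1, h.rel i _ (by revert i; decide)⟩

theorem a_mem (i : Fin 3) : a i ∈ Qi i := h.gen i ▸ subset_closure (by simp)

theorem b_mem (i : Fin 3) : b i ∈ Qi i := h.gen i ▸ subset_closure (by simp)

theorem a_not (i : Fin 3) : a i ∉ zpowers z := fun e => by
  obtain ⟨j, R⟩ := rel' h i
  exact R.z1 (by simpa [Es.zc e (h.Qz i (b_mem h i))] using R.ab)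

theorem xz : x ∈ Cx z := mem_Cx.2 (h.rel 0 1 (by decide)).xz

theorem x0 : x ∈ h.H0 := h.mem_H0.2 ⟨xz h, h.τx⟩

theorem xr (i : Fin 3) : x ∈ Cx (r i) := (rel' h i).elim fun _ R => mem_Cx.2 R.rx.symm

theorem π_x (i : Fin 3) : π i x ≠ 1 ∧ π i x ^ 3 = 1 := by
  obtain ⟨j, R⟩ := rel' h i
  refine ⟨fun e => a_not h i ?_, by rw [← (hm h.toNH i).pow (x0 h), R.x3, h.π_one]⟩
  have := mul_mem ((h.πk i x (xz h) (by rw [h.τx]; rfl)).1 e _ (b_mem h i)) (mem_zpowers z)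
  rw [R.xb, mul_assoc (b i * a i), mul_assoc (b i * a i), mul_assoc z⁻¹, R.bz.inv_left.eq, inv_mul_cancel_left] at this
  have := (Es.zcj this (inv_mem (h.Qz i (b_mem h i)))).symm ▸ this
  simpa [mul_assoc] using this

theorem π_x4 : π 0 x ^ 4 ≠ 1 := by rw [pow_succ, (π_x h 0).2, one_mul]; exact (π_x h 0).1

theorem cb (hp : p ∈ P) (e : ∀ j ≠ i, π j p = 1) : p = 1 ∨ p = r i :=
  h.cyc_b h.σz h.σ1 h.σ3 (xz h) h.τx (π_x4 h) hp e

theorem ker12 (hg : g ∈ h.H0) (e1 : π 1 g = 1) (e2 : π 2 g = 1) : g ∈ Q ∨ g * r 0 ∈ Q := by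
  have h1 := h.mem_H0.1 hg
  obtain ⟨q, hq, p, hp, rfl⟩ := qp h.toFH (h.two g h1.1 h1.2 fun i =>
    h.cyc_a h.σz h.σ1 h.σ3 h1.1 h1.2 (i := 1) (by rw [e1, one_pow]))
  rw [hm h.toNH _ _ (q0 h.toNH hq) _ (p0 h.toFH hp), h.π_Q hq, one_mul] at e1 e2
  rcases cb h (i := 0) hp (fun j hj => by fin_cases j; exacts [absurd rfl hj, e1, e2]) with rfl | rfl
  exacts [.inl (by simpa using hq), .inr (by rwa [mul_assoc, h.rr, mul_one])]

theorem dec_x (hg : g ∈ h.H0) : ∃ m : ℕ, g * x ^ m ∈ Q ⊔ P :=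
  h.cyc_c h.σz h.σ1 h.σ3 (xz h) h.τx (π_x4 h) (h.mem_H0.1 hg).1 (h.mem_H0.1 hg).2

end F5

open F5 in
theorem FX.exists_GC (h : FX z Q P Qi r π τ a b x σ) {L : Type*} [Group L] [Finite L] (f : Cx (r 0) →* L)
    (hs : Function.Surjective f) (hk : ∀ g, f g = 1 ↔ (g : G) = 1 ∨ (g : G) = r 0) :
    ∃ (φ : W4 →* L) (R : Subgroup L) (π₁ π₂ : L → SL), GC φ R π₁ π₂ ∧ Sw φ := by
  have N := h.toNH
  obtain ⟨φ₀, inj, ez, ea, eb, ec, ed, ex, er, es⟩ := (h.rel 1 2 (by decide)).exists_phi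
  have R1 := h.rel 0 1 (by decide)
  have R2 := h.rel 0 2 (by decide)
  have hC : ∀ u, φ₀ u ∈ Cx (r 0) := fun u => ind (P := fun u => φ₀ u ∈ Cx (r 0)) (by simp)
    (fun a b ha hb => by simpa using mul_mem ha hb) u (.inr (ea ▸ mem_Cx.2 R1.rc.symm)) (.inr (ec ▸ mem_Cx.2 R2.rc.symm))
    (.inr (ex ▸ mem_Cx.2 R1.rx.symm)) (.inr (ez ▸ mem_Cx.2 R1.rz.symm)) (.inr (eb ▸ mem_Cx.2 R1.rd.symm))
    (.inr (ed ▸ mem_Cx.2 R2.rd.symm)) (.inr (er ▸ mem_Cx.2 R1.rs.symm)) (.inr (es ▸ mem_Cx.2 R2.rs.symm))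
  obtain ⟨ψ, hψ⟩ : ∃ ψ : W4 →* Cx (r 0), ∀ u, (ψ u : G) = φ₀ u := ⟨φ₀.codRestrict _ hC, fun _ => rfl⟩
  obtain ⟨φ, hφ⟩ : ∃ φ : W4 →* L, ∀ u, φ u = f (ψ u) := ⟨f.comp ψ, fun _ => rfl⟩
  have fe : ∀ u v : Cx (r 0), f u = f v → (u : G) = v ∨ (u : G) = r 0 * v := fun u v e => by
    simpa [mul_inv_eq_iff_eq_mul] using (hk (u * v⁻¹)).1 (by rw [map_mul, map_inv, e, mul_inv_cancel])
  have f3 : ∀ u v : Cx (r 0), (u : G) ^ 3 = 1 → (v : G) ^ 3 = 1 → f u = f v → (u : G) = v := fun u v hu hv e =>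
    (fe u v e).resolve_right fun e => r_ne N 0 (by
      rwa [e, (show Commute _ _ from (mem_Cx.1 v.2).symm).mul_pow, hv, mul_one, pow_three, N.rr, mul_one] at hu)
  have zp : ∀ g : Cx (r 0), (g : G) ^ 3 = 1 → f g ∈ zpowers (φ gz) → (g : G) ∈ zpowers z := fun g h3 ⟨n, e⟩ => by
    have m : ((ψ gz ^ n : Cx (r 0)) : G) ∈ zpowers z := by rw [coe_zpow, hψ, ez]; exact zpow_mem (mem_zpowers z) n
    rwa [f3 g (ψ gz ^ n) h3 (Es.zcube N.z3 m) (by rw [map_zpow, ← hφ]; exact e.symm)]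
  have lc : ∀ (g : Cx (r 0)) (u : W4), φ₀ u ^ 3 = 1 → f g ∈ Cx (φ u) → (g : G) ∈ Cx (φ₀ u) := fun g u h3 e => by
    simpa [mem_Cx', hψ] using f3 (g * ψ u * g⁻¹) (ψ u) (by simp [hψ, h3]) (by rw [hψ, h3]) (by simpa [mem_Cx', hφ] using e)
  have lz : ∀ g : Cx (r 0), f g ∈ Cx (φ gz) → (g : G) ∈ Cx z := fun g e => ez ▸ lc g gz (ez ▸ N.z3) e
  have e1 : Q1.map φ₀ = Qi 1 := by rw [← h.gen, ← ea, ← eb, map_pair]; rfl
  have e2 : Q2.map φ₀ = Qi 2 := by rw [← h.gen, ← ec, ← ed, map_pair]; rfl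
  have mq : ∀ q ∈ Q, q ∈ Cx (r 0) → q ∈ QQ.map φ₀ := fun q h1 h2 =>
    (sup_le (e1 ▸ map_mono les.2.2.2.2.1) (e2 ▸ map_mono les.2.2.2.2.2.1) : Qi 1 ⊔ Qi 2 ≤ _) (dec12 N h1 h2)
  have qm : ∀ u ∈ QQ, φ₀ u ∈ Q := fun u hu => (le_of (K := Q.comap φ₀) (by
    simp only [List.forall_mem_cons, mem_comap, ea, eb, ec, ed]
    exact ⟨N.le 1 (a_mem h 1), N.le 1 (b_mem h 1), N.le 2 (a_mem h 2), N.le 2 (b_mem h 2), by simp⟩) : QQ ≤ _) hu
  have push : ∀ (K : Subgroup W4) (g : Cx (r 0)), (g : G) ∈ K.map φ₀ → f g ∈ K.map φ := fun K g ⟨u, hu, e⟩ =>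
    ⟨u, hu, by rw [hφ, show ψ u = g from Subtype.ext ((hψ u).trans e)]⟩
  have fq : ∀ g : Cx (r 0), (g : G) ∈ Q → f g ∈ QQ.map φ := fun g hg => push _ g (mq _ hg g.2)
  have k12 : ∀ g : Cx (r 0), (g : G) ∈ N.H0 → π 1 g = 1 → π 2 g = 1 → f g ∈ QQ.map φ := fun g h0 h1 h2 => by
    rcases ker12 h h0 h1 h2 with e | e
    · exact fq g e
    · simpa [(hk ⟨r 0, mem_Cx.2 rfl⟩).2 (.inr rfl)] using fq (g * ⟨r 0, mem_Cx.2 rfl⟩) e
  have τ0 : ∀ g : Cx (r 0), (g : G) ∈ Cx z → τ g 0 = 0 := fun g hg => τ_of_r N hg g.2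
  have τ1 : ∀ s : Equiv.Perm (Fin 3), s 0 = 0 → s ^ 2 = 1 ∧ (s 1 = 1 ∨ s 1 = 2) ∧ (s 1 = 1 ∨ s 2 = 2 → s = 1) := by decide
  have cr : ∀ g : Cx (r 0), (g : G) ∈ Cx z → ∀ u, φ₀ u = r (τ g 1) → f g * φ gr * (f g)⁻¹ * φ u ∈ QQ.map φ :=
    fun g hg u e => by simpa [hφ] using fq (g * ψ gr * g⁻¹ * ψ u) (by simpa [hψ, er, e] using conj_r N hg 1)
  have hi : Function.Injective φ := (injective_iff_map_eq_one _).2 fun u e => by
    rw [hφ, hk, hψ] at e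
    refine inj ((e.resolve_right fun e => r_ne N 0 (Es.eq_one (Es.zcube N.z3 ?_) (N.rr 0))).trans φ₀.map_one.symm)
    obtain ⟨n, rfl⟩ := cent_Q (u := u) fun g _ => inj (by rw [map_mul, map_mul, e]; exact mem_Cx.1 (hC g))
    exact ⟨n, by simpa [ez] using e⟩
  have G0 : GL0 φ := ⟨hi, fun g hg => by
      obtain ⟨g, rfl⟩ := hs g
      have h1 := zp (g * ψ gz * g⁻¹) (by simp [hψ, ez, N.z3]) (by simpa [hφ] using conj_mem_of_mem_normalizer hg (mem_zpowers _))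
      have h2 := N.nQ (mem_normalizer_of_forall (g := (g : G)) (H := zpowers z) (by
        rintro _ ⟨n, rfl⟩
        simpa [hψ, ez] using zpow_mem h1 n))
      refine mem_normalizer_of_forall ?_
      rintro _ ⟨u, hu, rfl⟩
      simpa [hφ] using fq (g * ψ u * g⁻¹) (by simpa [hψ] using conj_mem_of_mem_normalizer h2 (qm u hu)),
    isSylowIn_of_maximal (IsPGroup.of_card (n := 6) (by rw [card_map_of_injective hi, W4.cards.2.1]; rfl))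
      (by rintro _ ⟨u, -, rfl⟩; exact phi_z φ u) fun D h1 h2 h3 k hk' => by
      obtain ⟨k, rfl⟩ := hs k
      have key : ∀ k : Cx (r 0), f k ∈ D → ∃ n, (k : G) ^ 3 ^ n = 1 ∨ (k : G) ^ 3 ^ n = r 0 := fun k hk' =>
        (h1 ⟨_, hk'⟩).imp fun n e => (hk (k ^ 3 ^ n)).1 (by simpa using congrArg Subtype.val e)
      have kz := lz k (h3 hk')
      have k0 : (k : G) ∈ N.H0 := N.mem_H0.2 ⟨kz, (key k hk').elim fun n e => one_of_pow (τ1 _ (τ0 k kz)).1 (n := n) (by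
        rw [← N.τ_pow kz]
        rcases e with e | e <;> rw [e]
        exacts [N.τ_one, N.τ_r]) (by norm_num)⟩
      obtain ⟨m, hm'⟩ := dec_x h k0
      have xS : φ gx ^ m ∈ SS.map φ := pow_mem (mem_map_of_mem φ (by decide +kernel)) m
      have k1 : (k : G) * x ^ m ∈ N.H0 := mul_mem k0 (pow_mem (x0 h) m)
      obtain ⟨n, e⟩ := key (k * ψ gx ^ m) (by simpa [hφ] using mul_mem hk' (h2 xS))
      rw [coe_mul, coe_pow, hψ, ex] at e
      have h4 : ∀ j ≠ 0, π j (k * x ^ m) = 1 := fun j hj => one_of_pow (π_qp h.toFH hm') (n := n) (by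
        rw [← (hm N j).pow k1]
        rcases e with e | e <;> rw [e]
        exacts [N.π_one, π_rj N hj]) (by norm_num)
      have := k12 (k * ψ gx ^ m) (by simpa [hψ, ex] using k1) (by simpa [hψ, ex] using h4 1 (by decide))
        (by simpa [hψ, ex] using h4 2 (by decide))
      rw [map_mul, map_pow, ← hφ] at this
      exact (mul_mem_cancel_right xS).1 (map_mono les.2.1 this)⟩
  obtain ⟨R, π₁, π₂, G1⟩ := G0.exists_GC1 (fun g hg e => by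
      obtain ⟨g, rfl⟩ := hs g
      have gz' := lz g hg
      have key : ∀ u ∈ QQ, (g : G) * φ₀ u * (g : G)⁻¹ * (φ₀ u)⁻¹ ∈ zpowers z := fun u hu => by
        simpa [hψ] using zp (g * ψ u * g⁻¹ * (ψ u)⁻¹) (N.exp _ (by
          simpa [hψ] using mul_mem (conj_mem_of_mem_normalizer (N.norm_Q gz') (qm u hu)) (inv_mem (qm u hu))))
          (by simpa [hφ] using e _ (mem_map_of_mem φ hu))
      have k1 : ∀ q ∈ Qi 1, (g : G) * q * (g : G)⁻¹ * q⁻¹ ∈ zpowers z := by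
        rw [← e1]; rintro _ ⟨u, hu, rfl⟩; exact key u (les.2.2.2.2.1 hu)
      have k2 : ∀ q ∈ Qi 2, (g : G) * q * (g : G)⁻¹ * q⁻¹ ∈ zpowers z := by
        rw [← e2]; rintro _ ⟨u, hu, rfl⟩; exact key u (les.2.2.2.2.2.1 hu)
      have t1 := (τ1 _ (τ0 g gz')).2.2 (.inl (N.π_cube gz' (a_mem h 1) (a_not h 1) (k1 _ (a_mem h 1))).1)
      exact k12 g (N.mem_H0.2 ⟨gz', t1⟩) ((N.πk 1 g gz' (by rw [t1]; rfl)).2 k1) ((N.πk 2 g gz' (by rw [t1]; rfl)).2 k2))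
    (by
      set T : Subgroup G := Cx z ⊓ Cx (r 0) ⊓ Cx (r 1)
      have h1 : (T.subgroupOf (Cx (r 0))).map f = Cx (φ gz) ⊓ Cx (φ gr) := by
        refine le_antisymm ?_ fun g hg => ?_
        · rintro _ ⟨g, hg, rfl⟩
          exact ⟨mem_Cx.2 (by rw [hφ, ← map_mul, ← map_mul]; exact congrArg f (Subtype.ext (by simpa [hψ, ez] using mem_Cx.1 hg.1.1))),
            mem_Cx.2 (by rw [hφ, ← map_mul, ← map_mul]; exact congrArg f (Subtype.ext (by simpa [hψ, er] using mem_Cx.1 hg.2)))⟩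
        · obtain ⟨g, rfl⟩ := hs g
          have gz' := lz g hg.1
          refine ⟨g, ⟨⟨gz', g.2⟩, mem_Cx'.2 ?_⟩, rfl⟩
          have h2 := fe (g * ψ gr * g⁻¹) (ψ gr) (by simpa [mem_Cx', hφ] using hg.2)
          simp only [coe_mul, coe_inv, hψ, er] at h2
          refine h2.resolve_right fun e => ?_
          have h3 := N.π_Q (i := 0) (conj_r N gz' 1)
          rw [e, hm N 0 _ (mul_mem (r0 N _) (r0 N _)) _ (r0 N _), hm N 0 _ (r0 N _) _ (r0 N _), π_rr N, π_rj N (by decide),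
            π_rj N (by rcases (τ1 _ (τ0 g gz')).2.1 with e | e <;> rw [e] <;> decide)] at h3
          exact absurd h3 (by decide +kernel)
      have h2 := card_ker_map f (T.subgroupOf (Cx (r 0)))
      have h3 : Nat.card (f.ker ⊓ T.subgroupOf (Cx (r 0)) : Subgroup _) = 2 := by
        rw [Nat.card_eq_two_iff' 1]
        refine ⟨⟨⟨r 0, mem_Cx.2 rfl⟩, (hk _).2 (.inr rfl), ⟨N.rz 0, mem_Cx.2 rfl⟩, mem_Cx.2 (N.rm 0 1)⟩,
          fun e => r_ne N 0 (congrArg (fun x => (x.1 : G)) e), fun y hy => Subtype.ext (Subtype.ext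
            (((hk _).1 y.2.1).resolve_left fun e => hy (Subtype.ext (Subtype.ext e))))⟩
      have PT : P ≤ T := fun p hp => ⟨⟨h.Pz hp, h.rc 0 hp⟩, h.rc 1 hp⟩
      have xT : x ∈ T := ⟨⟨xz h, xr h 0⟩, xr h 1⟩
      have h4 : Nat.card T = 10368 := by
        refine le_antisymm ?_ (Nat.le_of_dvd Nat.card_pos (Nat.Coprime.mul_dvd_of_dvd_of_dvd (m := 128) (n := 81) (by norm_num)
          (h.Pc ▸ card_dvd_of_le PT) ?_))
        · have h4 : ∀ t : T, ∃ y : Qi 2 × P × zpowers x, (t : G) = y.1 * y.2.1 * y.2.2 := fun t => by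
            obtain ⟨m, hm'⟩ := dec_x h (N.mem_H0.2 ⟨t.2.1.1, (τ1 _ (τ_of_r N t.2.1.1 t.2.1.2)).2.2 (.inl (τ_of_r N t.2.1.1 t.2.2))⟩)
            obtain ⟨q, hq, p, hp, e⟩ := qp h.toFH hm'
            have qT : q ∈ T := (mul_mem_cancel_right (PT hp)).1 (e ▸ mul_mem t.2 (pow_mem xT m))
            obtain ⟨u, hu, rfl⟩ := mq q hq qT.1.2
            exact ⟨⟨⟨φ₀ u, e2 ▸ mem_map_of_mem φ₀ ((Q2_iff u hu).1 (inj (by simpa [er] using (mem_Cx.1 qT.2).symm)))⟩, ⟨p, hp⟩,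
              ⟨(x ^ m)⁻¹, inv_mem (pow_mem (mem_zpowers x) m)⟩⟩, by simp [← e]⟩
          choose F hF using h4
          have := Nat.card_le_card_of_injective F fun t t' e => Subtype.ext (by rw [hF, hF, e])
          rwa [Nat.card_prod, Nat.card_prod, N.cardi, h.Pc, Es.cardZ (z := x) (fun e => (π_x h 0).1 (e ▸ N.π_one)) R1.x3] at this
        · rw [← W4.cards.2.2.2.2.2.2.2, ← card_map_of_injective inj]
          refine card_dvd_of_le ?_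
          rintro _ ⟨u, hu, rfl⟩
          exact ⟨⟨ez ▸ phi_z φ₀ u, hC u⟩, er ▸ phi_Cx φ₀ ((by decide +kernel : ∀ u ∈ SK, u * gr = gr * u) u hu)⟩
      rw [h1, h3, Nat.card_congr (subgroupOfEquivOfLe (H := T) fun t ht => ht.1.2).toEquiv, h4] at h2
      omega)
    fun g hg => by
      obtain ⟨g, rfl⟩ := hs g
      have gz' := lz g hg.1
      have h1 := lc g gc (ec ▸ R2.c3) hg.2
      rw [ec, mem_Cx'] at h1
      exact cr g gz' gr (by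
        rw [(τ1 _ (τ0 g gz')).2.2 (.inr (N.π_cube gz' (a_mem h 2) (a_not h 2) (by simp [h1])).1), er]; rfl)
  obtain ⟨φ', m, G2, -, e⟩ := G1.exists_GC (fun g => G0.wc) (by
    obtain ⟨u, h1, h2, h3⟩ := h.nw
    refine ⟨f ⟨u, h1⟩, ?_, fun e => h3 ?_⟩
    · have : Subgroup.closure {a 1, a 2, x, z} ≤ SS.map φ₀ := (closure_le _).2 (by
        rw [← ea, ← ec, ← ex, ← ez]
        rintro _ (rfl | rfl | rfl | rfl) <;> exact mem_map_of_mem φ₀ (by decide +kernel))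
      simpa [hφ] using push SS (⟨u, h1⟩ * ψ gz * ⟨u, h1⟩⁻¹) (by simpa [hψ, ez] using this h2)
    · simpa [hψ, ez] using zp (⟨u, h1⟩ * ψ gz * ⟨u, h1⟩⁻¹) (by simp [hψ, ez, N.z3]) (by simpa [hφ] using e))
  simp only [List.forall_mem_cons] at e
  refine ⟨φ', R, π₁, π₂, G2, fun g hg => ?_⟩
  have e0 : QQ.map φ' = QQ.map φ := by
    rw [QQ, MonoidHom.map_closure, MonoidHom.map_closure]
    exact congrArg Subgroup.closure (Set.image_congr (by simpa using ⟨e.1, e.2.1, e.2.2.1, e.2.2.2.1⟩))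
  rw [e0, e.2.2.2.2.2.1, e.2.2.2.2.2.2.1]
  rw [e.2.2.2.2.1] at hg
  obtain ⟨g, rfl⟩ := hs g
  have gz' := lz g hg
  exact (τ1 _ (τ0 g gz')).2.1.imp (fun e => cr g gz' gr (by rw [e, er])) fun e => cr g gz' gs (by rw [e, es])

end CfsgLib.Rec3B
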