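import Cfsg.Agent.Lib.Rec3B.F5
import Cfsg.Agent.Lib.Rec3B.U6
import Cfsg.Agent.Lib.Rec3B.AutFi
import Cfsg.Agent.S1713

/-! The identification of `Fi₂₂` (plans/REC3B.md, F6). -/

set_option autoImplicit false
set_option maxRecDepth 100000
set_option maxHeartbeats 400000

namespace CfsgLib.Rec3B

open Subgroup Cfsg CfsgLib.Tech CfsgLib.PComp CfsgLib.W2 CfsgLib.Rec3 W4
open CfsgLib.U43 (SL)

variable {G : Type*} [Group G] [Finite G]
variable {z x σ : G} {Q P : Subgroup G} {Qi : Fin 3 → Subgroup G} {r a b : Fin 3 → G} {π : Fin 3 → G → SL}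
  {τ : G → Equiv.Perm (Fin 3)}

namespace F6

open F5

theorem perfect_of {K H : Type*} [Group K] [Group H] (f : K →* H) (hs : Function.Surjective f) (hp : Group.IsPerfect H)
    (hk : f.ker ≤ commutator K) : Group.IsPerfect K := ⟨by
  have h : (commutator K).map f = ⊤ := by
    rw [commutator_def, map_commutator, map_top_of_surjective f hs, ← commutator_def, hp.commutator_eq_top]
  rw [← sup_eq_left.2 hk, ← comap_map_eq, h, comap_top]⟩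

theorem fin3 : ∀ j k : Fin 3, j ≠ 0 → k ≠ 0 → j ≠ k → (∀ m ≠ 0, m = k ∨ m = j) ∧ ∀ m ≠ k, m = 0 ∨ m = j := by decide

variable (h : FX z Q P Qi r π τ a b x σ)
include h

theorem cb' {p : G} (hp : p ∈ P) {i : Fin 3} (e : ∀ j ≠ i, π j p = 1) (e' : π i p ≠ 1) : p = r i :=
  (cb h hp e).resolve_left fun e => e' (e ▸ h.π_one)

theorem exists_p {j k : Fin 3} (hj : j ≠ 0) (hk : k ≠ 0) (hjk : j ≠ k) :
    ∃ p ∈ P, π j p = 1 ∧ π 0 p * π 0 p = SL.o 1 ∧ π k p * π k p = SL.o 1 := by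
  have N := h.toNH
  have M : HM P (π j) := (hm N j).mono fun p hp => p0 h.toFH hp
  have key : ∀ i l : Fin 3, i ≠ j → (∀ m ≠ l, m = i ∨ m = j) → ∀ p ∈ M.ker, π i p * π i p ≠ SL.o 1 →
      p = 1 ∨ p = r l ∨ p = r i ∨ p = r l * r i := fun i l hi hl p hp e => by
    obtain ⟨hp, e1⟩ := M.mem_ker.1 hp
    rcases (by decide +kernel : ∀ s : SL, s ^ 4 = 1 → s * s ≠ SL.o 1 → s = 1 ∨ s * SL.o 1 = 1) _ (h.π_P hp) e with e2 | e2
    · exact (cb h hp fun m hm' => by rcases hl m hm' with rfl | rfl; exacts [e2, e1]).imp_right .inl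
    · have := cb h (mul_mem hp (h.rP i)) (i := l) fun m hm' => by
        rw [hm N m _ (p0 h.toFH hp) _ (r0 N i)]
        rcases hl m hm' with rfl | rfl
        exacts [by rw [π_rr N, e2], by rw [e1, π_rj N hi.symm, one_mul]]
      simp only [mul_eq_one_iff_eq_inv, ← eq_mul_inv_iff_mul_eq, inv_eq_of_mul_eq_one_right (N.rr i)] at this
      exact .inr (.inr (by simpa using this))
  by_contra! hn
  have h1 : Nat.card M.ker ≤ 4 := by
    classical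
    refine (Set.ncard_le_ncard (t := ({1, r 0, r k, r 0 * r k} : Finset G)) fun p hp => ?_).trans
      ((Set.ncard_coe_finset _).le.trans Finset.card_le_four)
    by_cases e : π 0 p * π 0 p = SL.o 1
    · simpa using key k 0 hjk.symm (fin3 j k hj hk hjk).1 p hp (hn p (M.mem_ker.1 hp).1 (M.mem_ker.1 hp).2 e)
    · have := key 0 k hj.symm (fin3 j k hj hk hjk).2 p hp e
      rw [N.rm k 0] at this
      simp only [Finset.coe_insert, Finset.coe_singleton, Set.mem_insert_iff, Set.mem_singleton_iff]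
      tauto
  have h2 := M.card
  have h3 := Nat.le_of_dvd (by norm_num) M.dvd
  rw [h.Pc] at h2
  nlinarith

theorem cmt {K : Subgroup G} (hK : ∀ u ∈ Cx (r 0), ∀ v ∈ Cx (r 0), u * v * u⁻¹ * v⁻¹ ∈ K) :
    (∃ p ∈ K, ∃ q ∈ K, p * q * p⁻¹ * q⁻¹ = r 0) ∧ ∀ i, r i ∈ K := by
  have N := h.toNH
  have xP := h.X_P (xz h) (Cx_comm.1 (NBx.prod_mem fun i => Cx_comm.1 (xr h i)))
  have cm : ∀ i, ∀ u ∈ N.H0, ∀ v ∈ N.H0, π i (u * v * u⁻¹ * v⁻¹) = π i u * π i v * (π i u)⁻¹ * (π i v)⁻¹ := fun i u hu v hv => by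
    rw [hm N i _ (mul_mem (mul_mem hu hv) (inv_mem hu)) _ (inv_mem hv), hm N i _ (mul_mem hu hv) _ (inv_mem hu), hm N i _ hu _ hv,
      (hm N i).inv hu, (hm N i).inv hv]
  have key : ∀ j k : Fin 3, j ≠ 0 → k ≠ 0 → j ≠ k →
      ∃ p ∈ P ⊓ K, π j p = 1 ∧ π 0 p * π 0 p = SL.o 1 ∧ p * p * r k = r 0 := fun j k hj hk hjk => by
    obtain ⟨p, hp, e1, e2, e3⟩ := exists_p h hj hk hjk
    have h1 := mul_mem (conj_mem_of_mem_normalizer xP hp) (inv_mem hp)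
    have h2 := fun i => cm i x (x0 h) p (p0 h.toFH hp)
    have h3 : ∀ t s : SL, t ≠ 1 ∧ t ^ 3 = 1 → s * s = SL.o 1 → t * s * t⁻¹ * s⁻¹ * (t * s * t⁻¹ * s⁻¹) = SL.o 1 := by
      decide +kernel
    have h4 := fun i => hm N i _ (mul_mem (p0 h.toFH h1) (p0 h.toFH h1)) _ (r0 N k)
    have h5 := fun i => hm N i _ (p0 h.toFH h1) _ (p0 h.toFH h1)
    refine ⟨_, ⟨h1, hK x (xr h 0) p (h.rc 0 hp)⟩, by rw [h2, e1]; group, by rw [h2, h3 _ _ (π_x h 0) e2],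
      cb' h (mul_mem (mul_mem h1 h1) (h.rP k)) (fun m hm' => ?_) ?_⟩
    · rcases ((fin3 j k hj hk hjk).1 m hm').symm with rfl | rfl
      · rw [h4, h5, h2, e1, π_rj N hjk]; group
      · rw [h4, h5, h2, h3 _ _ (π_x h m) e3, π_rr N]; decide +kernel
    · rw [h4, h5, h2, h3 _ _ (π_x h 0) e2, π_rj N hk.symm]; decide +kernel
  obtain ⟨p, hp, p1, p2, p3⟩ := key 1 2 (by decide) (by decide) (by decide)
  obtain ⟨q, hq, q1, q2, q3⟩ := key 2 1 (by decide) (by decide) (by decide)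
  have fin : ∀ q ∈ P ⊓ K, π 2 q = 1 → π 0 p * π 0 q * (π 0 p)⁻¹ * (π 0 q)⁻¹ ≠ 1 → p * q * p⁻¹ * q⁻¹ = r 0 := fun q hq e1 e2 =>
    cb' h (mul_mem (mul_mem (mul_mem hp.1 hq.1) (inv_mem hp.1)) (inv_mem hq.1)) (fun m hm' => by
      rw [cm m p (p0 h.toFH hp.1) q (p0 h.toFH hq.1)]
      rcases (fin3 1 2 (by decide) (by decide) (by decide)).1 m hm' with rfl | rfl
      exacts [by rw [e1]; group, by rw [p1]; group]) (by rwa [cm 0 p (p0 h.toFH hp.1) q (p0 h.toFH hq.1)])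
  have h1 : ∃ q ∈ P ⊓ K, p * q * p⁻¹ * q⁻¹ = r 0 := by
    have cx : ∀ i, π i (x * q * x⁻¹) = π i x * π i q * (π i x)⁻¹ := fun i => by
      rw [hm N i _ (mul_mem (x0 h) (p0 h.toFH hq.1)) _ (inv_mem (x0 h)), hm N i _ (x0 h) _ (p0 h.toFH hq.1), (hm N i).inv (x0 h)]
    have hq' : x * q * x⁻¹ ∈ P ⊓ K :=
      ⟨conj_mem_of_mem_normalizer xP hq.1, by simpa using mul_mem (hK x (xr h 0) q (h.rc 0 hq.1)) hq.2⟩
    rcases (by decide +kernel : ∀ t s s' : SL, t ≠ 1 ∧ t ^ 3 = 1 → s * s = SL.o 1 → s' * s' = SL.o 1 →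
      s * s' * s⁻¹ * s'⁻¹ ≠ 1 ∨ s * (t * s' * t⁻¹) * s⁻¹ * (t * s' * t⁻¹)⁻¹ ≠ 1) _ _ _ (π_x h 0) p2 q2 with e | e
    exacts [⟨q, hq, fin q hq q1 e⟩, ⟨_, hq', fin _ hq' (by rw [cx, q1]; group) (by rwa [cx])⟩]
  obtain ⟨q', hq', e⟩ := h1
  have r0K : r 0 ∈ K := e ▸ hK p (h.rc 0 hp.1) q' (h.rc 0 hq'.1)
  refine ⟨⟨p, hp.2, q', hq'.2, e⟩, fun i => ?_⟩
  fin_cases i
  exacts [r0K, (K.mul_mem_cancel_left (K.mul_mem hq.2 hq.2)).1 (q3 ▸ r0K), (K.mul_mem_cancel_left (K.mul_mem hp.2 hp.2)).1 (p3 ▸ r0K)]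

open scoped commutatorElement in
theorem core {L : Type*} [Group L] (f : Cx (r 0) →* L) (hs : Function.Surjective f)
    (hk : ∀ g, f g = 1 ↔ (g : G) = 1 ∨ (g : G) = r 0) {L₀ : Subgroup L} (hp : Group.IsPerfect L₀) (hc : commutator L ≤ L₀) :
    Group.IsPerfect (L₀.comap f) ∧ (∃ y : L₀.comap f, (y : G) = r 0) ∧
      ∃ (g : G) (y : L₀.comap f), g * r 0 * g⁻¹ = y ∧ g * r 0 * g⁻¹ ≠ r 0 := by
  have N := h.toNH
  obtain ⟨⟨_, ⟨p, hp', rfl⟩, _, ⟨q, hq, rfl⟩, e⟩, h1⟩ := cmt h (K := (L₀.comap f).map (Cx (r 0)).subtype) fun u hu v hv =>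
    ⟨⁅(⟨u, hu⟩ : Cx (r 0)), ⟨v, hv⟩⁆, hc (map_commutatorElement f _ _ ▸ commutator_mem_commutator (mem_top _) (mem_top _)), rfl⟩
  refine ⟨perfect_of (f.subgroupComap L₀) (fun y => ?_) hp fun y hy => ?_, ?_, σ, ?_⟩
  · obtain ⟨g, hg⟩ := hs y
    exact ⟨⟨g, by simp [mem_comap, hg]⟩, Subtype.ext hg⟩
  · rcases (hk y).1 (congrArg Subtype.val hy) with e' | e'
    · rw [show y = 1 from Subtype.ext (Subtype.ext e')]; exact one_mem _
    · rw [show y = ⁅(⟨p, hp'⟩ : L₀.comap f), ⟨q, hq⟩⁆ from Subtype.ext (Subtype.ext (e'.trans e.symm))]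
      exact commutator_mem_commutator (mem_top _) (mem_top _)
  · obtain ⟨y, hy, e⟩ := h1 0
    exact ⟨⟨y, hy⟩, e⟩
  · obtain ⟨y, hy, e⟩ := h1 (τ σ 0)
    have e' := N.X_r h.σz (by simpa [rho, List.ofFn_succ, mul_assoc] using h.σρ) 0
    refine ⟨⟨y, hy⟩, e'.trans e.symm, fun e'' => ?_⟩
    exact (by decide : ∀ s : Equiv.Perm (Fin 3), s ≠ 1 → s ^ 3 = 1 → s 0 ≠ 0) _ h.σ1 h.σ3 (τ_of_r N h.σz (mem_Cx'.2 e''))

end F6

theorem FX.fi22 (h : FX z Q P Qi r π τ a b x σ) : Spor.IsoFi22 G ∨ Nonempty (G ≃* MulAut Spor.Fi22) := by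
  have N := h.toNH
  have hd : orderOf (r 0) = 2 := ord_two (N.rr 0) (F5.r_ne N 0)
  have : ((zpowers (r 0)).subgroupOf (Cx (r 0))).Normal := ⟨fun y hy g => by
    rw [mem_subgroupOf] at hy ⊢
    rwa [coe_mul, coe_mul, coe_inv, Es.zcj hy g.2]⟩
  let f := QuotientGroup.mk' ((zpowers (r 0)).subgroupOf (Cx (r 0)))
  have hs : Function.Surjective f := QuotientGroup.mk'_surjective _
  have hk : ∀ g, f g = 1 ↔ (g : G) = 1 ∨ (g : G) = r 0 := fun g =>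
    (QuotientGroup.eq_one_iff g).trans (M22T.mem_zpowers_two (N.rr 0))
  obtain ⟨φ, R, π₁, π₂, h1, h2⟩ := h.exists_GC f hs hk
  let := Fintype.ofFinite (GaloisField 2 2)
  have := Unitary.isSimpleGroup_PSU FiTool.card_gf4 (n := 6) (by norm_num) (by norm_num)
  have hp := FiTool.perfect_of_simple (FiTool.center_psu FiTool.card_gf4)
  rcases h1.u6 h2 (K := GaloisField 2 2) FiTool.card_gf4 with ⟨⟨e⟩⟩ | ⟨L₀, h3, ⟨e⟩, h4⟩
  · obtain ⟨h5, -, g, y, h6, h7⟩ := F6.core h f hs hk (L₀ := ⊤)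
      (Group.IsPerfect.top_iff.2 (Group.IsPerfect.ofSurjective (f := e.symm.toMonoidHom) e.symm.surjective)) le_top
    obtain ⟨Λ, R⟩ := M22T.cor22 FiTool.card_gf4 hd e
    obtain ⟨e', -⟩ := M22T.main22 R (Group.IsPerfect.top_iff.1 (comap_top f ▸ h5)) ⟨g, h6 ▸ y.1.2, h7⟩
    exact .inl ⟨e'⟩
  · have := normal_of_index_eq_two h3
    obtain ⟨h5, h6, h7⟩ := F6.core h f hs hk (L₀ := L₀)
      (Group.IsPerfect.ofSurjective (f := e.symm.toMonoidHom) e.symm.surjective) (commutator_le.2 fun u _ v _ => by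
        rw [commutatorElement_def, mul_mem_iff_of_index_two h3, inv_mem_iff]
        exact this.mem_comm_iff.trans (by simp))
    refine .inr (autFi22 hd ((index_comap_of_surjective _ hs).trans h3) h5 FiTool.card_gf4
      (e.toMonoidHom.comp (f.subgroupComap L₀)) (e.surjective.comp fun y => ?_)
      (fun y => e.map_eq_one_iff.trans (Subtype.ext_iff.trans (hk y))) h6 (fun c hc => (hk c).1 (mem_bot.1 (h4 ▸ ?_))) h7)
    · obtain ⟨g, hg⟩ := hs y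
      exact ⟨⟨g, by simp [mem_comap, hg]⟩, Subtype.ext hg⟩
    · intro y hy
      obtain ⟨y, rfl⟩ := hs y
      rw [← map_mul, ← map_mul, hc y hy]

end CfsgLib.Rec3B
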