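import Cfsg.Agent.Lib.Rec3B.NB

/-! The group `C(z) / Q` in the case of three factors (plans/REC3B.md, FB). -/

set_option autoImplicit false
set_option maxRecDepth 100000
set_option maxHeartbeats 400000
set_option linter.unusedSectionVars false
set_option linter.unusedVariables false

namespace CfsgLib.Rec3B

open Subgroup Cfsg CfsgLib.Tech CfsgLib.PComp CfsgLib.W2 CfsgLib.Rec3 W4
open CfsgLib.U43 (SL)

variable {G : Type*} [Group G] [Finite G]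
variable {z x σ : G} {Q P : Subgroup G} {Qi : Fin 3 → Subgroup G} {r a b : Fin 3 → G} {π : Fin 3 → G → SL}
  {τ : G → Equiv.Perm (Fin 3)}

namespace FBx

open CfsgLib.Sect Es NBx

theorem idx3 {F : Type*} [Group F] {T D : Subgroup G} (f : T →* F) (hF : ¬ 9 ∣ Nat.card F) (hD : D ≤ T)
    (h3 : IsPGroup 3 D) : (f.ker.map T.subtype).relIndex D ≤ 3 := by
  have : Fact (Nat.Prime 3) := ⟨by norm_num⟩
  have e : (f.ker.map T.subtype).subgroupOf D = (f.comp (inclusion hD)).ker := by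
    ext x
    exact ⟨by rintro ⟨a, ha, k⟩; rwa [show a = inclusion hD x from Subtype.ext k] at ha, fun k => ⟨_, k, rfl⟩⟩
  obtain ⟨k, hk⟩ := h3.index (f.comp (inclusion hD)).ker
  have d := card_subgroup_dvd_card (f.comp (inclusion hD)).range
  rw [← index_ker, hk] at d
  rw [relIndex, e, hk]
  rcases k with _ | _ | k
  · omega
  · omega
  · exact absurd ((pow_dvd_pow 3 (show 2 ≤ k + 1 + 1 by omega)).trans d) hF

theorem comm9 {D : Subgroup G} (hD : D ≤ normalizer (Q : Set G)) (h3 : IsPGroup 3 D) (h9 : Q.relIndex D ≤ 9) :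
    ∀ u ∈ D, ∀ v ∈ D, u * v * u⁻¹ * v⁻¹ ∈ Q := fun u hu v hv => by
  have : Fact (Nat.Prime 3) := ⟨by norm_num⟩
  have := normal_subgroupOf_of_le_normalizer hD
  obtain ⟨k, hk⟩ := h3.index (Q.subgroupOf D)
  have c : IsMulCommutative (D ⧸ Q.subgroupOf D) := by
    rw [relIndex, hk] at h9
    rcases k with _ | _ | _ | k
    · exact (isCyclic_of_card_dvd_prime (p := 3) (hk.dvd.trans (one_dvd _))).isMulCommutative
    · exact (isCyclic_of_card_dvd_prime (p := 3) hk.dvd).isMulCommutative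
    · exact IsPGroup.isMulCommutative_of_card_eq_prime_sq (p := 3) hk
    · have := Nat.pow_le_pow_right (show 0 < 3 by omega) (show 3 ≤ k + 1 + 1 + 1 by omega)
      omega
  exact (mk_comm_iff (N := Q.subgroupOf D) (a := ⟨u, hu⟩) (h := ⟨v, hv⟩)).1 (c.is_comm.comm _ _)

theorem cube {F : Type*} [Group F] (hF : ∀ s : F, s ^ 9 = 1 → s ^ 3 = 1) {s : F} :
    ∀ {k : ℕ}, s ^ 3 ^ k = 1 → s ^ 3 = 1
  | 0, e => by rw [pow_zero, pow_one] at e; rw [e, one_pow]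
  | 1, e => e
  | k + 2, e => cube hF (k := k + 1) (by
      have := hF (s ^ 3 ^ k) (by rw [← pow_mul, ← e]; congr 1; ring)
      rwa [← pow_mul] at this)

/-- elements of order four -/
def O4 (s : SL) : Prop := s ^ 4 = 1 ∧ s ^ 2 ≠ 1

instance (s : SL) : Decidable (O4 s) := inferInstanceAs (Decidable (_ ∧ _))

end FBx

open CfsgLib.Sect Es NBx FBx

namespace FH

variable (h : FH z Q P Qi r π τ) {g k p : G} {i j : Fin 3}
include h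

theorem P_H0 (hp : p ∈ P) : p ∈ h.H0 := h.mem_H0.2 ⟨h.Pz hp, h.Pτ p hp⟩

theorem P_pow (hp : p ∈ P) : p ^ 128 = 1 := by
  rw [← h.Pc]; exact congrArg Subtype.val (pow_card_eq_one' (x := (⟨p, hp⟩ : P)))

theorem cj_H0 (hg : g ∈ Cx z) (hk : k ∈ h.H0) : g * k * g⁻¹ ∈ h.H0 := by
  obtain ⟨k1, k2⟩ := h.mem_H0.1 hk
  refine h.mem_H0.2 ⟨mul_mem (mul_mem hg k1) (inv_mem hg), ?_⟩
  rw [h.τm _ (mul_mem hg k1) _ (inv_mem hg), h.τm _ hg _ k1, k2, h.τ_inv hg, mul_one, mul_inv_cancel]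

theorem π_cj (hg : g ∈ Cx z) (hk : k ∈ h.H0) (m : ℕ) : π (τ g i) (g * k * g⁻¹) ^ m = 1 ↔ π i k ^ m = 1 := by
  have a := h.cj_H0 hg hk
  have b := h.mem_St.1 (pow_mem (h.H0_le (τ g i) a) m)
  have c := h.mem_St.1 (pow_mem (h.H0_le i hk) m)
  rw [← h.π_pow (h.H0_le _ a), ← h.π_pow (h.H0_le _ hk), h.πk _ _ b.1 b.2, h.πk _ _ c.1 c.2, conj_pow]
  constructor
  · intro e q hq
    have := e _ (h.cj_mem hg hq)
    rw [← zcj this (inv_mem hg)] at this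
    convert this using 1
    group
  · intro e q hq
    have := e _ (mem_cj.1 ((h.τa g hg i).ge hq))
    rw [← zcj this hg] at this
    convert this using 1
    group

theorem π_cj1 (hg : g ∈ Cx z) (hk : k ∈ h.H0) : π (τ g i) (g * k * g⁻¹) = 1 ↔ π i k = 1 := by
  simpa using h.π_cj (i := i) hg hk 1

theorem π_cmt (hg : g ∈ h.H0) (hk : k ∈ h.H0) :
    π i (g * k * g⁻¹ * k⁻¹) = π i g * π i k * (π i g)⁻¹ * (π i k)⁻¹ := by
  have a := h.H0_le i hg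
  have b := h.H0_le i hk
  rw [h.π_mul (mul_mem (mul_mem a b) (inv_mem a)) (inv_mem b), h.π_mul (mul_mem a b) (inv_mem a), h.π_mul a b,
    h.π_inv a, h.π_inv b]

theorem Q_H0 (hg : g ∈ Q) : g ∈ h.H0 := h.mem_H0.2 ⟨h.zc hg, h.τ_Q hg⟩

theorem split (hg : g ∈ Q ⊔ P) : ∃ p ∈ P, ∃ q ∈ Q, g = p * q :=
  (mem_sup_of_norm fun a ha b hb => conj_mem_of_mem_normalizer (h.norm_Q (h.Pz ha)) hb).1 (sup_comm Q P ▸ hg)

theorem P_inj (hp : p ∈ P) (hk : k ∈ P) (e : ∀ i, π i p = π i k) : p = k := by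
  have a := mul_mem (inv_mem hp) hk
  have b : p⁻¹ * k ∈ Q := h.mem_Q (h.Pz a) (h.Pτ _ a) fun i => by
    have c := h.H0_le i (h.P_H0 hp)
    rw [h.π_mul (inv_mem c) (h.H0_le i (h.P_H0 hk)), h.π_inv c, e, inv_mul_cancel]
  have c := h.P_pow a
  rw [show 128 = 3 * 42 + 2 by rfl, pow_add, pow_mul, h.exp _ b, one_pow, one_mul, sq] at c
  exact inv_mul_eq_one.1 (eq_one (h.exp _ b) c)

theorem lift (hg : g ∈ h.H0) (e : ∀ i, π i g ^ 4 = 1) : ∃ p ∈ P, ∀ i, π i p = π i g := by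
  obtain ⟨p, hp, q, hq, rfl⟩ := h.split (h.two g (h.mem_H0.1 hg).1 (h.mem_H0.1 hg).2 e)
  exact ⟨p, hp, fun i => by
    rw [h.π_mul (h.H0_le i (h.P_H0 hp)) (h.H0_le i (h.Q_H0 hq)), h.π_Q hq, mul_one]⟩

/-- an element acting on one factor only, with order four -/
def PA (i : Fin 3) : Prop := ∃ k ∈ h.H0, O4 (π i k) ∧ ∀ j ≠ i, π j k = 1

/-- an element acting with order three or six -/
def PB (i : Fin 3) : Prop := ∃ k ∈ h.H0, π i k ^ 4 ≠ 1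

/-- an element acting with order four -/
def PC (i : Fin 3) : Prop := ∃ k ∈ h.H0, O4 (π i k)

theorem PA.cj (hg : g ∈ Cx z) : h.PA i → h.PA (τ g i) := fun ⟨k, hk, e, e'⟩ =>
  ⟨_, h.cj_H0 hg hk, ⟨(h.π_cj hg hk 4).2 e.1, mt (h.π_cj hg hk 2).1 e.2⟩, fun j hj => by
    obtain ⟨j, rfl⟩ := (τ g).surjective j
    exact (h.π_cj1 hg hk).2 (e' j fun c => hj (c ▸ rfl))⟩

theorem PB.cj (hg : g ∈ Cx z) : h.PB i → h.PB (τ g i) := fun ⟨k, hk, e⟩ =>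
  ⟨_, h.cj_H0 hg hk, mt (h.π_cj hg hk 4).1 e⟩

theorem PC.cj (hg : g ∈ Cx z) : h.PC i → h.PC (τ g i) := fun ⟨k, hk, e⟩ =>
  ⟨_, h.cj_H0 hg hk, (h.π_cj hg hk 4).2 e.1, mt (h.π_cj hg hk 2).1 e.2⟩

theorem factK (hA : ∀ i, h.PA i) (hB : ∀ i, h.PB i) : False := by
  have full : ∀ i (α : {s : SL // s ^ 4 = 1}), ∃ k ∈ h.H0, π i k = α ∧ ∀ j ≠ i, π j k = 1 := fun i α => by
    obtain ⟨k, hk, e1, e2⟩ := hA i
    obtain ⟨g, hg, e3⟩ := hB i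
    obtain ⟨u, v, e⟩ := (by decide +kernel : ∀ s : SL, O4 s → ∀ t : SL, t ^ 4 ≠ 1 → ∀ α : SL, α ^ 4 = 1 →
      ∃ u v : Fin 4, s ^ u.1 * (t * s * t⁻¹) ^ v.1 = α) _ e1 _ e3 _ α.2
    have c := mul_mem (mul_mem hg hk) (inv_mem hg)
    have f : ∀ j, π j (k ^ u.1 * (g * k * g⁻¹) ^ v.1) = π j k ^ u.1 * (π j g * π j k * (π j g)⁻¹) ^ v.1 := fun j => by
      have a := h.H0_le j hg
      have b := h.H0_le j hk
      rw [h.π_mul (pow_mem b _) (pow_mem (h.H0_le j c) _), h.π_pow b, h.π_pow (h.H0_le j c),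
        h.π_mul (mul_mem a b) (inv_mem a), h.π_mul a b, h.π_inv a]
    exact ⟨_, mul_mem (pow_mem hk u.1) (pow_mem c v.1), (f i).trans e, fun j hj => by rw [f, e2 j hj]; simp⟩
  have all : ∀ α : Fin 3 → {s : SL // s ^ 4 = 1}, ∃ p : P, ∀ i, π i p = α i := fun α => by
    choose k hk e1 e2 using fun i => full i (α i)
    have f : ∀ i, π i (k 0 * k 1 * k 2) = α i := fun i => by
      rw [h.π_mul (h.H0_le i (mul_mem (hk 0) (hk 1))) (h.H0_le i (hk 2)),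
        h.π_mul (h.H0_le i (hk 0)) (h.H0_le i (hk 1))]
      fin_cases i <;> simp [e1, e2]
    obtain ⟨p, hp, e⟩ := h.lift (mul_mem (mul_mem (hk 0) (hk 1)) (hk 2)) fun i => by rw [f]; exact (α i).2
    exact ⟨⟨p, hp⟩, fun i => (e i).trans (f i)⟩
  choose F hF using all
  have := Nat.card_le_card_of_injective F fun α β e => funext fun i => Subtype.ext (by rw [← hF, ← hF, e])
  rw [h.Pc, Nat.card_fun, Nat.card_eq_fintype_card, Nat.card_eq_fintype_card, Fintype.card_subtype,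
    (by decide +kernel : (Finset.univ.filter fun s : SL => s ^ 4 = 1).card = 8)] at this
  simp at this

theorem PA_of (hC : h.PC i) (hg : g ∈ h.H0) (hk : k ∈ h.H0) (e1 : π i g ^ 4 ≠ 1) (e2 : π i k ^ 4 ≠ 1)
    (e : ∀ j ≠ i, π j g = 1 ∨ π j k = 1) : h.PA i := by
  obtain ⟨p, hp, e3⟩ := hC
  have c := mul_mem (mul_mem (mul_mem hp hg) (inv_mem hp)) (inv_mem hg)
  have d : ∀ s : SL, O4 s → ∀ t : SL, t ^ 4 ≠ 1 → O4 (s * t * s⁻¹ * t⁻¹) := by decide +kernel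
  refine ⟨_, mul_mem (mul_mem (mul_mem c hk) (inv_mem c)) (inv_mem hk), ?_, fun j hj => ?_⟩
  · rw [h.π_cmt c hk, h.π_cmt hp hg]
    exact d _ (d _ e3 _ e1) _ e2
  · rw [h.π_cmt c hk, h.π_cmt hp hg]
    rcases e j hj with e | e <;> simp [e]

theorem PC_of (hg : g ∈ h.H0) (e1 : π i g ^ 3 = 1) (e2 : π i g ≠ 1) (e : ∀ j ≠ i, π j g = 1) : h.PC i := by
  by_contra hC
  let N : Subgroup G :=
    { carrier := {k | k ∈ h.H0 ∧ ∀ j, π j k ^ 3 = 1 ∧ (h.PC j → π j k = 1)}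
      one_mem' := ⟨one_mem _, fun j => by simp [h.π_one]⟩
      mul_mem' := fun {a b} ha hb => ⟨mul_mem ha.1 hb.1, fun j => by
        have a1 := h.H0_le j ha.1
        have b1 := h.H0_le j hb.1
        rw [h.π_mul a1 b1]
        by_cases c : h.PC j
        · simp [(ha.2 j).2 c, (hb.2 j).2 c]
        refine ⟨(by decide +kernel : ∀ s t : SL, s ^ 3 = 1 → t ^ 3 = 1 → ¬ O4 (s * t) → ¬ O4 (s * t⁻¹) →
          (s * t) ^ 3 = 1) _ _ (ha.2 j).1 (hb.2 j).1 (fun k => c ⟨_, mul_mem ha.1 hb.1, ?_⟩)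
          (fun k => c ⟨_, mul_mem ha.1 (inv_mem hb.1), ?_⟩), fun k => absurd k c⟩
        · rwa [h.π_mul a1 b1]
        · rwa [h.π_mul a1 (inv_mem b1), h.π_inv b1]⟩
      inv_mem' := fun {a} ha => ⟨inv_mem ha.1, fun j => by
        rw [h.π_inv (h.H0_le j ha.1), inv_pow, inv_eq_one, inv_eq_one]
        exact ha.2 j⟩ }
  refine e2 (h.π_Q (h.core N (fun k hk => (h.mem_H0.1 hk.1).1) (fun a ha => mem_normalizer_of_forall fun k hk =>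
    ⟨h.cj_H0 ha hk.1, fun j => ?_⟩) (isPGroup_iff_mem.2 fun k hk => ⟨2, ?_⟩) ⟨hg, fun j => ?_⟩))
  · obtain ⟨j, rfl⟩ := (τ a).surjective j
    refine ⟨(h.π_cj ha hk.1 3).2 (hk.2 j).1, fun c => (h.π_cj1 ha hk.1).2 ((hk.2 j).2 ?_)⟩
    simpa [h.τ_inv ha] using PC.cj h (inv_mem ha) c
  · have c := h.mem_H0.1 (pow_mem hk.1 3)
    rw [sq, pow_mul]
    exact h.exp _ (h.mem_Q c.1 c.2 fun j => by rw [h.π_pow (h.H0_le j hk.1), (hk.2 j).1])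
  · by_cases c : j = i
    · subst c
      exact ⟨e1, fun k => absurd k hC⟩
    · simp [e j c]

theorem ex_g (σz : σ ∈ Cx z) (σ1 : τ σ ≠ 1) (σ3 : τ σ ^ 3 = 1) (i j : Fin 3) : ∃ g ∈ Cx z, τ g i = j := by
  obtain ⟨m, e⟩ := (by decide : ∀ s : Equiv.Perm (Fin 3), s ≠ 1 → s ^ 3 = 1 → ∀ i j, ∃ m : Fin 3, (s ^ m.1) i = j)
    _ σ1 σ3 i j
  exact ⟨_, pow_mem σz m.1, by rwa [h.τ_pow σz]⟩

theorem PC_all (σz : σ ∈ Cx z) (σ1 : τ σ ≠ 1) (σ3 : τ σ ^ 3 = 1) : h.PC i := by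
  by_contra hC
  have all : ∀ (p : P) j, π j p ^ 2 = 1 := fun p j => by
    by_contra c
    obtain ⟨g, hg, rfl⟩ := h.ex_g σz σ1 σ3 j i
    refine hC (PC.cj h hg ⟨p, h.P_H0 p.2, ?_, c⟩)
    refine (by decide +kernel : ∀ s : SL, s ^ 128 = 1 → s ^ 4 = 1) _ ?_
    rw [← h.π_pow (h.H0_le j (h.P_H0 p.2)), h.P_pow p.2, h.π_one]
  have := Nat.card_le_card_of_injective (fun (p : P) j => (⟨π j p, all p j⟩ : {s : SL // s ^ 2 = 1}))
    fun a b e => Subtype.ext (h.P_inj a.2 b.2 fun j => congrArg Subtype.val (congrFun e j))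
  rw [h.Pc, Nat.card_fun, Nat.card_eq_fintype_card, Nat.card_eq_fintype_card, Fintype.card_subtype,
    (by decide +kernel : (Finset.univ.filter fun s : SL => s ^ 2 = 1).card = 2)] at this
  simp at this

theorem not_AB (σz : σ ∈ Cx z) (σ1 : τ σ ≠ 1) (σ3 : τ σ ^ 3 = 1) (hA : h.PA i) (hB : h.PB j) : False :=
  h.factK (fun l => by obtain ⟨g, hg, rfl⟩ := h.ex_g σz σ1 σ3 i l; exact PA.cj h hg hA)
    fun l => by obtain ⟨g, hg, rfl⟩ := h.ex_g σz σ1 σ3 j l; exact PB.cj h hg hB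

theorem lemB (σz : σ ∈ Cx z) (σ1 : τ σ ≠ 1) (σ3 : τ σ ^ 3 = 1) (hk : k ∈ h.H0)
    (e : ∀ j, π j k = 1 ∨ π j k ^ 4 ≠ 1) (e1 : π i k = 1) : π j k = 1 := by
  by_contra e2
  have e3 := (e j).resolve_left e2
  have ij : i ≠ j := fun c => e2 (c ▸ e1)
  by_cases c : ∀ l ≠ j, π l k = 1
  · exact h.not_AB σz σ1 σ3 (h.PA_of (h.PC_all σz σ1 σ3) hk hk e3 e3 fun l hl => Or.inl (c l hl)) ⟨k, hk, e3⟩
  push Not at c
  obtain ⟨l, lj, e4⟩ := c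
  have li : l ≠ i := fun c => e4 (c ▸ e1)
  have al : ∀ m, m = i ∨ m = j ∨ m = l := fun m => by omega
  obtain ⟨g, hg, rfl⟩ := h.ex_g σz σ1 σ3 i j
  refine h.not_AB σz σ1 σ3 (h.PA_of (i := l) (h.PC_all σz σ1 σ3) hk (h.cj_H0 hg hk) ((e l).resolve_left e4) ?_
    fun m hm => ?_) ⟨k, hk, e3⟩
  · obtain ⟨m, hm⟩ := (τ g).surjective l
    rw [← hm, Ne, h.π_cj hg hk]
    rcases al m with rfl | rfl | rfl
    exacts [absurd hm.symm lj, e3, (e _).resolve_left e4]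
  · rcases al m with rfl | rfl | rfl
    exacts [Or.inl e1, Or.inr ((h.π_cj1 hg hk).2 e1), absurd rfl hm]

theorem π_P (hp : p ∈ P) : π i p ^ 4 = 1 := by
  refine (by decide +kernel : ∀ s : SL, s ^ 128 = 1 → s ^ 4 = 1) _ ?_
  rw [← h.π_pow (h.H0_le i (h.P_H0 hp)), h.P_pow hp, h.π_one]

theorem X_P (hg : g ∈ Cx z) (hρ : g ∈ Cx (rho r)) : g ∈ normalizer (P : Set G) := by
  have Pρ : P ≤ Cx (rho r) := fun p hp => Cx_comm.1 (prod_mem fun i => Cx_comm.1 (h.rc i hp))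
  refine mem_normalizer_of_forall fun p hp => ?_
  have c := h.mem_H0.1 (h.cj_H0 hg (h.P_H0 hp))
  obtain ⟨p', hp', q, hq, e⟩ := h.split (h.two _ c.1 c.2 fun i => by
    obtain ⟨i, rfl⟩ := (τ g).surjective i
    exact (h.π_cj hg (h.P_H0 hp) 4).2 (h.π_P hp))
  have qz : q ∈ zpowers z := h.inf_X.le (mem_inf.2 ⟨hq, by
    rw [← mul_mem_cancel_left (Pρ hp'), ← e]
    exact mul_mem (mul_mem hρ (Pρ hp)) (inv_mem hρ)⟩)
  have c2 : (p' * q) ^ 128 = 1 := by rw [← e, conj_pow, h.P_pow hp]; group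
  rw [(show Commute p' q from Es.zc qz (h.Pz hp')).mul_pow, h.P_pow hp', one_mul, show 128 = 3 * 42 + 2 by rfl,
    pow_add, pow_mul, h.exp _ hq, one_pow, one_mul, sq] at c2
  rwa [e, eq_one (h.exp _ hq) c2, mul_one]

/-- Sylow `3`-subgroups of `C(z) / Q` are abelian of order at most nine -/
theorem three {D : Subgroup G} (hD : D ≤ Cx z) (h3 : IsPGroup 3 D) :
    Q.relIndex D ≤ 9 ∧ ∀ u ∈ D, ∀ v ∈ D, u * v * u⁻¹ * v⁻¹ ∈ Q := by
  refine (fun k => ⟨k, comm9 (fun g hg => h.norm_Q (hD hg)) h3 k⟩) ?_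
  have c3 : ∀ g ∈ D, g ∈ h.H0 → ∀ i, π i g ^ 3 = 1 := fun g hg g0 i => by
    obtain ⟨k, hk⟩ := isPGroup_iff_mem.1 h3 g hg
    exact cube (k := k) (by decide +kernel) (by rw [← h.π_pow (h.H0_le i g0), hk, h.π_one])
  have c4 : ∀ s : SL, s ^ 3 = 1 → s = 1 ∨ s ^ 4 ≠ 1 := by decide +kernel
  have cS : ¬ 9 ∣ Nat.card SL := by rw [show Nat.card SL = 24 from Nat.card_fin 24]; decide
  have mK : ∀ {g i}, g ∈ (h.πh i).ker.map (h.St i).subtype ↔ g ∈ h.St i ∧ π i g = 1 :=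
    ⟨by rintro ⟨a, ha, rfl⟩; exact ⟨a.2, ha⟩, fun k => ⟨⟨_, k.1⟩, k.2, rfl⟩⟩
  by_cases c : D ≤ h.H0
  · by_cases c' : ∀ i, ∃ g ∈ D, π i g ≠ 1 ∧ ∀ j ≠ i, π j g = 1
    · choose g hg e1 e2 using c'
      have e3 := fun i => (c4 _ (c3 _ (hg i) (c (hg i)) i)).resolve_left (e1 i)
      exact (h.factK (fun i => h.PA_of (h.PC_of (c (hg i)) (c3 _ (hg i) (c (hg i)) i) (e1 i) (e2 i)) (c (hg i))
        (c (hg i)) (e3 i) (e3 i) fun j hj => Or.inl (e2 i j hj)) fun i => ⟨_, c (hg i), e3 i⟩).elim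
    push Not at c'
    obtain ⟨i, hi⟩ := c'
    obtain ⟨j, l, al⟩ := (by decide : ∀ i : Fin 3, ∃ j l, ∀ m ≠ i, m = j ∨ m = l) i
    rw [relIndex_congr (M := (h.πh j).ker.map (h.St j).subtype ⊓ (h.πh l).ker.map (h.St l).subtype) fun g hg =>
      ⟨fun k => ⟨mK.2 ⟨h.H0_le j (c hg), h.π_Q k⟩, mK.2 ⟨h.H0_le l (c hg), h.π_Q k⟩⟩, fun k => ?_⟩]
    · exact relIndex_inf_le.trans (Nat.mul_le_mul (idx3 _ cS (c.trans (h.H0_le j)) h3)
        (idx3 _ cS (c.trans (h.H0_le l)) h3))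
    have f : ∀ m ≠ i, π m g = 1 := fun m hm => by
      rcases al m hm with rfl | rfl
      exacts [(mK.1 k.1).2, (mK.1 k.2).2]
    refine h.mem_Q (hD hg) (h.mem_H0.1 (c hg)).2 fun m => ?_
    by_cases e : m = i
    · subst e
      by_contra e
      obtain ⟨j, hj, e'⟩ := hi g hg e
      exact e' (f j hj)
    · exact f m e
  · obtain ⟨σ, hσ, n0⟩ := SetLike.not_le_iff_exists.1 c
    have σ1 : τ σ ≠ 1 := fun e => n0 (h.mem_H0.2 ⟨hD hσ, e⟩)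
    have σ3 : τ σ ^ 3 = 1 := by
      obtain ⟨k, hk⟩ := isPGroup_iff_mem.1 h3 σ hσ
      exact cube (k := k) (by decide) (by rw [← h.τ_pow (hD hσ), hk, h.τ_one])
    refine (relIndex_le_mul Q D h.H0).trans (Nat.mul_le_mul (?_ : _ ≤ 3)
      (idx3 h.τh (by rw [Nat.card_perm, Nat.card_fin]; decide) hD h3))
    rw [relIndex_congr (H := D ⊓ h.H0) (M := (h.πh 0).ker.map (h.St 0).subtype) fun g hg =>
      ⟨fun k => mK.2 ⟨h.H0_le 0 hg.2, h.π_Q k⟩, fun k => h.mem_Q (hD hg.1) (h.mem_H0.1 hg.2).2 fun j =>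
        h.lemB (hD hσ) σ1 σ3 hg.2 (fun m => c4 _ (c3 g hg.1 hg.2 m)) (mK.1 k).2⟩]
    exact idx3 _ cS (inf_le_right.trans (h.H0_le 0)) (h3.to_le inf_le_left)

section

variable (σz : σ ∈ Cx z) (σ1 : τ σ ≠ 1) (σ3 : τ σ ^ 3 = 1)
include σz σ1 σ3

theorem cyc_a (hg : g ∈ Cx z) (h1 : τ g = 1) (e : π i g ^ 4 = 1) : π j g ^ 4 = 1 := by
  have g0 := h.mem_H0.2 ⟨hg, h1⟩
  rw [← h.π_pow (h.H0_le _ g0)] at e ⊢
  refine h.lemB σz σ1 σ3 (pow_mem g0 4) (fun m => ?_) e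
  rw [h.π_pow (h.H0_le _ g0)]
  exact (by decide +kernel : ∀ s : SL, s ^ 4 = 1 ∨ (s ^ 4) ^ 4 ≠ 1) _

theorem cyc_b (hg : g ∈ Cx z) (h1 : τ g = 1) (e : π 0 g ^ 4 ≠ 1) (hp : p ∈ P) (e' : ∀ j ≠ i, π j p = 1) :
    p = 1 ∨ p = r i := by
  rcases (by decide +kernel : ∀ s : SL, s ^ 4 = 1 → O4 s ∨ s = 1 ∨ s = SL.o 1) _ (h.π_P (i := i) hp) with c | c | c
  · exact (h.not_AB σz σ1 σ3 ⟨p, h.P_H0 hp, c, e'⟩ ⟨g, h.mem_H0.2 ⟨hg, h1⟩, e⟩).elim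
  · refine Or.inl (h.P_inj hp (one_mem _) fun j => ?_)
    rw [h.π_one]
    by_cases k : j = i
    exacts [k ▸ c, e' j k]
  · refine Or.inr (h.P_inj hp (h.rP i) fun j => ?_)
    by_cases k : j = i
    · rw [k, c, (h.π_r (j := i)).1]
    · rw [e' j k, h.π_r.2 k]

theorem cyc_c (hg : g ∈ Cx z) (h1 : τ g = 1) (e : π 0 g ^ 4 ≠ 1) (hk : k ∈ Cx z) (k1 : τ k = 1) :
    ∃ m : ℕ, k * g ^ m ∈ Q ⊔ P := by
  have g0 := h.mem_H0.2 ⟨hg, h1⟩
  have k0 := h.mem_H0.2 ⟨hk, k1⟩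
  obtain ⟨m, hm⟩ := (by decide +kernel : ∀ s t : SL, t ^ 4 ≠ 1 → ∃ m : Fin 3, (s * t ^ m.1) ^ 4 = 1) (π 0 k) _ e
  have c := h.mem_H0.1 (mul_mem k0 (pow_mem g0 m.1))
  refine ⟨m, h.two _ c.1 c.2 fun j => h.cyc_a (i := 0) σz σ1 σ3 c.1 c.2 ?_⟩
  rwa [h.π_mul (h.H0_le 0 k0) (h.H0_le 0 (pow_mem g0 _)), h.π_pow (h.H0_le 0 g0)]

end

end FH

end CfsgLib.Rec3B
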